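import Groth.Agent.EtQC.WeakAss
import Groth.Agent.AlgSpDec.Fibres
import Groth.Agent.WeakAss.Basic

/-!
# Direct images and global sections versus weakly associated points
-/

set_option autoImplicit false
set_option backward.isDefEq.respectTransparency false
set_option backward.isDefEq.respectTransparency.types false

universe u

open CategoryTheory CategoryTheory.Limits AlgebraicGeometry Opposite AlgSp
open scoped TensorProduct

namespace Groth.Agent.EtQC

variable {S : Scheme.{u}} {X Y : Sp S} {f : X ⟶ Y}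

/-- A weakly associated point with the algebra data of the pullback chart. -/
theorem exists_chart_point (hY : IsAlgSpace Y) (hf : Representable f) (haff : IsAffineMor f) (M : ModEt X)
    [M.IsQuasicoherent] {x : Points X} (hx : x ∈ WeakAssEt M) :
    ∃ (E : EtOver Y) (_ : IsAffine E.obj.left.left) (_ : IsAffine (EtOver.bcObj hf E).obj.left.left)
      (v : E.obj.left.left) (w : (EtOver.bcObj hf E).obj.left.left), Points.ofPt E.obj.hom v = Points.map f x ∧
      (EtOver.bcπ hf E).left w = v ∧ IsWeakAssOn M (EtOver.bcObj hf E) w := by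
  obtain ⟨E, hE, v, hv⟩ := exists_affine_chart hY (Points.map f x)
  haveI := hE
  haveI := WeakAssEtLib.isAffine_bcObj hf haff E hE
  obtain ⟨w, hw₁, hw₂⟩ := AlgSpPts.exists_lift (EtOver.isPullback_bcObj hf E) hv.symm
  exact ⟨E, hE, inferInstance, v, w, hv, hw₂, (mem_weakAssEt_iff M _ w).1 (hw₁.symm ▸ hx)⟩

theorem annSect_push (hf : Representable f) (M : ModEt X) (E : EtOver Y) (t : sectModEt M (EtOver.bcObj hf E)) :
    annSect (M := (pushModEt hf).obj M) (E := E) t = (annSect t).comap (EtOver.bcπ hf E).left.appTop.hom := by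
  ext a
  rw [mem_annSect_iff, Ideal.mem_comap, mem_annSect_iff]
  exact Iff.rfl

/-- Over a locally noetherian source weakly associated points push forward along affine morphisms. -/
theorem image_subset_of_locNoeth (hY : IsAlgSpace Y) (hf : Representable f) (haff : IsAffineMor f)
    (hX : IsLocNoethSp X) (M : ModEt X) [M.IsQuasicoherent] :
    Points.map f '' WeakAssEt M ⊆ WeakAssEt ((pushModEt hf).obj M) := by
  rintro _ ⟨x, hx, rfl⟩
  obtain ⟨E, hE, hE', v, w, hv, hwv, hw⟩ := exists_chart_point hY hf haff M hx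
  haveI := hE
  haveI := hE'
  haveI := AlgSpDec.isLocallyNoetherian_chart (EtOver.bcObj hf E).property hX
  haveI : IsNoetherianRing (Fn (EtOver.bcObj hf E)) :=
    IsLocallyNoetherian.component_noetherian ⟨⊤, isAffineOpen_top _⟩
  refine ⟨E, hE, v, hv, ?_⟩
  rw [isWeakAssOn_iff] at hw
  obtain ⟨hp, t, ht⟩ := WeakAss.mem_ass_of_mem_weakAss_of_fg (IsNoetherian.noetherian _) hw
  refine ⟨t, ?_⟩
  have h1 : annSect (M := (pushModEt hf).obj M) (E := E) t = primeAtPt E.obj.left.left v := by
    rw [annSect_push, ← hwv, WeakAssEtLib.primeAtPt_apply]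
    congr 1
    rw [ht]
    ext a
    rw [mem_annSect_iff]
    exact (WeakAss.mem_annEl (R := Fn (EtOver.bcObj hf E)) (m := t) (r := a)).symm
  rw [h1]
  exact ⟨⟨inferInstance, le_rfl⟩, fun J hJ _ => hJ.2⟩

/-- Weakly associated points push forward along finite morphisms. -/
theorem image_subset_of_finite (hY : IsAlgSpace Y) (hf : Representable f) (hfin : IsFiniteMor f) (M : ModEt X)
    [M.IsQuasicoherent] : Points.map f '' WeakAssEt M ⊆ WeakAssEt ((pushModEt hf).obj M) := by
  have haff : IsAffineMor f := fun Z hZ g => by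
    obtain ⟨W, i, fst, sq, hW, -⟩ := hfin hZ g
    exact ⟨W, i, fst, sq, hW⟩
  rintro _ ⟨x, hx, rfl⟩
  obtain ⟨E, hE, hE', v, w, hv, hwv, hw⟩ := exists_chart_point hY hf haff M hx
  haveI := hE
  haveI := hE'
  haveI : IsFinite (EtOver.bcπ hf E).left := by
    obtain ⟨W, i, fst, sq, -, hi⟩ := hfin hE E.obj.hom
    let e : hf.pullback E.obj.hom ≅ W := (yon S).preimageIso ((hf.isPullback E.obj.hom).isoIsPullback _ _ sq)
    have he : e.hom ≫ i = hf.snd E.obj.hom := by
      apply (yon S).map_injective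
      simp only [e, Functor.map_comp, Functor.preimageIso_hom, Functor.map_preimage]
      exact IsPullback.isoIsPullback_hom_snd _ _ _ _
    show IsFinite (hf.snd E.obj.hom).left
    rw [← he, Over.comp_left]
    haveI : IsIso e.hom.left := inferInstanceAs (IsIso ((Over.forget S).map e.hom))
    infer_instance
  letI : Algebra (Fn E) (Fn (EtOver.bcObj hf E)) := (EtOver.bcπ hf E).left.appTop.hom.toAlgebra
  haveI : Module.Finite (Fn E) (Fn (EtOver.bcObj hf E)) :=
    RingHom.finite_algebraMap.1 ((HasAffineProperty.iff_of_isAffine (P := @IsFinite)).1 ‹_›).2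
  refine ⟨E, hE, v, hv, ?_⟩
  rw [isWeakAssOn_iff] at hw
  haveI : (primeAtPt (EtOver.bcObj hf E).obj.left.left w).LiesOver (primeAtPt E.obj.left.left v) :=
    ⟨by rw [← hwv]; exact WeakAssEtLib.primeAtPt_apply _ w⟩
  obtain ⟨t, ht⟩ := WeakAssU.exists_minimal_under (p := primeAtPt E.obj.left.left v) hw
  refine ⟨t, ?_⟩
  rw [annSect_push]
  have : annSect t = WeakAss.annEl (Fn (EtOver.bcObj hf E)) t := by
    ext a
    rw [mem_annSect_iff, WeakAss.mem_annEl]
    exact Iff.rfl
  rw [this]
  exact ht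

/-- Sections vanishing on a chart meeting all weakly associated points vanish. -/
theorem sections_eq_zero (M : ModEt X) [M.IsQuasicoherent] (E : EtOver X)
    (hE : WeakAssEt M ⊆ Set.range (Points.ofPt E.obj.hom)) (z : ∀ V : EtOver X, sectModEt M V)
    (hz : ∀ {V V' : EtOver X} (g : V' ⟶ V), res M g (z V) = z V') (hzE : z E = 0) (V : EtOver X) : z V = 0 := by
  refine WeakAssEtLib.eq_zero_of_affine V (z V) fun V' g hV' => by_contra fun hne => ?_
  haveI := hV'
  have hne' : z V' ≠ 0 := by rw [← hz g]; exact hne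
  have hnt : (Submodule.span (Fn V') {z V'}).annihilator ≠ ⊤ := fun ht => hne' (by
    have h1 : (1 : Fn V') ∈ (Submodule.span (Fn V') {z V'}).annihilator := by rw [ht]; exact Submodule.mem_top
    simpa using (Submodule.mem_annihilator_span_singleton _ _).1 h1)
  obtain ⟨P, hP⟩ := Ideal.nonempty_minimalPrimes hnt
  haveI := hP.1.1
  obtain ⟨w, hw⟩ := AlgSpLib.Cartier.exists_primeAtPt_eq (U := V'.obj.left.left) P
  have hwa : Points.ofPt V'.obj.hom w ∈ WeakAssEt M :=
    ⟨V', hV', w, rfl, (isWeakAssOn_iff M V' w).2 ⟨z V', hw.symm ▸ hP⟩⟩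
  obtain ⟨v, hv⟩ := hE hwa
  obtain ⟨O, hO, hvO, -⟩ := exists_isAffineOpen_mem_and_subset (x := v) (U := (⊤ : E.obj.left.left.Opens)) trivial
  let E₀ := AlgSpDec.etOpen E O
  haveI : IsAffine E₀.obj.left.left := hO
  obtain ⟨y, hy₁, hy₂⟩ := AlgSpLib.exists_ofPt_of_eq (E₀.property.rep.isPullback' V'.obj.hom)
    (u := (⟨v, hvO⟩ : E₀.obj.left.left)) (v := w) ((AlgSpLib.ofPt_comp _ E.obj.hom _).trans hv)
  let Q : EtOver X := EtOver.mk ((yon S).map (E₀.property.rep.snd V'.obj.hom) ≫ V'.obj.hom)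
    (AlgSpLib.repWith_comp ((repWith_yon_map_iff _ _).2 (E₀.property.property_snd V'.obj.hom)) V'.property)
  let q : Q ⟶ V' := EtOver.homMk (E₀.property.rep.snd V'.obj.hom) rfl
  let q₀ : Q ⟶ E₀ := EtOver.homMk (E₀.property.rep.fst' V'.obj.hom) (E₀.property.rep.isPullback' V'.obj.hom).w
  obtain ⟨O', hO', hyO', -⟩ := exists_isAffineOpen_mem_and_subset (x := y) (U := (⊤ : Q.obj.left.left.Opens)) trivial
  let Q' := AlgSpDec.etOpen Q O'
  haveI : IsAffine Q'.obj.left.left := hO'
  let k : Q' ⟶ V' := AlgSpDec.etOpenι Q O' ≫ q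
  letI := (fmap k).toAlgebra
  haveI : Module.Flat (Fn V') (Fn Q') := flat_fmap k
  have h0 : res M k (z V') = 0 := by
    rw [hz, ← hz (AlgSpDec.etOpenι Q O' ≫ q₀ ≫ AlgSpDec.etOpenι E O), hzE, map_zero]
  have h1 : (1 : Fn Q') ⊗ₜ[Fn V'] z V' = 0 := (bcEquiv M k).injective (by
    rw [map_zero]
    show RingHom.id _ (1 : Fn Q') • res M k (z V') = 0
    rw [h0, smul_zero])
  let wy : Q'.obj.left.left := ⟨y, hyO'⟩
  have hkw : k.hom.left.left wy = w := hy₂
  obtain ⟨t, ht, htz⟩ : ∃ t : Fn V', t ∉ P ∧ t • z V' = 0 := by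
    by_contra hc
    push Not at hc
    refine (inferInstance : (primeAtPt Q'.obj.left.left wy).IsPrime).ne_top ((Ideal.eq_top_iff_one _).2 ?_)
    have hle : (Submodule.span (Fn V') {z V'}).annihilator.map (algebraMap (Fn V') (Fn Q')) ≤
        primeAtPt Q'.obj.left.left wy := by
      refine Ideal.map_le_iff_le_comap.2 (fun a ha => ?_)
      by_contra hna
      refine hc a (fun haP => hna ?_) ((Submodule.mem_annihilator_span_singleton _ _).1 ha)
      have h2 := WeakAssEtLib.primeAtPt_apply k.hom.left.left wy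
      rw [hkw, hw] at h2
      rw [h2] at haP
      exact haP
    refine hle ?_
    exact one_mem_map_of_tmul_eq_zero (z V') h1
  exact ht (hP.1.2 ((Submodule.mem_annihilator_span_singleton _ _).2 htz))

end Groth.Agent.EtQC
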