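import Groth.Agent.EtQC.Coh
import Groth.Agent.EtQC.Ops

/-!
# Direct images along affine morphisms
-/

set_option autoImplicit false
set_option backward.isDefEq.respectTransparency false
set_option backward.isDefEq.respectTransparency.types false

universe u

set_option maxHeartbeats 1600000

open CategoryTheory CategoryTheory.Limits AlgebraicGeometry Opposite AlgSp
open scoped TensorProduct

namespace Groth.Agent.EtQC

variable {S : Scheme.{u}} {X Y : Sp S} {f : X ⟶ Y}

/-- The functions on the base change. -/
noncomputable def bcFun (hf : Representable f) (E : EtOver Y) : Fn E →+* Fn (EtOver.bcObj hf E) :=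
  (EtOver.bcπ hf E).left.appTop.hom

theorem isPushout_bc (hf : Representable f) {E E' : EtOver Y} (g : E' ⟶ E) [IsAffine E.obj.left.left]
    [IsAffine E'.obj.left.left] [IsAffine (EtOver.bcObj hf E).obj.left.left]
    [IsAffine (EtOver.bcObj hf E').obj.left.left] :
    IsPushout g.hom.left.left.appTop (EtOver.bcπ hf E).left.appTop (EtOver.bcπ hf E').left.appTop
      (EtOver.bcMap hf g).hom.left.left.appTop := by
  have sq := (EtOver.isPullback_bcMap_left hf g).flip
  haveI : IsAffine (hf.pullback E.obj.hom).left := ‹IsAffine (EtOver.bcObj hf E).obj.left.left›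
  haveI : IsAffine (hf.pullback E'.obj.hom).left := ‹IsAffine (EtOver.bcObj hf E').obj.left.left›
  have po := (isIso_pushoutSection_iff sq (US := ⊤) (UT := ⊤) (UX := ⊤) (UY := ⊤) (by simp) (by simp)
    (by simp)).mp (isIso_pushoutSection_of_isAffineOpen sq _ _ _
      (isAffineOpen_top _) (isAffineOpen_top _) (isAffineOpen_top _))
  simp only [Scheme.Hom.appLE, TopologicalSpace.Opens.map_top, homOfLE_refl, op_id, CategoryTheory.Functor.map_id,
    Category.comp_id] at po
  exact po

theorem isFinite_bcπ (hf : Representable f) (hfin : IsFiniteMor f) (E : EtOver Y) [hE : IsAffine E.obj.left.left] :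
    IsFinite (EtOver.bcπ hf E).left := by
  obtain ⟨W, i, fst, sq, -, hi⟩ := hfin hE E.obj.hom
  let e : hf.pullback E.obj.hom ≅ W := (yon S).preimageIso ((hf.isPullback E.obj.hom).isoIsPullback _ _ sq)
  have he : e.hom ≫ i = hf.snd E.obj.hom := by
    apply (yon S).map_injective
    simp only [e, Functor.map_comp, Functor.preimageIso_hom, Functor.map_preimage]
    exact IsPullback.isoIsPullback_hom_snd _ _ _ _
  show IsFinite (hf.snd E.obj.hom).left
  rw [← he, Over.comp_left]
  haveI : IsIso e.hom.left := inferInstanceAs (IsIso ((Over.forget S).map e.hom))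
  infer_instance

theorem push_smul (hf : Representable f) (M : ModEt X) (E : EtOver Y) (a : Fn E)
    (s : sectModEt M (EtOver.bcObj hf E)) :
    (show sectModEt M (EtOver.bcObj hf E) from a • (show sectModEt ((pushModEt hf).obj M) E from s)) =
      bcFun hf E a • s := rfl

theorem res_push (hf : Representable f) (M : ModEt X) {E E' : EtOver Y} (g : E' ⟶ E)
    (s : sectModEt M (EtOver.bcObj hf E)) :
    (show sectModEt M (EtOver.bcObj hf E') from res ((pushModEt hf).obj M) g s) =
      res M (EtOver.bcMap hf g) s := rfl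

/-- Base change holds for direct images along affine morphisms. -/
theorem bcAll_push (hf : Representable f) (haff : IsAffineMor f) {M : ModEt X} (h : BCAll M) :
    BCAll ((pushModEt hf).obj M) := by
  intro E hE E' g hE'
  haveI := hE
  haveI := hE'
  haveI := WeakAssEtLib.isAffine_bcObj hf haff E hE
  haveI := WeakAssEtLib.isAffine_bcObj hf haff E' hE'
  letI := (fmap g).toAlgebra
  letI : Algebra (Fn E) (Fn (EtOver.bcObj hf E)) := (bcFun hf E).toAlgebra
  letI : Module (Fn E) (sectModEt M (EtOver.bcObj hf E)) := Module.compHom _ (bcFun hf E)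
  haveI : IsScalarTower (Fn E) (Fn (EtOver.bcObj hf E)) (sectModEt M (EtOver.bcObj hf E)) :=
    IsScalarTower.of_algebraMap_smul fun _ _ => rfl
  have hr : ∀ (a : Fn E) (s : sectModEt M (EtOver.bcObj hf E)), res M (EtOver.bcMap hf g) (a • s) =
      bcFun hf E' (algebraMap (Fn E) (Fn E') a) • res M (EtOver.bcMap hf g) s := fun a s => by
    show res M (EtOver.bcMap hf g) (bcFun hf E a • s) = bcFun hf E' (fmap g a) • _
    rw [res_smul]
    congr 1
    exact congrArg (fun φ : Γ(E.obj.left.left, ⊤) ⟶ Γ((EtOver.bcObj hf E').obj.left.left, ⊤) => φ.hom a)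
      (isPushout_bc hf g).w.symm
  have key := (gam_bijective_iff_of_isPushout (bcFun hf E') (fmap (EtOver.bcMap hf g)) (isPushout_bc hf g)
    (res M (EtOver.bcMap hf g)) hr (res_smul' M (EtOver.bcMap hf g))).2
    (h _ inferInstance _ (EtOver.bcMap hf g) inferInstance)
  exact key

theorem gam_smul_id {M : ModEt X} {E E' : EtOver X} (g : E' ⟶ E) :
    letI := (fmap g).toAlgebra
    ∀ (b : Fn E') (z : Fn E' ⊗[Fn E] sectModEt M E), gam (RingHom.id (Fn E')) (res M g) (res_smul' M g) (b • z) =
      b • gam (RingHom.id (Fn E')) (res M g) (res_smul' M g) z := by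
  letI := (fmap g).toAlgebra
  intro b z
  induction z using TensorProduct.induction_on with
  | zero => simp
  | add x y hx hy => rw [smul_add, map_add, map_add, hx, hy, smul_add]
  | tmul c s =>
    rw [TensorProduct.smul_tmul', gam_tmul, gam_tmul]
    exact mul_smul b c _

/-- Finitely generated sections descend to affine objects. -/
theorem FT.finite {M : ModEt X} (hM : BCAll M) (h : FT M) (E : EtOver X) [IsAffine E.obj.left.left] :
    Module.Finite (Fn E) (sectModEt M E) := by
  classical
  obtain ⟨n, V, g, hV, hc⟩ := h E ‹_›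
  haveI : ∀ i, IsAffine (V i).obj.left.left := fun i => (hV i).1
  letI : ∀ i, Algebra (Fn E) (Fn (V i)) := fun i => (fmap (g i)).toAlgebra
  haveI : ∀ i, Module.Flat (Fn E) (Fn (V i)) := fun i => flat_fmap (g i)
  have hgen : ∀ i, ∃ N : Submodule (Fn E) (sectModEt M E), N.FG ∧ ∀ z : Fn (V i) ⊗[Fn E] sectModEt M E,
      z ∈ LinearMap.range (N.subtype.lTensor (Fn (V i))) := by
    intro i
    have hs : ∀ z : Fn (V i) ⊗[Fn E] sectModEt M E, ∃ N : Submodule (Fn E) (sectModEt M E), N.FG ∧
        z ∈ LinearMap.range (N.subtype.lTensor (Fn (V i))) := fun z => by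
      induction z using TensorProduct.induction_on with
      | zero => exact ⟨⊥, Submodule.fg_bot, zero_mem _⟩
      | add x y hx hy =>
        obtain ⟨N, hN, a, ha⟩ := hx
        obtain ⟨N', hN', b, hb⟩ := hy
        refine ⟨N ⊔ N', hN.sup hN', (Submodule.inclusion le_sup_left).lTensor _ a +
          (Submodule.inclusion le_sup_right).lTensor _ b, ?_⟩
        rw [map_add, ← LinearMap.comp_apply, ← LinearMap.comp_apply (f := (N ⊔ N').subtype.lTensor _),
          ← LinearMap.lTensor_comp, ← LinearMap.lTensor_comp, Submodule.subtype_comp_inclusion,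
          Submodule.subtype_comp_inclusion, ha, hb]
      | tmul b s => exact ⟨Submodule.span (Fn E) {s}, Submodule.fg_span_singleton s,
          b ⊗ₜ ⟨s, Submodule.mem_span_singleton_self s⟩, rfl⟩
    obtain ⟨T, hT⟩ := (hV i).2.fg_top
    choose N hN hmem using hs
    choose pre hpre using fun t : T => (hM E ‹_› (V i) (g i) inferInstance).2 t.1
    refine ⟨⨆ t : T, N (pre t), Submodule.fg_iSup _ fun t => hN _, fun z => ?_⟩
    let R := ⨆ t : T, N (pre t)
    let P : Submodule (Fn (V i)) (Fn (V i) ⊗[Fn E] sectModEt M E) :=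
      LinearMap.range (LinearMap.baseChange (Fn (V i)) R.subtype)
    have hP : ∀ w, w ∈ P ↔ w ∈ LinearMap.range (R.subtype.lTensor (Fn (V i))) := fun w => Iff.rfl
    refine (hP z).1 ?_
    have hz := Submodule.eq_top_iff'.1 hT (gam (RingHom.id (Fn (V i))) (res M (g i)) (res_smul' M (g i)) z)
    obtain ⟨l, hl⟩ := Finsupp.mem_span_range_iff_exists_finsupp.1
      (show _ ∈ Submodule.span (Fn (V i)) (Set.range fun t : T => (t.1 : sectModEt M (V i))) by
        rwa [Subtype.range_coe_subtype, Finset.setOf_mem])
    have e : z = l.sum fun t c => c • pre t := (hM E ‹_› (V i) (g i) inferInstance).1 (by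
      rw [← hl, map_finsuppSum]
      refine Finsupp.sum_congr fun t _ => ?_
      rw [gam_smul_id, hpre])
    rw [e]
    refine P.sum_mem (fun t _ => P.smul_mem _ ((hP _).2 ?_))
    obtain ⟨a, ha⟩ := hmem (pre t)
    refine ⟨(Submodule.inclusion (le_iSup (fun t : T => N (pre t)) t)).lTensor _ a, ?_⟩
    rw [← LinearMap.comp_apply, ← LinearMap.lTensor_comp, Submodule.subtype_comp_inclusion]
    exact ha
  choose N hN hNz using hgen
  refine ⟨?_⟩
  have : (⨆ i, N i) = ⊤ := by
    refine eq_top_iff.2 fun s _ => ?_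
    have hs : s ∈ LinearMap.range (⨆ i, N i).subtype := mem_range_of_forall_flat (fun i => Fn (V i))
      (fun p hp => LocPres.exists_prime_over V g hc p hp) _ s fun i => by
        obtain ⟨a, ha⟩ := hNz i ((1 : Fn (V i)) ⊗ₜ[Fn E] s)
        refine ⟨(Submodule.inclusion (le_iSup N i)).lTensor _ a, ?_⟩
        rw [← LinearMap.comp_apply, ← LinearMap.lTensor_comp, Submodule.subtype_comp_inclusion]
        exact ha
    rwa [Submodule.range_subtype] at hs
  exact this ▸ Submodule.fg_iSup _ hN

/-- The direct image along a finite morphism is finite on affine objects. -/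
theorem finite_push (hf : Representable f) (hfin : IsFiniteMor f) {M : ModEt X} (hM : BCAll M) (h : FT M)
    (E : EtOver Y) [IsAffine E.obj.left.left] :
    Module.Finite (Fn E) (sectModEt ((pushModEt hf).obj M) E) := by
  have haff : IsAffineMor f := fun Z hZ g => by
    obtain ⟨W, i, fst, sq, hW, -⟩ := hfin hZ g
    exact ⟨W, i, fst, sq, hW⟩
  haveI := WeakAssEtLib.isAffine_bcObj hf haff E ‹_›
  haveI := isFinite_bcπ hf hfin E
  letI : Algebra (Fn E) (Fn (EtOver.bcObj hf E)) := (bcFun hf E).toAlgebra
  haveI : Module.Finite (Fn E) (Fn (EtOver.bcObj hf E)) :=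
    RingHom.finite_algebraMap.1 ((HasAffineProperty.iff_of_isAffine (P := @IsFinite)).1 ‹_›).2
  letI : Module (Fn E) (sectModEt M (EtOver.bcObj hf E)) := Module.compHom _ (bcFun hf E)
  haveI : IsScalarTower (Fn E) (Fn (EtOver.bcObj hf E)) (sectModEt M (EtOver.bcObj hf E)) :=
    IsScalarTower.of_algebraMap_smul fun _ _ => rfl
  haveI := h.finite hM (EtOver.bcObj hf E)
  exact (Module.Finite.trans (Fn (EtOver.bcObj hf E)) (sectModEt M (EtOver.bcObj hf E)) :
    Module.Finite (Fn E) (sectModEt M (EtOver.bcObj hf E)))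

end Groth.Agent.EtQC
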