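import Groth.Agent.EtQC.Cartan
import Groth.Agent.EtQC.Push
import Groth.Agent.TriCat.AcyclicObj

/-!
# Higher direct images along affine morphisms
-/

set_option autoImplicit false
set_option backward.isDefEq.respectTransparency false
set_option backward.isDefEq.respectTransparency.types false

universe u

set_option maxHeartbeats 1600000

open CategoryTheory CategoryTheory.Limits AlgebraicGeometry Opposite AlgSp

namespace Groth.Agent.EtQC

variable {S : Scheme.{u}} {X Y : Sp S} {f : X ⟶ Y}

theorem isLocallySurjective_push_affine (hf : Representable f) (haff : IsAffineMor f) (T : ShortComplex (AbEt X))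
    (hT : T.ShortExact) (h1 : IsAffAcyclic T.X₁) :
    Presheaf.IsLocallySurjective (etTop Y) ((pushEt hf AddCommGrpCat.{u + 1}).map T.g).hom := by
  refine ⟨fun {V} s => ?_⟩
  choose O hO hxO _ using fun x : ↥V.obj.left.left =>
    exists_isAffineOpen_mem_and_subset (x := x) (U := (⊤ : V.obj.left.left.Opens)) trivial
  refine GrothendieckTopology.superset_covering _ ?_
    (AlgSpDec.ofArrows_mem_etTop (fun x => AlgSpDec.etOpen V (O x)) (fun x => AlgSpDec.etOpenι V (O x))
      fun x => ⟨x, by rw [AlgSpDec.range_etOpenι]; exact hxO x⟩)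
  intro W g hg
  obtain ⟨Z, l, k, hk, rfl⟩ := hg
  obtain ⟨x⟩ := hk
  refine Sieve.downward_closed _ ?_ l
  haveI : IsAffine (AlgSpDec.etOpen V (O x)).obj.left.left := hO x
  haveI := WeakAssEtLib.isAffine_bcObj hf haff (AlgSpDec.etOpen V (O x)) inferInstance
  obtain ⟨t, ht⟩ := sections_surjective T hT h1 (V := EtOver.bcObj hf (AlgSpDec.etOpen V (O x)))
    ((((pushEt hf AddCommGrpCat.{u + 1}).obj T.X₃).obj.map (AlgSpDec.etOpenι V (O x)).op).hom s)
  exact ⟨t, ht⟩

theorem epi_of_isLocallySurjective {Z : Sp S} {A B : AbEt Z} (g : A ⟶ B)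
    (h : Presheaf.IsLocallySurjective (etTop Z) g.hom) : Epi g := by
  haveI : LocallySmall.{u + 1} (EtOver Z) := ⟨fun _ _ => inferInstance⟩
  exact (Sheaf.isLocallySurjective_iff_epi' AddCommGrpCat.{u + 1} g).1 h

theorem epi_push_affine (hf : Representable f) (haff : IsAffineMor f) (T : ShortComplex (AbEt X))
    (hT : T.ShortExact) (h1 : IsAffAcyclic T.X₁) : Epi ((pushEt hf AddCommGrpCat.{u + 1}).map T.g) :=
  epi_of_isLocallySurjective _ (isLocallySurjective_push_affine hf haff T hT h1)

/-- Acyclic sheaves have no higher direct images along affine morphisms. -/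
theorem isRightAcyclic_push_affine (hf : Representable f) (haff : IsAffineMor f) (G : AbEt X) (hG : IsAffAcyclic G) :
    TriCat.IsRightAcyclic (pushEt hf AddCommGrpCat.{u + 1}) G := by
  let R := pushEt hf AddCommGrpCat.{u + 1}
  suffices H : ∀ (n : ℕ) (G : AbEt X), IsAffAcyclic G → IsZero ((R.rightDerived (n + 1)).obj G) by
    intro i hi
    obtain ⟨n, rfl⟩ := Nat.exists_eq_succ_of_ne_zero hi.ne'
    exact H n G hG
  intro n
  induction n with
  | zero =>
    intro G hG
    let T := ShortComplex.mk (Injective.ι G) (cokernel.π _) (cokernel.condition (Injective.ι G))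
    have hT : T.ShortExact := { exact := ShortComplex.exact_of_g_is_cokernel _ (cokernelIsCokernel _) }
    haveI hI : Injective T.X₂ := inferInstanceAs (Injective (Injective.under G))
    let := HasDerivedCategory.standard (AbEt X)
    let := HasDerivedCategory.standard (AbEt Y)
    obtain ⟨δ, w₁, w₂, w₃, -, e₂, e₃⟩ := TriCat.exists_rightDerived_ses R hT 0
    refine e₃.isZero_X₂ ?_ ((R.isZero_rightDerived_obj_injective_succ 0 T.X₂).eq_of_tgt _ _)
    haveI := epi_push_affine hf haff T hT hG
    haveI : PreservesFiniteLimits R := inferInstance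
    have : Epi ((R.rightDerived 0).map T.g) :=
      ((MorphismProperty.epimorphisms _).arrow_mk_iso_iff
        (Arrow.isoOfNatIso R.rightDerivedZeroIsoSelf (Arrow.mk T.g))).2 ‹_›
    exact (cancel_epi ((R.rightDerived 0).map T.g)).1 (w₂.trans comp_zero.symm)
  | succ n ih =>
    intro G hG
    let T := ShortComplex.mk (Injective.ι G) (cokernel.π _) (cokernel.condition (Injective.ι G))
    have hT : T.ShortExact := { exact := ShortComplex.exact_of_g_is_cokernel _ (cokernelIsCokernel _) }
    haveI hI : Injective T.X₂ := inferInstanceAs (Injective (Injective.under G))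
    let := HasDerivedCategory.standard (AbEt X)
    let := HasDerivedCategory.standard (AbEt Y)
    obtain ⟨δ, w₁, w₂, w₃, -, e₂, e₃⟩ := TriCat.exists_rightDerived_ses R hT (n + 1)
    refine e₃.isZero_X₂ ((ih T.X₃ (isAffAcyclic_X₃ T hT hG (isAffAcyclic_of_injective T.X₂))).eq_of_src _ _)
      ((R.isZero_rightDerived_obj_injective_succ (n + 1) T.X₂).eq_of_tgt _ _)

/-- Quasi-coherent modules have no higher direct images along affine morphisms. -/
theorem isZero_RpushEt_affine (hf : Representable f) (haff : IsAffineMor f) {M : ModEt X} (hM : BCAll M) (i : ℕ)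
    (hi : 0 < i) : IsZero ((RpushEt hf i).obj ((toAbEt X).obj M)) :=
  isRightAcyclic_push_affine hf haff _ (isAffAcyclic_of_bcAll hM) i hi

end Groth.Agent.EtQC
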