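import Mathlib.RingTheory.IsTensorProduct
import Mathlib.RingTheory.Flat.Basic
import Mathlib.LinearAlgebra.TensorProduct.Pi
import Mathlib.Algebra.Category.Ring.Constructions

/-!
# Base change maps of modules and flat descent of their bijectivity
-/

set_option autoImplicit false

universe u v

open TensorProduct CategoryTheory

namespace Groth.Agent.EtQC

section Gam

variable {A B C : Type u} [CommRing A] [CommRing B] [CommRing C] [Algebra A B]
  {N N' : Type v} [AddCommGroup N] [Module A N] [AddCommGroup N'] [Module C N']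
  (ψ : B →+* C) (r : N →+ N') (hr : ∀ (a : A) (n : N), r (a • n) = ψ (algebraMap A B a) • r n)

/-- The map `b ⊗ n ↦ ψ b • r n`. -/
noncomputable def gam : B ⊗[A] N →+ N' :=
  TensorProduct.liftAddHom
    (AddMonoidHom.mk' (fun b => AddMonoidHom.mk' (fun n => ψ b • r n) fun n n' => by rw [map_add, smul_add])
      fun b b' => AddMonoidHom.ext fun n => by
        show ψ (b + b') • r n = ψ b • r n + ψ b' • r n
        rw [map_add, add_smul])
    fun a b n => by
      show ψ (a • b) • r n = ψ b • r (a • n)
      rw [hr, smul_smul, Algebra.smul_def, map_mul, mul_comm]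

theorem gam_tmul (b : B) (n : N) : gam ψ r hr (b ⊗ₜ n) = ψ b • r n := rfl

end Gam

section Pushout

variable {A A1 B C : Type u} [CommRing A] [CommRing A1] [CommRing B] [CommRing C] [Algebra A A1] [Algebra A B]
  {N N' : Type v} [AddCommGroup N] [Module A N] [Module A1 N] [IsScalarTower A A1 N] [AddCommGroup N']
  [Module C N'] (ψ : B →+* C) (χ : A1 →+* C)
  (hp : IsPushout (CommRingCat.ofHom (algebraMap A B)) (CommRingCat.ofHom (algebraMap A A1))
    (CommRingCat.ofHom ψ) (CommRingCat.ofHom χ))
  (r : N →+ N') (hr : ∀ (a : A) (n : N), r (a • n) = ψ (algebraMap A B a) • r n)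

include hp in
/-- Along a pushout the two base change maps are bijective together. -/
theorem gam_bijective_iff_of_isPushout (hr' : letI := χ.toAlgebra
      ∀ (a : A1) (n : N), r (a • n) = RingHom.id C (algebraMap A1 C a) • r n) :
    letI := χ.toAlgebra
    Function.Bijective (gam ψ r hr) ↔ Function.Bijective (gam (RingHom.id C) r hr') := by
  letI := χ.toAlgebra
  letI := ψ.toAlgebra
  letI : Algebra A C := (ψ.comp (algebraMap A B)).toAlgebra
  haveI : IsScalarTower A B C := IsScalarTower.of_algebraMap_eq fun _ => rfl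
  haveI : IsScalarTower A A1 C := IsScalarTower.of_algebraMap_eq fun a => congr($(hp.w) a)
  haveI : Algebra.IsPushout A B A1 C := CommRingCat.isPushout_iff_isPushout.1 hp
  let e := Algebra.IsPushout.cancelBaseChange A B A1 C N
  have key : ∀ z, gam ψ r hr z = gam (RingHom.id C) r hr' (e.symm z) := by
    intro z
    induction z using TensorProduct.induction_on with
    | zero => simp only [map_zero]
    | add x y hx hy => simp only [map_add, hx, hy]
    | tmul b n =>
      have h1 : e.symm ((1 : B) ⊗ₜ[A] n) = (1 : C) ⊗ₜ[A1] n := by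
        rw [LinearEquiv.symm_apply_eq]
        exact (Algebra.IsPushout.cancelBaseChange_tmul A B A1 C N n).symm
      have h2 : e.symm (b ⊗ₜ[A] n) = b • ((1 : C) ⊗ₜ[A1] n) := by
        rw [← h1, ← map_smul, TensorProduct.smul_tmul', smul_eq_mul, mul_one]
      rw [gam_tmul, h2, TensorProduct.smul_tmul', gam_tmul, Algebra.smul_def, mul_one]
      rfl
  refine ⟨fun h => ?_, fun h => ?_⟩
  · have : (gam (RingHom.id C) r hr' : _ → N') = (gam ψ r hr) ∘ e := funext fun z => by
      rw [Function.comp_apply, key, e.symm_apply_apply]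
    rw [this]
    exact h.comp e.bijective
  · have : (gam ψ r hr : _ → N') = (gam (RingHom.id C) r hr') ∘ e.symm := funext key
    rw [this]
    exact h.comp e.symm.bijective

end Pushout

section Comp

variable {A A1 C : Type u} [CommRing A] [CommRing A1] [CommRing C] [Algebra A A1] [Algebra A C] [Algebra A1 C]
  [IsScalarTower A A1 C]
  {N N1 N' : Type v} [AddCommGroup N] [Module A N] [AddCommGroup N1] [Module A1 N1] [AddCommGroup N']
  [Module C N'] (r1 : N →+ N1) (h1 : ∀ (a : A) (n : N), r1 (a • n) = RingHom.id A1 (algebraMap A A1 a) • r1 n)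
  (r : N1 →+ N') (hr : ∀ (a : A1) (n : N1), r (a • n) = RingHom.id C (algebraMap A1 C a) • r n)
  (r0 : N →+ N') (h0 : ∀ (a : A) (n : N), r0 (a • n) = RingHom.id C (algebraMap A C a) • r0 n)

/-- Base change in stages. -/
theorem gam_bijective_of_comp (hc : ∀ n, r0 n = r (r1 n)) (hb1 : Function.Bijective (gam (RingHom.id A1) r1 h1))
    (hb0 : Function.Bijective (gam (RingHom.id C) r0 h0)) : Function.Bijective (gam (RingHom.id C) r hr) := by
  let g1 : A1 ⊗[A] N →ₗ[A1] N1 :=
    { toFun := gam (RingHom.id A1) r1 h1
      map_add' := map_add _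
      map_smul' := fun a z => by
        induction z using TensorProduct.induction_on with
        | zero => simp
        | add x y hx hy => simp only [smul_add, map_add, hx, hy]
        | tmul b n =>
          rw [TensorProduct.smul_tmul', gam_tmul, gam_tmul, RingHom.id_apply, RingHom.id_apply, smul_eq_mul,
            mul_smul, RingHom.id_apply] }
  let e1 : A1 ⊗[A] N ≃ₗ[A1] N1 := LinearEquiv.ofBijective g1 hb1
  let e := (TensorProduct.AlgebraTensorModule.cancelBaseChange A A1 C C N).symm.toAddEquiv.trans
    (TensorProduct.congr (LinearEquiv.refl A1 C) e1).toAddEquiv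
  have key : ∀ z, gam (RingHom.id C) r hr (e z) = gam (RingHom.id C) r0 h0 z := by
    intro z
    induction z using TensorProduct.induction_on with
    | zero => simp only [map_zero]
    | add x y hx hy => simp only [map_add, hx, hy]
    | tmul c n =>
      show gam (RingHom.id C) r hr (c ⊗ₜ[A1] g1 ((1 : A1) ⊗ₜ[A] n)) = _
      rw [gam_tmul, gam_tmul, hc]
      show _ • r (gam (RingHom.id A1) r1 h1 ((1 : A1) ⊗ₜ[A] n)) = _
      rw [gam_tmul, map_one, one_smul]
  have : (gam (RingHom.id C) r hr : _ → N') = (gam (RingHom.id C) r0 h0) ∘ e.symm := funext fun z => by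
    rw [Function.comp_apply, ← key, e.apply_symm_apply]
  rw [this]
  exact hb0.comp e.symm.bijective

end Comp

section Descent

variable {A B : Type u} [CommRing A] [CommRing B] [Algebra A B] [Module.Flat A B]
  {ι κ : Type} [Fintype ι] [DecidableEq ι] [Fintype κ] [DecidableEq κ]
  {N N' : Type v} [AddCommGroup N] [Module A N] [AddCommGroup N']
  {P : ι → Type v} [∀ i, AddCommGroup (P i)] [∀ i, Module A (P i)]
  {Q : κ → Type v} [∀ k, AddCommGroup (Q k)] [∀ k, Module A (Q k)]
  {P' : ι → Type v} [∀ i, AddCommGroup (P' i)] {Q' : κ → Type v} [∀ k, AddCommGroup (Q' k)]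

/-- Flat descent of bijectivity along an equaliser. -/
theorem bijective_of_equalizer (f : N →ₗ[A] ∀ i, P i) (d : (∀ i, P i) →ₗ[A] ∀ k, Q k)
    (hf : Function.Injective f) (hfd : Function.Exact f d) (β : B ⊗[A] N →+ N') (r' : N' →+ ∀ i, P' i)
    (hr' : Function.Injective r') (d' : (∀ i, P' i) →+ ∀ k, Q' k) (hd' : ∀ s, d' (r' s) = 0)
    (γ : ∀ i, B ⊗[A] P i →+ P' i) (hγ : ∀ i, Function.Bijective (γ i)) (δ : ∀ k, B ⊗[A] Q k →+ Q' k)
    (hδ : ∀ k, Function.Injective (δ k))
    (hβ : ∀ (t : B ⊗[A] N) i, r' (β t) i = γ i ((LinearMap.proj i ∘ₗ f).lTensor B t))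
    (hd : ∀ (z : B ⊗[A] ∀ i, P i) k, δ k ((LinearMap.proj k ∘ₗ d).lTensor B z) =
      d' (fun i => γ i ((LinearMap.proj i).lTensor B z)) k) :
    Function.Bijective β := by
  have hP : ∀ z z' : B ⊗[A] ∀ i, P i,
      (∀ i, (LinearMap.proj (R := A) (φ := P) i).lTensor B z = (LinearMap.proj i).lTensor B z') → z = z' := by
    intro z z' h
    refine (TensorProduct.piRight A A B P).injective (funext fun i => ?_)
    have e : ∀ w : B ⊗[A] ∀ i, P i, TensorProduct.piRight A A B P w i = (LinearMap.proj i).lTensor B w := by
      intro w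
      induction w using TensorProduct.induction_on with
      | zero => simp
      | add x y hx hy => rw [map_add, Pi.add_apply, hx, hy, map_add]
      | tmul b p => simp
    rw [e, e, h]
  have hQ : ∀ w : B ⊗[A] ∀ k, Q k, (∀ k, (LinearMap.proj (R := A) (φ := Q) k).lTensor B w = 0) → w = 0 := by
    intro w h
    refine (TensorProduct.piRight A A B Q).injective (funext fun k => ?_)
    have e : ∀ w : B ⊗[A] ∀ k, Q k, TensorProduct.piRight A A B Q w k = (LinearMap.proj k).lTensor B w := by
      intro w
      induction w using TensorProduct.induction_on with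
      | zero => simp
      | add x y hx hy => rw [map_add, Pi.add_apply, hx, hy, map_add]
      | tmul b p => simp
    rw [map_zero, e, h]
    rfl
  refine ⟨(injective_iff_map_eq_zero β).2 fun t ht => ?_, fun s => ?_⟩
  · refine Module.Flat.lTensor_preserves_injective_linearMap f hf ((hP _ 0 fun i => ?_).trans (map_zero _).symm)
    rw [← LinearMap.comp_apply, ← LinearMap.lTensor_comp, map_zero]
    refine (hγ i).1 ?_
    rw [← hβ, ht, map_zero, map_zero]
    rfl
  · choose t ht using fun i => (hγ i).2 (r' s i)
    let z := (TensorProduct.piRight A A B P).symm t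
    have hz : ∀ i, (LinearMap.proj i).lTensor B z = t i := by
      intro i
      have e : ∀ w : B ⊗[A] ∀ i, P i, TensorProduct.piRight A A B P w i = (LinearMap.proj i).lTensor B w := by
        intro w
        induction w using TensorProduct.induction_on with
        | zero => simp
        | add x y hx hy => rw [map_add, Pi.add_apply, hx, hy, map_add]
        | tmul b p => simp
      rw [← e, LinearEquiv.apply_symm_apply]
    have hdz : d.lTensor B z = 0 := hQ _ fun k => by
      rw [← LinearMap.comp_apply, ← LinearMap.lTensor_comp]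
      refine hδ k ?_
      rw [hd, map_zero, show (fun i => γ i ((LinearMap.proj i).lTensor B z)) = r' s from
        funext fun i => by rw [hz, ht], hd']
      rfl
    obtain ⟨w, hw⟩ := (Module.Flat.lTensor_exact B hfd z).1 hdz
    refine ⟨w, hr' (funext fun i => ?_)⟩
    rw [hβ, LinearMap.lTensor_comp, LinearMap.comp_apply, hw, hz, ht]

end Descent

end Groth.Agent.EtQC
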