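import Groth.Agent.EtQC.Sec
import Groth.Agent.EtQC.Alg

/-!
# Base change of sections between affine objects, and descent of it along coverings
-/

set_option autoImplicit false
set_option backward.isDefEq.respectTransparency false
set_option backward.isDefEq.respectTransparency.types false

universe u

open CategoryTheory CategoryTheory.Limits AlgebraicGeometry Opposite AlgSp
open scoped TensorProduct

namespace Groth.Agent.EtQC

variable {S : Scheme.{u}} {X : Sp S} (M : ModEt X)

theorem flat_fmap {E E' : EtOver X} (g : E' ⟶ E) [IsAffine E.obj.left.left] [IsAffine E'.obj.left.left] :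
    (fmap g).Flat := by
  haveI := EtOver.etale_left g
  exact (HasRingHomProperty.iff_of_isAffine (P := @Flat)).1 (inferInstanceAs (Flat g.hom.left.left))

theorem res_smul' {E E' : EtOver X} (g : E' ⟶ E) :
    letI := (fmap g).toAlgebra
    ∀ (a : Fn E) (s : sectModEt M E),
      res M g (a • s) = RingHom.id (Fn E') (algebraMap (Fn E) (Fn E') a) • res M g s :=
  res_smul M g

/-- Base change holds along `g`. -/
def BCAt {E E' : EtOver X} (g : E' ⟶ E) : Prop :=
  letI := (fmap g).toAlgebra
  Function.Bijective (gam (RingHom.id (Fn E')) (res M g) (res_smul' M g))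

/-- Base change holds over `E` on all affine objects. -/
def BC (E : EtOver X) : Prop := ∀ (E' : EtOver X) (g : E' ⟶ E), IsAffine E'.obj.left.left → BCAt M g

variable {M}

/-- Base change passes to affine objects over `E`. -/
theorem BC.of_hom {E E₁ : EtOver X} (h : BC M E) (g : E₁ ⟶ E) [IsAffine E₁.obj.left.left] : BC M E₁ := by
  intro W p hW
  letI := (fmap g).toAlgebra
  letI := (fmap p).toAlgebra
  letI := (fmap (p ≫ g)).toAlgebra
  haveI : IsScalarTower (Fn E) (Fn E₁) (Fn W) := IsScalarTower.of_algebraMap_eq (fmap_comp g p)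
  exact gam_bijective_of_comp (res M g) (res_smul' M g) (res M p) (res_smul' M p) (res M (p ≫ g))
    (res_smul' M (p ≫ g)) (res_comp M g p) (h E₁ g ‹_›) (h W (p ≫ g) hW)

variable (M)

/-- Restriction of scalars of sections along a morphism. -/
@[reducible] noncomputable def modRes {E V : EtOver X} (g : V ⟶ E) : Module (Fn E) (sectModEt M V) :=
  Module.compHom _ (fmap g)

theorem bijective_gam_of_square {E V E' W : EtOver X} (hV : BC M V) (g : E' ⟶ E) (h : V ⟶ E) (a : W ⟶ E')
    (b : W ⟶ V) [IsAffine W.obj.left.left]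
    (hp : IsPushout g.hom.left.left.appTop h.hom.left.left.appTop a.hom.left.left.appTop b.hom.left.left.appTop)
    (hr : letI := (fmap g).toAlgebra; letI := modRes M h
      ∀ (c : Fn E) (s : sectModEt M V), res M b (c • s) = fmap a (algebraMap (Fn E) (Fn E') c) • res M b s) :
    letI := (fmap g).toAlgebra; letI := modRes M h
    Function.Bijective (gam (fmap a) (res M b) hr) := by
  letI := (fmap g).toAlgebra
  letI := (fmap h).toAlgebra
  letI := modRes M h
  haveI : IsScalarTower (Fn E) (Fn V) (sectModEt M V) := IsScalarTower.of_algebraMap_smul fun _ _ => rfl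
  exact (gam_bijective_iff_of_isPushout (fmap a) (fmap b) hp (res M b) hr (res_smul' M b)).2 (hV W b ‹_›)

variable {M}

/-- Base change is local for coverings by affine objects. -/
theorem BC.of_cover {E : EtOver X} [IsAffine E.obj.left.left] {n : ℕ} (V : Fin n → EtOver X)
    [∀ i, IsAffine (V i).obj.left.left] (h : ∀ i, V i ⟶ E)
    (hc : ∀ x : ↥E.obj.left.left, ∃ i, x ∈ Set.range (h i).hom.left.left) (hV : ∀ i, BC M (V i)) : BC M E := by
  intro E' g hE'
  haveI := hE'
  letI := (fmap g).toAlgebra
  haveI : Module.Flat (Fn E) (Fn E') := flat_fmap g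
  let F : Fin n × Fin n → EtOver X := fun k => EtOver.pullbackObj (h k.1) (h k.2)
  let p₁ : ∀ k, F k ⟶ V k.1 := fun k => EtOver.pullbackFst _ _
  let p₂ : ∀ k, F k ⟶ V k.2 := fun k => EtOver.pullbackSnd _ _
  let q : ∀ k, F k ⟶ E := fun k => p₁ k ≫ h k.1
  have hq : ∀ k, p₂ k ≫ h k.2 = q k := fun k => (EtOver.pullback_condition _ _).symm
  let W : Fin n → EtOver X := fun i => EtOver.pullbackObj g (h i)
  let a : ∀ i, W i ⟶ E' := fun i => EtOver.pullbackFst _ _
  let b : ∀ i, W i ⟶ V i := fun i => EtOver.pullbackSnd _ _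
  let G : Fin n × Fin n → EtOver X := fun k => EtOver.pullbackObj g (q k)
  let ak : ∀ k, G k ⟶ E' := fun k => EtOver.pullbackFst _ _
  let bk : ∀ k, G k ⟶ F k := fun k => EtOver.pullbackSnd _ _
  have wk : ∀ k, ak k ≫ g = bk k ≫ q k := fun k => EtOver.pullback_condition _ _
  let u₁ : ∀ k, G k ⟶ W k.1 := fun k =>
    (EtOver.isPullback g (h k.1)).lift (ak k) (bk k ≫ p₁ k) (by rw [wk, Category.assoc])
  let u₂ : ∀ k, G k ⟶ W k.2 := fun k =>
    (EtOver.isPullback g (h k.2)).lift (ak k) (bk k ≫ p₂ k) (by rw [wk, Category.assoc, hq])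
  have hu₁a : ∀ k, u₁ k ≫ a k.1 = ak k := fun k => (EtOver.isPullback g (h k.1)).lift_fst _ _ _
  have hu₁b : ∀ k, u₁ k ≫ b k.1 = bk k ≫ p₁ k := fun k => (EtOver.isPullback g (h k.1)).lift_snd _ _ _
  have hu₂a : ∀ k, u₂ k ≫ a k.2 = ak k := fun k => (EtOver.isPullback g (h k.2)).lift_fst _ _ _
  have hu₂b : ∀ k, u₂ k ≫ b k.2 = bk k ≫ p₂ k := fun k => (EtOver.isPullback g (h k.2)).lift_snd _ _ _
  letI : ∀ i, Module (Fn E) (sectModEt M (V i)) := fun i => modRes M (h i)
  letI : ∀ k, Module (Fn E) (sectModEt M (F k)) := fun k => modRes M (q k)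
  let f : sectModEt M E →ₗ[Fn E] ∀ i, sectModEt M (V i) := LinearMap.pi fun i =>
    { toFun := res M (h i)
      map_add' := map_add _
      map_smul' := fun c s => res_smul M (h i) c s }
  let d : (∀ i, sectModEt M (V i)) →ₗ[Fn E] ∀ k, sectModEt M (F k) := LinearMap.pi fun k =>
    { toFun := fun s => res M (p₁ k) (s k.1) - res M (p₂ k) (s k.2)
      map_add' := fun s t => by
        rw [Pi.add_apply, Pi.add_apply, map_add, map_add, add_sub_add_comm]
      map_smul' := fun c s => by
        show res M (p₁ k) (fmap (h k.1) c • s k.1) - res M (p₂ k) (fmap (h k.2) c • s k.2) =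
          fmap (q k) c • (res M (p₁ k) (s k.1) - res M (p₂ k) (s k.2))
        rw [res_smul, res_smul, ← fmap_comp, ← fmap_comp, hq, smul_sub] }
  have hr : ∀ i (c : Fn E) (s : sectModEt M (V i)),
      res M (b i) (c • s) = fmap (a i) (algebraMap (Fn E) (Fn E') c) • res M (b i) s := fun i c s => by
    show res M (b i) (fmap (h i) c • s) = fmap (a i) (fmap g c) • _
    rw [res_smul, ← fmap_comp, ← fmap_comp, ← EtOver.pullback_condition]
  have hrk : ∀ k (c : Fn E) (s : sectModEt M (F k)),
      res M (bk k) (c • s) = fmap (ak k) (algebraMap (Fn E) (Fn E') c) • res M (bk k) s := fun k c s => by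
    show res M (bk k) (fmap (q k) c • s) = fmap (ak k) (fmap g c) • _
    rw [res_smul, ← fmap_comp, ← fmap_comp, wk]
  haveI : ∀ k, IsAffine (F k).obj.left.left := fun k => inferInstance
  let r' : sectModEt M E' →+ ∀ i, sectModEt M (W i) := AddMonoidHom.mk' (fun s i => res M (a i) s)
    fun s t => funext fun i => map_add _ s t
  let d' : (∀ i, sectModEt M (W i)) →+ ∀ k, sectModEt M (G k) :=
    AddMonoidHom.mk' (fun s k => res M (u₁ k) (s k.1) - res M (u₂ k) (s k.2))
      fun s t => funext fun k => by
        show res M (u₁ k) (s k.1 + t k.1) - res M (u₂ k) (s k.2 + t k.2) =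
          (res M (u₁ k) (s k.1) - res M (u₂ k) (s k.2)) + (res M (u₁ k) (t k.1) - res M (u₂ k) (t k.2))
        rw [map_add, map_add, add_sub_add_comm]
  refine bijective_of_equalizer f d ?_ ?_ _ r' ?_ d' ?_
    (fun i => gam (fmap (a i)) (res M (b i)) (hr i)) (fun i => ?_)
    (fun k => gam (fmap (ak k)) (res M (bk k)) (hrk k)) (fun k => ?_) ?_ ?_
  · exact fun s t hst => ext_of_cover M V h hc fun i => congrFun hst i
  · intro s
    refine ⟨fun hs => ?_, ?_⟩
    · obtain ⟨t, ht⟩ := exists_glue M (ι := ULift.{u + 1} (Fin n)) (fun i => V i.down) (fun i => h i.down)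
        (fun x => by obtain ⟨i, hi⟩ := hc x; exact ⟨⟨i⟩, hi⟩) (fun i => s i.down)
        fun i j => sub_eq_zero.1 (congrFun hs (i.down, j.down))
      exact ⟨t, funext fun i => ht ⟨i⟩⟩
    · rintro ⟨t, rfl⟩
      refine funext fun k => ?_
      show res M (p₁ k) (res M (h k.1) t) - res M (p₂ k) (res M (h k.2) t) = 0
      rw [← res_comp, ← res_comp, hq, sub_self]
  · refine fun s t hst => ext_of_cover M W a (fun x => ?_) fun i => congrFun hst i
    obtain ⟨i, y, hy⟩ := hc (g.hom.left.left x)
    obtain ⟨z, hz, -⟩ := Scheme.Pullback.exists_preimage_pullback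
      (f := g.hom.left.left) (g := (h i).hom.left.left) x y hy.symm
    refine ⟨i, (isPullback_left g (h i)).isoPullback.inv z, ?_⟩
    rw [← Scheme.Hom.comp_apply, (isPullback_left g (h i)).isoPullback_inv_fst]
    exact hz
  · refine fun s => funext fun k => ?_
    show res M (u₁ k) (res M (a k.1) s) - res M (u₂ k) (res M (a k.2) s) = 0
    rw [← res_comp, ← res_comp, hu₁a, hu₂a, sub_self]
  · exact bijective_gam_of_square M (hV i) g (h i) (a i) (b i) (isPushout_fn g (h i)) (hr i)
  · exact (bijective_gam_of_square M ((hV k.1).of_hom (p₁ k)) g (q k) (ak k) (bk k) (isPushout_fn g (q k))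
      (hrk k)).1
  · intro t i
    induction t using TensorProduct.induction_on with
    | zero => simp only [map_zero]; rfl
    | add x y hx hy => simp only [map_add, Pi.add_apply, hx, hy]
    | tmul c s =>
      show res M (a i) (c • res M g s) = fmap (a i) c • res M (b i) (res M (h i) s)
      rw [res_smul, ← res_comp, ← res_comp, EtOver.pullback_condition]
  · intro z k
    induction z using TensorProduct.induction_on with
    | zero => simp only [map_zero]; exact (congrFun (map_zero d') k).symm
    | add x y hx hy =>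
      simp only [map_add, hx, hy]
      exact (congrFun (map_add d' _ _) k).symm
    | tmul c s =>
      show fmap (ak k) c • res M (bk k) (res M (p₁ k) (s k.1) - res M (p₂ k) (s k.2)) =
        res M (u₁ k) (fmap (a k.1) c • res M (b k.1) (s k.1)) -
          res M (u₂ k) (fmap (a k.2) c • res M (b k.2) (s k.2))
      rw [map_sub, smul_sub, res_smul, res_smul, ← fmap_comp, ← fmap_comp, ← res_comp, ← res_comp, ← res_comp,
        ← res_comp, hu₁a, hu₁b, hu₂a, hu₂b]

end Groth.Agent.EtQC
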