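import Groth.Agent.EtQC.CechQC
import Groth.Agent.EtFound.CechSurjGen
import Groth.Agent.SiteBase.AbSecExact
import Mathlib.CategoryTheory.Limits.Constructions.Over.Products
import Mathlib.Algebra.Homology.DerivedCategory.Ext.EnoughInjectives

/-!
# Cartan's criterion on the small etale site of an algebraic space
-/

set_option autoImplicit false
set_option backward.isDefEq.respectTransparency false
set_option backward.isDefEq.respectTransparency.types false

universe u

set_option maxHeartbeats 1600000

open CategoryTheory CategoryTheory.Limits AlgebraicGeometry Opposite Abelian AlgSp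

namespace Groth.Agent.EtQC

open EtFound

variable {S : Scheme.{u}} {X : Sp S}

theorem isAffAcyclic_of_injective (G : AbEt X) [Injective G] : IsAffAcyclic G := by
  intro U _ n Y _ _ _ p
  haveI : LocallySmall.{u + 1} (EtOver X) := ⟨fun _ _ => inferInstance⟩
  haveI : Injective G.obj :=
    Injective.injective_of_adjoint (sheafificationAdjunction (etTop X) AddCommGrpCat.{u + 1}) G
  exact CechInjGen.isZero_cechH_injective _ G.obj p

theorem sec_injective {F G : AbEt X} (f : F ⟶ G) [Mono f] (T : (EtOver X)ᵒᵖ) :
    Function.Injective (f.hom.app T).hom := SiteBase.sheaf_app_injective f T.unop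

variable (T : ShortComplex (AbEt X)) (hT : T.ShortExact)

include hT

theorem sec_exact (V : (EtOver X)ᵒᵖ) (y : T.X₂.obj.obj V) (hy : (T.g.hom.app V).hom y = 0) :
    ∃ x, (T.f.hom.app V).hom x = y := by
  haveI := hT.mono_f
  exact (SiteBase.secExact_iff T V.unop).1 (hT.exact.map_of_mono_of_preservesKernel
    (sheafToPresheaf (etTop X) AddCommGrpCat.{u + 1} ⋙
      (evaluation (EtOver X)ᵒᵖ AddCommGrpCat.{u + 1}).obj V) inferInstance inferInstance) y hy

/-- Sections over affine objects lift when the kernel is acyclic. -/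
theorem sections_surjective (h1 : IsAffAcyclic T.X₁) {V : EtOver X} [IsAffine V.obj.left.left] :
    Function.Surjective (T.g.hom.app (op V)).hom := by
  intro z
  haveI : LocallySmall.{u + 1} (EtOver X) := ⟨fun _ _ => inferInstance⟩
  haveI := hT.mono_f
  haveI := hT.epi_g
  haveI : HasBinaryProducts (Over V) := Over.ConstructProducts.over_binaryProduct_of_pullback
  haveI : HasFiniteProducts (Over V) := hasFiniteProducts_of_has_binary_and_terminal
  have hloc : Presheaf.IsLocallySurjective (etTop X) T.g.hom :=
    (Sheaf.isLocallySurjective_iff_epi' AddCommGrpCat.{u + 1} T.g).2 inferInstance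
  obtain ⟨n, W, h, hW, hR, hc⟩ := exists_affine_refinement (hloc.imageSieve_mem (U := V) z)
  choose s hs using hR
  let Y : ULift.{u + 1} (Fin n) → Over V := fun a => Over.mk (h a.down)
  have hcov : ∀ x : ↥V.obj.left.left, ∃ a : ULift.{u + 1} (Fin n), x ∈ Set.range (h a.down).hom.left.left :=
    fun x => by obtain ⟨i, hi⟩ := hc x; exact ⟨⟨i⟩, hi⟩
  have hsheaf : ∀ F : AbEt X, Presieve.IsSheafFor (F.obj ⋙ forget AddCommGrpCat.{u + 1})
      (Presieve.ofArrows (fun a => (Y a).left) fun a => (Y a).hom) := fun F =>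
    (Presieve.isSheafFor_iff_generate _).2 ((isSheaf_iff_isSheaf_of_type _ _).1
      ((Presheaf.isSheaf_iff_isSheaf_forget (etTop X) F.obj (forget AddCommGrpCat.{u + 1})).1 F.property) _
      (AlgSpDec.ofArrows_mem_etTop _ _ hcov))
  exact CechSurjGen.exists_lift_of_isZero_cechH_one (Uf := Y) T.f.hom T.g.hom
    (fun W => sec_injective T.f W) (fun W => sec_exact T hT W)
    (fun W x => congrArg (fun t : T.X₁ ⟶ T.X₃ => (t.hom.app W).hom x) T.zero)
    (h1 V n Y ‹_› (fun a => hW a.down) hcov 0) (hsheaf _) (hsheaf _) z (fun a => s a.down) (fun a => hs a.down)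

theorem isAffAcyclic_X₃ (h1 : IsAffAcyclic T.X₁) (h2 : IsAffAcyclic T.X₂) : IsAffAcyclic T.X₃ := by
  intro U _ n Y hU hY hc p
  haveI : LocallySmall.{u + 1} (EtOver X) := ⟨fun _ _ => inferInstance⟩
  haveI := hT.mono_f
  haveI := hT.epi_g
  haveI := hU
  exact CechSurjGen.isZero_cechH_quot T.f.hom T.g.hom
    (fun W => sec_injective T.f W) (fun W => sec_exact T hT W)
    (fun W x => congrArg (fun t : T.X₁ ⟶ T.X₃ => (t.hom.app W).hom x) T.zero) p
    (h1 U n Y hU hY hc (p + 1)) (h2 U n Y hU hY hc p)
    (fun q i =>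
      haveI := isAffine_PO Y hY q i
      sections_surjective T hT h1)

omit hT T

/-- Cartan's criterion on an affine final object. -/
theorem subsingleton_HEt_of_isAffAcyclic {E₀ : EtOver X} (ht : IsTerminal E₀) [IsAffine E₀.obj.left.left] (n : ℕ)
    (G : AbEt X) (hG : IsAffAcyclic G) : Subsingleton (HEt X G (n + 1)) := by
  induction n generalizing G with
  | zero =>
    let T := ShortComplex.mk (Injective.ι G) (cokernel.π _) (cokernel.condition (Injective.ι G))
    have hT : T.ShortExact := { exact := ShortComplex.exact_of_g_is_cokernel _ (cokernelIsCokernel _) }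
    refine subsingleton_of_forall_eq 0 fun x => ?_
    obtain ⟨z, rfl⟩ := Ext.covariant_sequence_exact₁ _ hT x
      (haveI : Injective T.X₂ := inferInstanceAs (Injective (Injective.under G)); Ext.eq_zero_of_injective _)
      (rfl : 0 + 1 = 1)
    obtain ⟨φ, rfl⟩ := (Ext.mk₀_bijective _ _).2 z
    let adj := constantSheafAdj (etTop X) AddCommGrpCat.{u + 1} ht
    obtain ⟨a, ha⟩ := sections_surjective T hT hG (V := E₀) (adj.homEquiv _ _ φ ⟨1⟩)
    have hφ : (adj.homEquiv _ _).symm ((AddCommGrpCat.uliftZMultiplesAddEquiv _).symm a) ≫ T.g = φ := by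
      apply (adj.homEquiv _ _).injective
      rw [Adjunction.homEquiv_naturality_right, Equiv.apply_symm_apply]
      apply (AddCommGrpCat.uliftZMultiplesAddEquiv _).injective
      refine Eq.trans ?_ ha
      exact congrArg (T.g.hom.app (op E₀)) ((AddCommGrpCat.uliftZMultiplesAddEquiv _).apply_symm_apply a)
    rw [← hφ, ← Ext.mk₀_comp_mk₀, Ext.comp_assoc_of_second_deg_zero, hT.comp_extClass, Ext.comp_zero]
  | succ n ih =>
    let T := ShortComplex.mk (Injective.ι G) (cokernel.π _) (cokernel.condition (Injective.ι G))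
    have hT : T.ShortExact := { exact := ShortComplex.exact_of_g_is_cokernel _ (cokernelIsCokernel _) }
    haveI hI : Injective T.X₂ := inferInstanceAs (Injective (Injective.under G))
    refine subsingleton_of_forall_eq 0 fun x => ?_
    obtain ⟨z, rfl⟩ := Ext.covariant_sequence_exact₁ _ hT x (Ext.eq_zero_of_injective _) (rfl : (n + 1) + 1 = _)
    haveI := ih T.X₃ (isAffAcyclic_X₃ T hT hG (isAffAcyclic_of_injective T.X₂))
    rw [Subsingleton.elim z 0, Ext.zero_comp]

/-- An isomorphism with a representable sheaf gives a final object. -/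
theorem exists_terminal {T : Over S} (e : (yon S).obj T ≅ X) :
    ∃ (E₀ : EtOver X) (_ : IsTerminal E₀), E₀.obj.left = T := by
  have he : RepWith @Etale e.hom := by
    have h := repWith_id (S := S) @Etale T
    exact (MorphismProperty.cancel_right_of_respectsIso (RepWith (S := S) @Etale) (𝟙 _) e.hom).2 h |> fun h' => by
      rwa [Category.id_comp] at h'
  refine ⟨EtOver.mk e.hom he, IsTerminal.ofUniqueHom
    (fun E => EtOver.homMk ((yon S).preimage (E.obj.hom ≫ e.inv)) (by
      change (yon S).map ((yon S).preimage (E.obj.hom ≫ e.inv)) ≫ e.hom = E.obj.hom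
      rw [Functor.map_preimage, Category.assoc, e.inv_hom_id, Category.comp_id]))
    (fun E g => EtOver.hom_ext _ _ ((yon S).map_injective ?_)), rfl⟩
  change (yon S).map g.hom.left = (yon S).map ((yon S).preimage (E.obj.hom ≫ e.inv))
  rw [Functor.map_preimage, ← EtOver.w g]
  exact (Category.comp_id _).symm.trans ((congrArg ((yon S).map g.hom.left ≫ ·) e.hom_inv_id.symm).trans (Category.assoc _ _ _).symm)

/-- Quasi-coherent modules have no higher cohomology on affine schemes. -/
theorem subsingleton_HModEt_affine {M : ModEt X} (hM : BCAll M) {T : Over S} (hT : IsAffine T.left)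
    (e : (yon S).obj T ≅ X) (i : ℕ) (hi : 0 < i) : Subsingleton (HModEt X M i) := by
  obtain ⟨E₀, ht, hE⟩ := exists_terminal e
  haveI : IsAffine E₀.obj.left.left := by rw [hE]; exact hT
  obtain ⟨n, rfl⟩ := Nat.exists_eq_add_of_le hi
  rw [add_comm]
  exact subsingleton_HEt_of_isAffAcyclic ht n _ (isAffAcyclic_of_bcAll hM)

end Groth.Agent.EtQC
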