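import Groth.Agent.EtQC.Ops
import Groth.Agent.AlgSpPts.Univ
import Mathlib.RingTheory.Ideal.AssociatedPrime.Finiteness

/-!
# Sections of modules of finite type, and finiteness of associated points
-/

set_option autoImplicit false
set_option backward.isDefEq.respectTransparency false
set_option backward.isDefEq.respectTransparency.types false

universe u

open CategoryTheory CategoryTheory.Limits AlgebraicGeometry Opposite AlgSp
open scoped TensorProduct

namespace Groth.Agent.EtQC

variable {S : Scheme.{u}} {X : Sp S} (M : ModEt X) [M.IsQuasicoherent]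

/-- Finitely many generators over an object give finitely generated sections on affine objects over it. -/
theorem finite_sections {E : EtOver X} (G : (M.over E).GeneratingSections) [Finite G.I] {V : EtOver X} (g : V ⟶ E)
    [IsAffine V.obj.left.left] : Module.Finite (Fn V) (sectModEt M V) := by
  let e : G.I → sectModEt M E := fun i => (G.s i).1 (sObj (𝟙 E))
  let L : Submodule (Fn V) (sectModEt M V) := Submodule.span (Fn V) (Set.range fun i => res M g (e i))
  have hL : L = ⊤ := by
    refine eq_top_iff.2 fun s _ => ?_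
    let ψ : FreeLoc.pfree (ROn E) G.I ⟶ (M.over E).val := FreeLoc.η₀ (ROn E) G.I ≫ G.π.val
    have hψ : Presheaf.IsLocallySurjective ((etTop X).over E) ((PresheafOfModules.toPresheaf _).map ψ) := by
      haveI := (FreeLoc.isLocallyBijective_η₀ (R := ROn E) G.I).2
      haveI : Sheaf.IsLocallySurjective ((SheafOfModules.toSheaf _).map G.π) :=
        (Sheaf.isLocallySurjective_iff_epi' _ _).2 inferInstance
      rw [Functor.map_comp]
      exact Presheaf.isLocallySurjective_comp ((etTop X).over E)
        ((PresheafOfModules.toPresheaf _).map (FreeLoc.η₀ (ROn E) G.I))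
        ((SheafOfModules.toSheaf _).map G.π).hom
    obtain ⟨n, W, h, hW, hh, hc⟩ := exists_slice_refinement g (Presheaf.imageSieve_mem ((etTop X).over E)
      ((PresheafOfModules.toPresheaf _).map ψ) (U := sObj g) s)
    letI : ∀ m, Algebra (Fn V) (Fn (W m)) := fun m => (fmap (h m)).toAlgebra
    haveI : ∀ m, Module.Flat (Fn V) (Fn (W m)) := fun m => by haveI := hW m; exact flat_fmap (h m)
    rw [← Submodule.Quotient.mk_eq_zero]
    refine eq_zero_of_forall_flat (fun m => Fn (W m))
      (fun p hp => LocPres.exists_prime_over W h hc p hp) _ fun m => ?_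
    haveI := hW m
    obtain ⟨t', ht'⟩ := hh m
    obtain ⟨t, rfl⟩ := toPF_surjective (h m ≫ g) t'
    have hval : t.sum (fun i a => a • res M (h m) (res M g (e i))) = res M (h m) s := by
      refine Eq.trans ?_ ht'
      refine Eq.trans ?_ (app_toPF ψ (h m ≫ g) t).symm
      refine Eq.symm (Finsupp.sum_congr fun i _ => congrArg ((upΓ (W m) (t i) : (ROn E).obj.obj (sObj (h m ≫ g))) • ·) ?_)
      show G.π.val.app (sObj (h m ≫ g)) ((FreeLoc.η₀ (ROn E) G.I).app (sObj (h m ≫ g)) (ModuleCat.freeMk i)) = _
      rw [FreeLoc.η₀, FreeLoc.pdesc_mk]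
      refine (congrArg (fun z => z.1 (sObj (h m ≫ g)))
        (SheafOfModules.sectionsMap_freeHomEquiv_symm_freeSection (M := M.over E) G.s i)).trans ?_
      rw [← res_comp]
      exact ((G.s i).2 (sMap (h m ≫ g) (g := 𝟙 E) (Category.comp_id _))).symm
    have h1 : (1 : Fn (W m)) ⊗ₜ[Fn V] s =
        ∑ i ∈ t.support, t i ⊗ₜ[Fn V] res M g (e i) := by
      refine (bcEquiv M (h m)).injective ?_
      rw [map_sum]
      show RingHom.id _ (1 : Fn (W m)) • res M (h m) s = _
      rw [RingHom.id_apply, one_smul, ← hval]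
      exact Finset.sum_congr rfl fun i _ => rfl
    rw [← Submodule.mkQ_apply, ← LinearMap.lTensor_tmul, h1, map_sum]
    refine Finset.sum_eq_zero fun i _ => ?_
    rw [LinearMap.lTensor_tmul, Submodule.mkQ_apply, (Submodule.Quotient.mk_eq_zero L).2
      (Submodule.subset_span (Set.mem_range_self i)), TensorProduct.tmul_zero]
  exact ⟨hL ▸ Submodule.fg_span (Set.finite_range _)⟩

/-- A module of finite type has finitely generated sections on a chart at every point. -/
theorem exists_chart_finite [M.IsFiniteType] (hX : IsAlgSpace X) (x : Points X) :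
    ∃ (V : EtOver X) (_ : IsAffine V.obj.left.left),
      x ∈ Set.range (Points.ofPt V.obj.hom) ∧ Module.Finite (Fn V) (sectModEt M V) := by
  obtain ⟨σ, hσ⟩ := SheafOfModules.IsFiniteType.exists_localGeneratorsData M
  obtain ⟨E, hE, w, hw⟩ := exists_affine_chart hX x
  haveI := hE
  obtain ⟨n, V, h, hV, hR, hc⟩ := exists_affine_refinement (σ.coversTop E)
  obtain ⟨i, v, hv⟩ := hc w
  obtain ⟨j, ⟨a⟩⟩ := hR i
  haveI := hV i
  haveI := (hσ.isFiniteType j).finite
  refine ⟨V i, hV i, ⟨v, ?_⟩, finite_sections M (σ.generators j) a⟩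
  rw [← hw, ← hv, ← EtOver.w (h i)]
  exact AlgSpLib.ofPt_comp _ _ _

omit [M.IsQuasicoherent] in
/-- Charts are open on points. -/
theorem isOpen_range_ofPt (E : EtOver X) : IsOpen (Set.range (Points.ofPt E.obj.hom)) := by
  have : Points.ofPt E.obj.hom = Points.map E.obj.hom ∘ Points.schemeHomeo E.obj.left :=
    funext fun t => Points.ofPt_eq_map_ofScheme _ t
  rw [this, Set.range_comp, (Points.schemeHomeo E.obj.left).surjective.range_eq]
  refine AlgSpPts.isOpenMap_map (AlgSpLib.repWith_mono (P := @Etale) (fun A B k hk => ?_) _ E.property) _ isOpen_univ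
  haveI : Etale k := hk
  infer_instance

/-- A coherent module on a locally noetherian space has finitely many associated points on compact sets. -/
theorem finite_weakAssEt_inter [M.IsFiniteType] (hX : IsAlgSpace X) (hN : IsLocNoethSp X) {K : Set (Points X)}
    (hK : IsCompact K) : (WeakAssEt M ∩ K).Finite := by
  choose V hV hx hfin using exists_chart_finite M hX
  obtain ⟨T, hT⟩ := hK.elim_finite_subcover (fun x => Set.range (Points.ofPt (V x).obj.hom))
    (fun x => isOpen_range_ofPt (V x)) fun x _ => Set.mem_iUnion.2 ⟨x, hx x⟩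
  refine Set.Finite.subset (T.finite_toSet.biUnion fun x _ => ?_)
    (fun y hy => Set.mem_iUnion₂.2 ?_ : WeakAssEt M ∩ K ⊆
      ⋃ x ∈ T, Points.ofPt (V x).obj.hom '' {w | primeAtPt (V x).obj.left.left w ∈
        associatedPrimes (Fn (V x)) (sectModEt M (V x))})
  · haveI := hV x
    haveI := hfin x
    haveI := AlgSpDec.isLocallyNoetherian_chart (V x).property hN
    haveI : IsNoetherianRing (Fn (V x)) := IsLocallyNoetherian.component_noetherian ⟨⊤, isAffineOpen_top _⟩
    exact ((associatedPrimes.finite (Fn (V x)) (sectModEt M (V x))).preimage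
      WeakAssEtLib.primeAtPt_injective.injOn).image _
  · obtain ⟨x, hxT, w, hw⟩ := Set.mem_iUnion₂.1 (hT hy.2)
    haveI := hV x
    haveI := AlgSpDec.isLocallyNoetherian_chart (V x).property hN
    haveI : IsNoetherianRing (Fn (V x)) := IsLocallyNoetherian.component_noetherian ⟨⊤, isAffineOpen_top _⟩
    have h1 := (isWeakAssOn_iff M (V x) w).1 ((mem_weakAssEt_iff M (V x) w).1 (hw ▸ hy.1))
    obtain ⟨hp, t, ht⟩ := WeakAss.mem_ass_of_mem_weakAss_of_fg (IsNoetherian.noetherian _) h1
    refine ⟨x, hxT, w, ?_, hw⟩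
    refine (Submodule.isAssociatedPrime_iff).2 ⟨hp, t, ?_⟩
    rw [ht]
    ext r
    rw [WeakAss.mem_annEl, Submodule.mem_colon_singleton, Submodule.mem_bot]

end Groth.Agent.EtQC
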