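import Groth.Agent.EtQC.ToPres
import Mathlib.Algebra.Module.FinitePresentation

/-!
# Criteria for quasi-coherence in terms of sections on affine objects
-/

set_option autoImplicit false
set_option backward.isDefEq.respectTransparency false
set_option backward.isDefEq.respectTransparency.types false

universe u

set_option maxHeartbeats 1600000

open CategoryTheory CategoryTheory.Limits AlgebraicGeometry Opposite AlgSp
open scoped TensorProduct

namespace Groth.Agent.EtQC

variable {S : Scheme.{u}} {X : Sp S} {M : ModEt X}

/-- Affine opens of an object cover it. -/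
theorem coversTop_of_affine {ι : Type*} (Y : ι → EtOver X)
    (h : ∀ (E : EtOver X), IsAffine E.obj.left.left → Sieve.ofObjects Y E ∈ etTop X E) : (etTop X).CoversTop Y := by
  intro V
  choose O hO hxO _ using fun x : ↥V.obj.left.left =>
    exists_isAffineOpen_mem_and_subset (x := x) (U := (⊤ : V.obj.left.left.Opens)) trivial
  refine (etTop X).transitive (AlgSpDec.ofArrows_mem_etTop (fun x => AlgSpDec.etOpen V (O x))
    (fun x => AlgSpDec.etOpenι V (O x)) fun x => ⟨x, ⟨x, hxO x⟩, rfl⟩) _ ?_
  rintro W f ⟨_, a, _, ⟨x⟩, rfl⟩
  refine (etTop X).superset_covering ?_ ((etTop X).pullback_stable a (h (AlgSpDec.etOpen V (O x)) (hO x)))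
  intro Z q hq
  obtain ⟨i, ⟨p⟩⟩ := (Sieve.mem_ofObjects_iff ..).1 hq
  exact (Sieve.mem_ofObjects_iff ..).2 ⟨i, ⟨p⟩⟩

/-- Affine objects satisfying a property cover as soon as every affine object is covered by such. -/
theorem coversTop_pred (P : EtOver X → Prop)
    (h : ∀ (E : EtOver X), IsAffine E.obj.left.left → ∃ (n : ℕ) (V : Fin n → EtOver X) (g : ∀ i, V i ⟶ E),
      (∀ i, P (V i)) ∧ ∀ x : ↥E.obj.left.left, ∃ i, x ∈ Set.range (g i).hom.left.left) :
    (etTop X).CoversTop fun V : {V : EtOver X // P V} => V.1 := by
  refine coversTop_of_affine _ fun E hE => ?_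
  obtain ⟨n, V, g, hP, hc⟩ := h E hE
  refine (etTop X).superset_covering ?_ (AlgSpDec.ofArrows_mem_etTop V g hc)
  rintro W f ⟨_, a, _, ⟨i⟩, rfl⟩
  exact (Sieve.mem_ofObjects_iff ..).2 ⟨⟨V i, hP i⟩, ⟨a⟩⟩

theorem span_ker_eq {R N : Type*} [CommRing R] [AddCommGroup N] [Module R N] {I : Type*} (e : I → N)
    {K : Type*} (c : K → I →₀ R)
    (h : Set.range c = (LinearMap.ker (Finsupp.linearCombination R e) : Set (I →₀ R))) :
    Submodule.span R (Set.range c) = LinearMap.ker (Finsupp.linearCombination R e) := by
  rw [h, Submodule.span_eq]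

/-- A module with base change on affine objects covering the site is quasi-coherent. -/
theorem isQuasicoherent_of_bc (h : ∀ (E : EtOver X), IsAffine E.obj.left.left →
      ∃ (n : ℕ) (V : Fin n → EtOver X) (g : ∀ i, V i ⟶ E), (∀ i, IsAffine (V i).obj.left.left ∧ BC M (V i)) ∧
        ∀ x : ↥E.obj.left.left, ∃ i, x ∈ Set.range (g i).hom.left.left) : M.IsQuasicoherent := by
  let P : EtOver X → Prop := fun V => IsAffine V.obj.left.left ∧ BC M V
  refine SheafOfModules.QuasicoherentData.isQuasicoherent (M := M)
    { I := @Subtype.{u + 2} (EtOver X) P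
      X := fun V => V.1
      coversTop := coversTop_pred P h
      presentation := fun V =>
        haveI : IsAffine V.1.obj.left.left := V.2.1
        (exists_presentation (V.2.2 : BC M V.1) (id : sectModEt M V.1 → sectModEt M V.1)
                (eq_top_iff.2 fun s _ => Submodule.subset_span ⟨s, rfl⟩)
                (Subtype.val : LinearMap.ker (Finsupp.linearCombination (Fn V.1) (id : sectModEt M V.1 → _)) → _)
                (span_ker_eq _ _ Subtype.range_coe)).choose }

/-- A finitely presented module is presented by finite families. -/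
theorem exists_finite_relations (R : Type u) (N : Type (u + 1)) [CommRing R] [AddCommGroup N] [Module R N]
    [hfp : Module.FinitePresentation R N] :
    ∃ (I K : Type (u + 1)) (_ : Finite I) (_ : Finite K) (e : I → N) (c : K → I →₀ R),
      Submodule.span R (Set.range e) = ⊤ ∧
        Submodule.span R (Set.range c) = LinearMap.ker (Finsupp.linearCombination R e) := by
  obtain ⟨s, hs, t, ht⟩ := hfp.out
  refine ⟨↥s, ↥t, inferInstance, inferInstance, Subtype.val, Subtype.val, ?_, ?_⟩
  · simpa [Subtype.range_coe] using hs
  · simpa [Subtype.range_coe] using ht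

theorem exists_finite_presentation {V : EtOver X} [IsAffine V.obj.left.left] (hbc : BC M V)
    [Module.FinitePresentation (Fn V) (sectModEt M V)] : ∃ p : (M.over V).Presentation, p.IsFinite := by
  obtain ⟨I, K, hI, hK, e, c, he, hc⟩ := exists_finite_relations (Fn V) (sectModEt M V)
  obtain ⟨p, hpI, hpK⟩ := exists_presentation hbc e he c hc
  exact ⟨p, { isFiniteType_generators := ⟨hpI ▸ hI⟩, isFiniteType_relations := ⟨hpK ▸ hK⟩ }⟩

/-- A module with finitely presented sections and base change on affine objects covering the site is finitely presented. -/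
theorem isFinitePresentation_of_bc (h : ∀ (E : EtOver X), IsAffine E.obj.left.left →
      ∃ (n : ℕ) (V : Fin n → EtOver X) (g : ∀ i, V i ⟶ E),
        (∀ i, IsAffine (V i).obj.left.left ∧ BC M (V i) ∧ Module.FinitePresentation (Fn (V i)) (sectModEt M (V i))) ∧
        ∀ x : ↥E.obj.left.left, ∃ i, x ∈ Set.range (g i).hom.left.left) : M.IsFinitePresentation := by
  let P : EtOver X → Prop := fun V => IsAffine V.obj.left.left ∧ BC M V ∧
    Module.FinitePresentation (Fn V) (sectModEt M V)
  have key : ∀ V : @Subtype.{u + 2} (EtOver X) P, ∃ p : (M.over V.1).Presentation, p.IsFinite := fun V =>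
    haveI : IsAffine V.1.obj.left.left := V.2.1
    haveI : Module.FinitePresentation (Fn V.1) (sectModEt M V.1) := V.2.2.2
    exists_finite_presentation V.2.2.1
  choose p hp using key
  refine SheafOfModules.IsFinitePresentation.mk (M := M) ⟨{ I := @Subtype.{u + 2} (EtOver X) P, X := fun V => V.1, coversTop := coversTop_pred P h, presentation := p }, ?_⟩
  exact { isFinite_presentation := hp }

end Groth.Agent.EtQC
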