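import Groth.Agent.EtQC.Exact
import Groth.Agent.EtQC.ToQC
import Groth.Agent.EtQC.Finite

/-!
# Quasi-coherent and coherent modules: kernels, cokernels and extensions
-/

set_option autoImplicit false
set_option backward.isDefEq.respectTransparency false
set_option backward.isDefEq.respectTransparency.types false

universe u

set_option maxHeartbeats 1600000

open CategoryTheory CategoryTheory.Limits AlgebraicGeometry Opposite AlgSp
open scoped TensorProduct

namespace Groth.Agent.EtQC

variable {S : Scheme.{u}} {X : Sp S}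

/-- Base change on all affine objects. -/
def BCAll (M : ModEt X) : Prop := ∀ (V : EtOver X), IsAffine V.obj.left.left → BC M V

theorem bcAll_of_isQuasicoherent (M : ModEt X) [M.IsQuasicoherent] : BCAll M := fun V hV =>
  haveI := hV
  bc_of_isQuasicoherent M V

theorem cover_self (P : EtOver X → Prop) {E : EtOver X} (h : P E) :
    ∃ (n : ℕ) (V : Fin n → EtOver X) (g : ∀ i, V i ⟶ E), (∀ i, P (V i)) ∧
      ∀ x : ↥E.obj.left.left, ∃ i, x ∈ Set.range (g i).hom.left.left :=
  ⟨1, fun _ => E, fun _ => 𝟙 E, fun _ => h, fun x => ⟨0, x, rfl⟩⟩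

theorem BCAll.isQuasicoherent {M : ModEt X} (h : BCAll M) : M.IsQuasicoherent :=
  isQuasicoherent_of_bc fun E hE => cover_self (fun V => IsAffine V.obj.left.left ∧ BC M V) ⟨hE, h E hE⟩

theorem bcAll_left {T : ShortComplex (ModEt X)} (hT : T.Exact) [Mono T.f] (h₂ : BCAll T.X₂) (h₃ : BCAll T.X₃) :
    BCAll T.X₁ := fun V hV =>
  haveI := hV
  bc_left hT (h₂ V hV) (h₃ V hV)

theorem bcAll_middle {T : ShortComplex (ModEt X)} (hT : T.ShortExact) (h₁ : BCAll T.X₁) (h₃ : BCAll T.X₃) :
    BCAll T.X₂ := fun V hV =>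
  haveI := hV
  bc_middle hT h₁ (h₃ V hV)

theorem bcAll_right {T : ShortComplex (ModEt X)} (hT : T.ShortExact) (h₁ : BCAll T.X₁) (h₂ : BCAll T.X₂) :
    BCAll T.X₃ := fun V hV =>
  haveI := hV
  bc_right hT h₁ (h₂ V hV)

theorem bcAll_kernel {M N : ModEt X} (φ : M ⟶ N) (hM : BCAll M) (hN : BCAll N) : BCAll (kernel φ) :=
  bcAll_left (T := ShortComplex.mk (kernel.ι φ) φ (kernel.condition φ))
    (ShortComplex.exact_of_f_is_kernel _ (kernelIsKernel φ)) hM hN

theorem shortExact_kernel {M N : ModEt X} (φ : M ⟶ N) [Epi φ] :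
    (ShortComplex.mk (kernel.ι φ) φ (kernel.condition φ)).ShortExact :=
  { exact := ShortComplex.exact_of_f_is_kernel _ (kernelIsKernel φ) }

theorem bcAll_cokernel {M N : ModEt X} (φ : M ⟶ N) (hM : BCAll M) (hN : BCAll N) : BCAll (cokernel φ) := by
  have hk := bcAll_kernel φ hM hN
  have hc : BCAll (Abelian.coimage φ) := by
    let T := ShortComplex.mk (kernel.ι φ) (cokernel.π (kernel.ι φ)) (cokernel.condition _)
    have hT : T.ShortExact := { exact := ShortComplex.exact_of_g_is_cokernel _ (cokernelIsCokernel _) }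
    exact bcAll_right hT hk hM
  let T' := ShortComplex.mk (Abelian.factorThruCoimage φ) (cokernel.π φ)
    (by
      rw [← cancel_epi (Abelian.coimage.π φ), ← Category.assoc, Abelian.coimage.fac, cokernel.condition, comp_zero])
  have hT' : T'.ShortExact :=
    { exact := by
        refine ShortComplex.exact_of_g_is_cokernel _ (CokernelCofork.IsColimit.ofπ _ _
          (fun g hg => cokernel.desc φ g (by rw [← Abelian.coimage.fac φ, Category.assoc, hg, comp_zero]))
          (fun g hg => cokernel.π_desc _ _ _) (fun g hg m hm => ?_))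
        rw [← cancel_epi (cokernel.π φ), cokernel.π_desc]
        exact hm
      mono_f := inferInstanceAs (Mono (Abelian.factorThruCoimage φ))
      epi_g := inferInstanceAs (Epi (cokernel.π φ)) }
  exact bcAll_right hT' hc hN

/-- Finitely generated sections on an affine covering of every affine object. -/
def FT (M : ModEt X) : Prop :=
  ∀ (E : EtOver X), IsAffine E.obj.left.left → ∃ (n : ℕ) (V : Fin n → EtOver X) (g : ∀ i, V i ⟶ E),
    (∀ i, IsAffine (V i).obj.left.left ∧ Module.Finite (Fn (V i)) (sectModEt M (V i))) ∧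
      ∀ x : ↥E.obj.left.left, ∃ i, x ∈ Set.range (g i).hom.left.left

theorem finite_of_hom {M : ModEt X} {E E' : EtOver X} (g : E' ⟶ E) [IsAffine E'.obj.left.left] (h : BC M E)
    [Module.Finite (Fn E) (sectModEt M E)] : Module.Finite (Fn E') (sectModEt M E') := by
  letI := (fmap g).toAlgebra
  let L : Fn E' ⊗[Fn E] sectModEt M E →ₗ[Fn E'] sectModEt M E' :=
    { toFun := gam (RingHom.id (Fn E')) (res M g) (res_smul' M g)
      map_add' := map_add _
      map_smul' := fun b z => by
        induction z using TensorProduct.induction_on with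
        | zero => simp
        | add x y hx hy =>
          rw [smul_add, map_add, map_add, hx, hy, smul_add]
        | tmul c s =>
          rw [TensorProduct.smul_tmul', gam_tmul, gam_tmul]
          exact mul_smul b c _ }
  exact Module.Finite.of_surjective L (h E' g ‹_›).2

theorem ft_of_isFiniteType (M : ModEt X) [M.IsQuasicoherent] [M.IsFiniteType] : FT M := by
  intro E hE
  haveI := hE
  obtain ⟨σ, hσ⟩ := SheafOfModules.IsFiniteType.exists_localGeneratorsData M
  obtain ⟨n, V, h, hV, hR, hc⟩ := exists_affine_refinement (σ.coversTop E)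
  refine ⟨n, V, h, fun i => ⟨hV i, ?_⟩, hc⟩
  obtain ⟨j, ⟨a⟩⟩ := hR i
  haveI := hV i
  haveI := (hσ.isFiniteType j).finite
  exact finite_sections M (σ.generators j) a

/-- A common refinement of two coverings on which two modules are finite. -/
theorem exists_cover_finite {M N : ModEt X} (hM : BCAll M) (hN : BCAll N) (hM' : FT M) (hN' : FT N) (E : EtOver X)
    (hE : IsAffine E.obj.left.left) : ∃ (n : ℕ) (V : Fin n → EtOver X) (g : ∀ i, V i ⟶ E),
      (∀ i, IsAffine (V i).obj.left.left ∧ Module.Finite (Fn (V i)) (sectModEt M (V i)) ∧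
        Module.Finite (Fn (V i)) (sectModEt N (V i))) ∧
      ∀ x : ↥E.obj.left.left, ∃ i, x ∈ Set.range (g i).hom.left.left := by
  haveI := hE
  obtain ⟨n, V, g, hV, hc⟩ := hM' E hE
  obtain ⟨m, W, k, hW, hd⟩ := hN' E hE
  let e : Fin (n * m) ≃ Fin n × Fin m := finProdFinEquiv.symm
  refine ⟨n * m, fun i => EtOver.pullbackObj (g (e i).1) (k (e i).2),
    fun i => EtOver.pullbackFst _ _ ≫ g (e i).1, fun i => ?_, fun x => ?_⟩
  · haveI := (hV (e i).1).1
    haveI := (hW (e i).2).1
    haveI := (hV (e i).1).2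
    haveI := (hW (e i).2).2
    exact ⟨inferInstance, finite_of_hom (EtOver.pullbackFst _ _) (hM _ inferInstance),
      finite_of_hom (EtOver.pullbackSnd _ _) (hN _ inferInstance)⟩
  · obtain ⟨i, y, hy⟩ := hc x
    obtain ⟨j, y', hy'⟩ := hd x
    obtain ⟨z, hz, -⟩ := Scheme.Pullback.exists_preimage_pullback
      (f := (g i).hom.left.left) (g := (k j).hom.left.left) y y' (hy.trans hy'.symm)
    refine ⟨e.symm (i, j), ?_⟩
    show x ∈ Set.range (EtOver.pullbackFst (g (e (e.symm (i, j))).1) (k (e (e.symm (i, j))).2) ≫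
      g (e (e.symm (i, j))).1).hom.left.left
    rw [e.apply_symm_apply]
    refine ⟨(isPullback_left (g i) (k j)).isoPullback.inv z, ?_⟩
    show (g i).hom.left.left ((EtOver.pullbackFst (g i) (k j)).hom.left.left _) = x
    rw [← Scheme.Hom.comp_apply (isPullback_left (g i) (k j)).isoPullback.inv,
      (isPullback_left (g i) (k j)).isoPullback_inv_fst, hz, hy]

theorem isNoetherianRing_fn (hX : IsLocNoethSp X) (E : EtOver X) [IsAffine E.obj.left.left] :
    IsNoetherianRing (Fn E) :=
  haveI := AlgSpDec.isLocallyNoetherian_chart E.property hX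
  IsLocallyNoetherian.component_noetherian ⟨⊤, isAffineOpen_top _⟩

/-- On a locally Noetherian space base change and finite sections give finite presentation. -/
theorem isFinitePresentation_of_ft (hX : IsLocNoethSp X) {M : ModEt X} (h : BCAll M) (h' : FT M) :
    M.IsFinitePresentation := by
  refine isFinitePresentation_of_bc fun E hE => ?_
  obtain ⟨n, V, g, hV, hc⟩ := h' E hE
  refine ⟨n, V, g, fun i => ?_, hc⟩
  haveI := (hV i).1
  haveI := (hV i).2
  haveI := isNoetherianRing_fn hX (V i)
  exact ⟨(hV i).1, h _ (hV i).1, Module.finitePresentation_of_finite _ _⟩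

variable {T : ShortComplex (ModEt X)}

theorem ft_left (hX : IsLocNoethSp X) (hT : T.Exact) [Mono T.f] (h' : FT T.X₂) : FT T.X₁ := fun E hE => by
  obtain ⟨n, V, g, hV, hc⟩ := h' E hE
  refine ⟨n, V, g, fun i => ⟨(hV i).1, ?_⟩, hc⟩
  haveI := (hV i).1
  haveI := (hV i).2
  haveI := isNoetherianRing_fn hX (V i)
  exact Module.Finite.of_injective (app T.f (V i)) (app_injective T.f _)

theorem ft_right (hT : T.ShortExact) (h₁ : BCAll T.X₁) (h' : FT T.X₂) : FT T.X₃ := fun E hE => by
  obtain ⟨n, V, g, hV, hc⟩ := h' E hE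
  refine ⟨n, V, g, fun i => ⟨(hV i).1, ?_⟩, hc⟩
  haveI := (hV i).1
  haveI := (hV i).2
  haveI := hT.mono_f
  haveI := hT.epi_g
  exact Module.Finite.of_surjective (app T.g (V i)) (app_surjective hT.exact h₁)

theorem ft_middle (hT : T.ShortExact) (h₁ : BCAll T.X₁) (h₃ : BCAll T.X₃) (h₁' : FT T.X₁) (h₃' : FT T.X₃) :
    FT T.X₂ := fun E hE => by
  obtain ⟨n, V, g, hV, hc⟩ := exists_cover_finite h₁ h₃ h₁' h₃' E hE
  refine ⟨n, V, g, fun i => ⟨(hV i).1, ?_⟩, hc⟩
  haveI := (hV i).1
  haveI := hT.mono_f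
  haveI := hT.epi_g
  have h1 := (hV i).2.1
  have h3 := (hV i).2.2
  refine ⟨Submodule.fg_of_fg_map_of_fg_inf_ker (app T.g (V i)) ?_ ?_⟩
  · rw [Submodule.map_top, LinearMap.range_eq_top.2 (app_surjective hT.exact h₁)]
    exact h3.fg_top
  · rw [top_inf_eq, LinearMap.exact_iff.1 (app_exact hT.exact (V i)), ← Submodule.map_top]
    exact h1.fg_top.map _

end Groth.Agent.EtQC
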