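import Groth.Agent.EtQC.Exact
import Groth.Agent.EtQC.Coh
import Groth.Agent.EtFound.CechInjGen

/-!
# Čech cohomology of quasi-coherent modules over affine objects vanishes
-/

set_option autoImplicit false
set_option backward.isDefEq.respectTransparency false
set_option backward.isDefEq.respectTransparency.types false

universe u

set_option maxHeartbeats 1600000

open CategoryTheory CategoryTheory.Limits AlgebraicGeometry Opposite AlgSp
open scoped TensorProduct

namespace Groth.Agent.EtQC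

open EtFound.CechInjGen

variable {S : Scheme.{u}} {X : Sp S}

/-- Pullback squares of objects are pullback squares of schemes. -/
theorem isPullback_left' {W E₁ E₂ E₀ : EtOver X} {a : W ⟶ E₁} {b : W ⟶ E₂} {g₁ : E₁ ⟶ E₀} {g₂ : E₂ ⟶ E₀}
    (h : IsPullback a b g₁ g₂) :
    IsPullback a.hom.left.left b.hom.left.left g₁.hom.left.left g₂.hom.left.left := by
  let e := h.isoIsPullback _ _ (EtOver.isPullback g₁ g₂)
  refine (isPullback_left g₁ g₂).of_iso ((EtOver.toScheme X).mapIso e.symm) (Iso.refl _) (Iso.refl _) (Iso.refl _)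
    ?_ ?_ (by simp) (by simp)
  · rw [Iso.refl_hom, Category.comp_id]
    exact (congrArg (EtOver.toScheme X).map (h.isoIsPullback_inv_fst _ _ (EtOver.isPullback g₁ g₂))).symm.trans
      ((EtOver.toScheme X).map_comp e.inv a)
  · rw [Iso.refl_hom, Category.comp_id]
    exact (congrArg (EtOver.toScheme X).map (h.isoIsPullback_inv_snd _ _ (EtOver.isPullback g₁ g₂))).symm.trans
      ((EtOver.toScheme X).map_comp e.inv b)

theorem isAffine_of_isPullback {W E₁ E₂ E₀ : EtOver X} {a : W ⟶ E₁} {b : W ⟶ E₂} {g₁ : E₁ ⟶ E₀} {g₂ : E₂ ⟶ E₀}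
    (h : IsPullback a b g₁ g₂) [IsAffine E₁.obj.left.left] [IsAffine E₂.obj.left.left] [IsAffine E₀.obj.left.left] :
    IsAffine W.obj.left.left :=
  IsAffine.of_isIso (isPullback_left' h).isoPullback.hom

theorem isPushout_of_isPullback {W E₁ E₂ E₀ : EtOver X} {a : W ⟶ E₁} {b : W ⟶ E₂} {g₁ : E₁ ⟶ E₀} {g₂ : E₂ ⟶ E₀}
    (h : IsPullback a b g₁ g₂) [IsAffine E₁.obj.left.left] [IsAffine E₂.obj.left.left] [IsAffine E₀.obj.left.left] :
    IsPushout g₁.hom.left.left.appTop g₂.hom.left.left.appTop a.hom.left.left.appTop b.hom.left.left.appTop := by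
  have sq := isPullback_left' h
  have po := (isIso_pushoutSection_iff sq (US := ⊤) (UT := ⊤) (UX := ⊤) (UY := ⊤) (by simp) (by simp)
    (by simp)).mp (isIso_pushoutSection_of_isAffineOpen sq _ _ _
      (isAffineOpen_top _) (isAffineOpen_top _) (isAffineOpen_top _))
  simp only [Scheme.Hom.appLE, TopologicalSpace.Opens.map_top, homOfLE_refl, op_id, CategoryTheory.Functor.map_id,
    Category.comp_id] at po
  exact po

section Prod

variable {U : EtOver X} [HasFiniteProducts (Over U)] {ι : Type (u + 1)} (Y : ι → Over U)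

/-- The product of a family. -/
noncomputable abbrev PO {n : ℕ} (i : Fin (n + 1) → ι) : EtOver X := (∏ᶜ fun k => Y (i k)).left

/-- Its projection to the base. -/
noncomputable abbrev POπ {n : ℕ} (i : Fin (n + 1) → ι) : PO Y i ⟶ U := (∏ᶜ fun k => Y (i k)).hom

/-- The projection forgetting the first factor. -/
noncomputable def tailπ {n : ℕ} (i : Fin (n + 2) → ι) : PO Y i ⟶ PO Y fun k : Fin (n + 1) => i k.succ :=
  (Pi.lift fun k => Pi.π (fun k => Y (i k)) k.succ : ∏ᶜ (fun k => Y (i k)) ⟶ ∏ᶜ fun k : Fin (n + 1) => Y (i k.succ)).left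

theorem tailπ_π {n : ℕ} (i : Fin (n + 2) → ι) (k : Fin (n + 1)) :
    tailπ Y i ≫ (Pi.π (fun k => Y (i k.succ)) k).left = (Pi.π (fun k => Y (i k)) k.succ).left := by
  rw [tailπ, ← Over.comp_left, Pi.lift_π]

theorem tailπ_w {n : ℕ} (i : Fin (n + 2) → ι) : tailπ Y i ≫ POπ Y (fun k : Fin (n + 1) => i k.succ) = POπ Y i :=
  Over.w (Pi.lift fun k => Pi.π (fun k => Y (i k)) k.succ : ∏ᶜ (fun k => Y (i k)) ⟶ ∏ᶜ fun k : Fin (n + 1) => Y (i k.succ))

/-- A product splits off its first factor. -/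
theorem isPullback_cons {n : ℕ} (i : Fin (n + 2) → ι) :
    IsPullback (Pi.π (fun k => Y (i k)) 0).left (tailπ Y i) (Y (i 0)).hom (POπ Y fun k : Fin (n + 1) => i k.succ) := by
  refine ⟨⟨(Over.w _).trans (tailπ_w Y i).symm⟩, ⟨PullbackCone.IsLimit.mk _
    (fun s => ((Pi.lift (Fin.cases (Over.homMk (U := Over.mk (s.fst ≫ (Y (i 0)).hom)) s.fst rfl)
      (fun k => (Over.homMk (U := Over.mk (s.fst ≫ (Y (i 0)).hom)) (V := ∏ᶜ fun k : Fin (n + 1) => Y (i k.succ)) s.snd
        s.condition.symm) ≫ Pi.π (fun k => Y (i k.succ)) k))) : Over.mk (s.fst ≫ (Y (i 0)).hom) ⟶ _).left)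
    (fun s => ?_) (fun s => ?_) (fun s m h₁ h₂ => ?_)⟩⟩
  · rw [← Over.comp_left, Pi.lift_π]; rfl
  · refine hom_ext_prod (Uf := Y) (fun k => i k.succ) _ _ fun k => ?_
    rw [Category.assoc, tailπ_π, ← Over.comp_left, Pi.lift_π]; rfl
  · refine hom_ext_prod (Uf := Y) i _ _ fun k => ?_
    rw [← Over.comp_left, Pi.lift_π]
    induction k using Fin.cases with
    | zero => exact h₁
    | succ k =>
      rw [← tailπ_π Y i k, ← Category.assoc, h₂]
      rfl

/-- The first projection of a product with prescribed first member. -/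
noncomputable def headπ (m : ι) {n : ℕ} (j : Fin (n + 1) → ι) : PO Y (Fin.cons m j) ⟶ (Y m).left :=
  (Pi.π (fun l => Y ((Fin.cons m j : Fin (n + 2) → ι) l)) 0).left

/-- The projection forgetting the prescribed first member. -/
noncomputable def tailC (m : ι) {n : ℕ} (j : Fin (n + 1) → ι) : PO Y (Fin.cons m j) ⟶ PO Y j :=
  tailπ Y (Fin.cons m j)

theorem isPullback_head (m : ι) {n : ℕ} (j : Fin (n + 1) → ι) :
    IsPullback (headπ Y m j) (tailC Y m j) (Y m).hom (POπ Y j) :=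
  isPullback_cons Y (Fin.cons m j)

/-- Finite products of affine objects over an affine object are affine. -/
theorem isAffine_PO [IsAffine U.obj.left.left] (hY : ∀ a, IsAffine (Y a).left.obj.left.left) :
    ∀ (n : ℕ) (i : Fin (n + 1) → ι), IsAffine (PO Y i).obj.left.left := by
  intro n
  induction n with
  | zero =>
    intro i
    haveI : IsIso (Pi.π (fun k => Y (i k)) 0) := by
      refine ⟨Pi.lift fun k => eqToHom (by rw [Fin.fin_one_eq_zero k]), ?_, ?_⟩
      · refine Pi.hom_ext _ _ fun k => ?_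
        obtain rfl := Fin.fin_one_eq_zero k
        simp
      · simp
    haveI : IsAffine ((CategoryTheory.Over.forget U ⋙ EtOver.toScheme X).obj (Y (i 0))) := hY (i 0)
    exact IsAffine.of_isIso
      ((CategoryTheory.Over.forget U ⋙ EtOver.toScheme X).mapIso (asIso (Pi.π (fun k => Y (i k)) 0))).hom
  | succ n ih =>
    intro i
    haveI := hY (i 0)
    haveI := ih fun k => i k.succ
    exact isAffine_of_isPullback (isPullback_cons Y i)

end Prod

theorem piRight_sum_proj {R : Type u} [CommRing R] {B : Type u} [AddCommGroup B] [Module R B] {I J : Type (u + 1)}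
    [Finite I] [Finite J] [DecidableEq I] [DecidableEq J] [Fintype I] [Fintype J]
    {P : I → Type (u + 1)} [∀ i, AddCommGroup (P i)] [∀ i, Module R (P i)]
    {Q : J → Type (u + 1)} [∀ j, AddCommGroup (Q j)] [∀ j, Module R (Q j)] {q : ℕ} {σ : J → Fin q → I}
    (δ : ∀ (j : J) (k : Fin q), P (σ j k) →ₗ[R] Q j) (v : ∀ i, B ⊗[R] P i) (j : J) :
    TensorProduct.piRight R R B Q ((LinearMap.pi fun j => ∑ k : Fin q, ((-1 : ℤ) ^ (k : ℕ)) •
      (δ j k ∘ₗ LinearMap.proj (σ j k))).lTensor B ((TensorProduct.piRight R R B P).symm v)) j =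
      ∑ k : Fin q, ((-1 : ℤ) ^ (k : ℕ)) • (δ j k).lTensor B (v (σ j k)) := by
  have hP : ∀ (x : B ⊗[R] ∀ i, P i) (i : I), TensorProduct.piRight R R B P x i =
      (LinearMap.proj (R := R) (φ := P) i).lTensor B x := fun x i => by
    induction x using TensorProduct.induction_on with
    | zero => simp
    | add x y hx hy => simp only [map_add, Pi.add_apply, hx, hy]
    | tmul b p => simp
  have hQ : ∀ (x : B ⊗[R] ∀ i, Q i) (i : J), TensorProduct.piRight R R B Q x i =
      (LinearMap.proj (R := R) (φ := Q) i).lTensor B x := fun x i => by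
    induction x using TensorProduct.induction_on with
    | zero => simp
    | add x y hx hy => simp only [map_add, Pi.add_apply, hx, hy]
    | tmul b p => simp
  obtain ⟨x, rfl⟩ : ∃ x, TensorProduct.piRight R R B P x = v := ⟨_, LinearEquiv.apply_symm_apply _ v⟩
  rw [LinearEquiv.symm_apply_apply, hQ]
  simp only [hP]
  induction x using TensorProduct.induction_on with
  | zero => simp
  | add x y hx hy => simp only [map_add, hx, hy, Finset.sum_add_distrib, smul_add]
  | tmul b t => simp [TensorProduct.tmul_sum, ← TensorProduct.tmul_smul]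

/-- An element of a product is in the range after tensoring as soon as it is componentwise. -/
theorem one_tmul_mem_range {R : Type u} [CommRing R] (B : Type u) [CommRing B] [Algebra R B] {I J : Type (u + 1)}
    [Finite I] [Finite J] {P : I → Type (u + 1)} [∀ i, AddCommGroup (P i)] [∀ i, Module R (P i)]
    {Q : J → Type (u + 1)} [∀ j, AddCommGroup (Q j)] [∀ j, Module R (Q j)] {q : ℕ} {σ : J → Fin q → I}
    (δ : ∀ (j : J) (k : Fin q), P (σ j k) →ₗ[R] Q j) (z : ∀ j, Q j) {C : J → Type (u + 1)} [∀ j, AddCommGroup (C j)]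
    (γ : ∀ j, B ⊗[R] Q j →+ C j) (hγ : ∀ j, Function.Injective (γ j)) (v : ∀ i, B ⊗[R] P i)
    (hv : ∀ j, ∑ k : Fin q, ((-1 : ℤ) ^ (k : ℕ)) • γ j ((δ j k).lTensor B (v (σ j k))) =
      γ j ((1 : B) ⊗ₜ[R] z j)) :
    (1 : B) ⊗ₜ[R] z ∈ LinearMap.range ((LinearMap.pi fun j => ∑ k : Fin q, ((-1 : ℤ) ^ (k : ℕ)) •
      (δ j k ∘ₗ LinearMap.proj (σ j k))).lTensor B) := by
  classical
  haveI := Fintype.ofFinite I
  haveI := Fintype.ofFinite J
  refine ⟨(TensorProduct.piRight R R B P).symm v, (TensorProduct.piRight R R B Q).injective (funext fun j => hγ j ?_)⟩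
  rw [piRight_sum_proj, map_sum, TensorProduct.piRight_apply, TensorProduct.piRightHom_tmul, ← hv]
  exact Finset.sum_congr rfl fun k _ => map_zsmul _ _ _

/-- Čech acyclicity on affine objects. -/
def IsAffAcyclic (G : AbEt X) : Prop :=
  ∀ (U : EtOver X) [HasFiniteProducts (Over U)] (n : ℕ) (Y : ULift.{u + 1} (Fin n) → Over U),
    IsAffine U.obj.left.left → (∀ a, IsAffine (Y a).left.obj.left.left) →
    (∀ x : ↥U.obj.left.left, ∃ a, x ∈ Set.range (Y a).hom.hom.left.left) →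
      ∀ p, IsZero (EtCech.cechH Y G.obj (p + 1))

theorem toFn_taut {C : Type (u + 1)} [Category.{u} C] [LocallySmall.{u + 1} C] {U : C} [HasFiniteProducts (Over U)]
    {ι : Type (u + 1)} {Y : ι → Over U} {P : Cᵒᵖ ⥤ AddCommGrpCat.{u + 1}} {n : ℕ}
    (x : (EtCech.cechComplex Y P).X n) (i : Fin (n + 1) → ι) :
    toFn x _ (taut i) = cev Y P n i x := by
  show (P.map (taut i).toProd.op).hom (cev Y P n i x) = _
  rw [toProd_taut]
  exact ConcreteCategory.congr_hom (P.map_id _) _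

section Main

variable {M : ModEt X} {U : EtOver X} [HasFiniteProducts (Over U)] {n : ℕ} (Y : ULift.{u + 1} (Fin n) → Over U)
  [LocallySmall.{u + 1} (EtOver X)]

/-- A cochain of positive degree is evaluated on tuples. -/
noncomputable abbrev evalFn {p : ℕ} (x : (EtCech.cechComplex Y ((toAbEt X).obj M).obj).X p) (T : EtOver X)
    (t : Tup Y p T) : sectModEt M T :=
  toFn x T t

theorem evalFn_res {p : ℕ} (x : (EtCech.cechComplex Y ((toAbEt X).obj M).obj).X p) {T T' : EtOver X} (f : T' ⟶ T)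
    (t : Tup Y p T) : evalFn Y x T' (t.res f) = res M f (evalFn Y x T t) :=
  toFn_res x f t

/-- The map of products over a map of index sets. -/
noncomputable def consMap {p : ℕ} (m : ULift.{u + 1} (Fin n)) (j : Fin (p + 2) → ULift.{u + 1} (Fin n))
    (k : Fin (p + 2)) : PO Y (Fin.cons m j) ⟶ PO Y (Fin.cons m (j ∘ k.succAbove)) :=
  (Pi.lift (Fin.cases (Pi.π (fun l => Y ((Fin.cons m j : Fin (p + 3) → _) l)) 0)
    fun l => Pi.π (fun l => Y ((Fin.cons m j : Fin (p + 3) → _) l)) (k.succAbove l).succ) :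
      ∏ᶜ (fun l => Y ((Fin.cons m j : Fin (p + 3) → _) l)) ⟶
        ∏ᶜ fun l => Y ((Fin.cons m (j ∘ k.succAbove) : Fin (p + 2) → _) l)).left

theorem consMap_zero {p : ℕ} (m : ULift.{u + 1} (Fin n)) (j : Fin (p + 2) → ULift.{u + 1} (Fin n))
    (k : Fin (p + 2)) : consMap Y m j k ≫ (Pi.π (fun l => Y ((Fin.cons m (j ∘ k.succAbove) : Fin (p + 2) → _) l)) 0).left =
      (Pi.π (fun l => Y ((Fin.cons m j : Fin (p + 3) → _) l)) 0).left := by
  rw [consMap, ← Over.comp_left, Pi.lift_π]; rfl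

theorem consMap_succ {p : ℕ} (m : ULift.{u + 1} (Fin n)) (j : Fin (p + 2) → ULift.{u + 1} (Fin n))
    (k : Fin (p + 2)) (l : Fin (p + 1)) :
    consMap Y m j k ≫ (Pi.π (fun l => Y ((Fin.cons m (j ∘ k.succAbove) : Fin (p + 2) → _) l)) l.succ).left =
      (Pi.π (fun l => Y ((Fin.cons m j : Fin (p + 3) → _) l)) (k.succAbove l).succ).left := by
  rw [consMap, ← Over.comp_left, Pi.lift_π]; rfl

theorem consMap_tail {p : ℕ} (m : ULift.{u + 1} (Fin n)) (j : Fin (p + 2) → ULift.{u + 1} (Fin n))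
    (k : Fin (p + 2)) :
    consMap Y m j k ≫ tailC Y m ((j ∘ k.succAbove)) = tailC Y m (j) ≫ (tmap Y j k).left :=
  hom_ext_prod (Uf := Y) (j ∘ k.succAbove) _ _ fun l => by
    refine (Category.assoc _ _ _).trans ?_
    refine (congrArg (consMap Y m j k ≫ ·) (tailπ_π Y (Fin.cons m (j ∘ k.succAbove)) l)).trans ?_
    refine (consMap_succ Y m j k l).trans (Eq.trans ?_ (Category.assoc _ _ _).symm)
    refine (tailπ_π Y (Fin.cons m j) (k.succAbove l)).symm.trans ?_
    refine congrArg (tailC Y m (j) ≫ ·) ?_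
    exact (congrArg Over.Hom.left (Pi.lift_π (fun l => Pi.π (fun k => Y (j k)) (k.succAbove l)) l)).symm.trans (Over.comp_left _ _ _ _ _)

theorem consMap_head {p : ℕ} (m : ULift.{u + 1} (Fin n)) (j : Fin (p + 2) → ULift.{u + 1} (Fin n))
    (k : Fin (p + 2)) : consMap Y m j k ≫ headπ Y m (j ∘ k.succAbove) = headπ Y m j :=
  consMap_zero Y m j k

theorem mk'_congr {q : ℕ} (i : Fin (q + 1) → ULift.{u + 1} (Fin n)) {a b : Fin (q + 1)} (h : a = b) :
    (Lift.mk' (i a) (Pi.π (fun l => Y (i l)) a).left : Lift Y (PO Y i)) =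
      Lift.mk' (i b) (Pi.π (fun l => Y (i l)) b).left := by
  subst h; rfl

theorem taut_cons_face_succ {p : ℕ} (m : ULift.{u + 1} (Fin n)) (j : Fin (p + 2) → ULift.{u + 1} (Fin n))
    (k : Fin (p + 2)) :
    (taut (Uf := Y) (Fin.cons m j)).face k.succ =
      (taut (Uf := Y) (Fin.cons m (j ∘ k.succAbove))).res (consMap Y m j k) := by
  refine Subtype.ext (funext fun l => ?_)
  induction l using Fin.cases with
  | zero =>
    refine (mk'_congr Y (Fin.cons m j) (Fin.succ_succAbove_zero k)).trans ?_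
    refine congrArg (Lift.mk' m) ?_
    show _ = consMap Y m j k ≫ (Lift.mk' _ _ : Lift Y _).hom
    rw [Lift.hom_mk']
    exact (consMap_zero Y m j k).symm
  | succ l =>
    refine (mk'_congr Y (Fin.cons m j) (Fin.succ_succAbove_succ k l)).trans ?_
    refine congrArg (Lift.mk' (j (k.succAbove l))) ?_
    show _ = consMap Y m j k ≫ (Lift.mk' _ _ : Lift Y _).hom
    rw [Lift.hom_mk']
    exact (consMap_succ Y m j k l).symm

theorem taut_cons_face_zero {p : ℕ} (m : ULift.{u + 1} (Fin n)) (j : Fin (p + 2) → ULift.{u + 1} (Fin n)) :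
    (taut (Uf := Y) (Fin.cons m j)).face 0 = (taut (Uf := Y) j).res (tailC Y m (j)) := by
  refine Subtype.ext (funext fun l => ?_)
  refine (mk'_congr Y (Fin.cons m j) (Fin.zero_succAbove (n := p + 2) l)).trans ?_
  refine congrArg (Lift.mk' (j l)) ?_
  show _ = tailC Y m (j) ≫ (Lift.mk' _ _ : Lift Y _).hom
  rw [Lift.hom_mk']
  exact (tailπ_π Y (Fin.cons m j) l).symm

/-- The cocycle identity on a cone. -/
theorem cocycle_cons {p : ℕ} (x : (EtCech.cechComplex Y ((toAbEt X).obj M).obj).X (p + 1))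
    (hx : ((EtCech.cechComplex Y ((toAbEt X).obj M).obj).d (p + 1) (p + 2)).hom x = 0)
    (m : ULift.{u + 1} (Fin n)) (j : Fin (p + 2) → ULift.{u + 1} (Fin n)) :
    ∑ k : Fin (p + 2), (-1 : ℤ) ^ (k : ℕ) • res M (consMap Y m j k)
        (evalFn Y x _ (taut (Fin.cons m (j ∘ k.succAbove)))) = res M (tailC Y m j) (evalFn Y x _ (taut j)) := by
  have h0 : ∑ k : Fin (p + 3), (-1 : ℤ) ^ (k : ℕ) • evalFn Y x _ ((taut (Uf := Y) (Fin.cons m j)).face k) = 0 := by
    refine (toFn_d x _ _).symm.trans ?_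
    rw [hx]
    show (((toAbEt X).obj M).obj.map _).hom (cev Y _ _ _ 0) = 0
    rw [map_zero, map_zero]
  rw [Fin.sum_univ_succ] at h0
  simp only [Fin.val_zero, pow_zero, one_smul, Fin.val_succ, pow_succ, mul_neg, mul_one, neg_smul,
    Finset.sum_neg_distrib] at h0
  have h1 := (eq_of_add_neg_eq_zero h0).symm
  refine Eq.trans (Finset.sum_congr rfl fun k _ => congrArg (fun w => (-1 : ℤ) ^ (k : ℕ) • w) ?_) (h1.trans ?_)
  · exact ((congrArg (evalFn Y x _) (taut_cons_face_succ Y m j k)).trans (evalFn_res Y x _ _)).symm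
  · exact (congrArg (evalFn Y x _) (taut_cons_face_zero Y m j)).trans (evalFn_res Y x _ _)

variable [IsAffine U.obj.left.left]

/-- Pieces over a member of the family. -/
theorem bijective_gam_cons (hY : ∀ a, IsAffine (Y a).left.obj.left.left) (hM : BCAll M) (m : ULift.{u + 1} (Fin n))
    {p : ℕ} (j : Fin (p + 1) → ULift.{u + 1} (Fin n))
    (hr : letI := (fmap (Y m).hom).toAlgebra; letI := modRes M (POπ Y j)
      ∀ (c : Fn U) (s : sectModEt M (PO Y j)), res M (tailC Y m (j)) (c • s) =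
        fmap (headπ Y m j) (algebraMap (Fn U) (Fn (Y m).left) c) •
          res M (tailC Y m (j)) s) :
    letI := (fmap (Y m).hom).toAlgebra; letI := modRes M (POπ Y j)
    Function.Bijective (gam (fmap (headπ Y m j))
      (res M (tailC Y m (j))) hr) := by
  haveI := hY m
  haveI := isAffine_PO Y hY p j
  haveI := isAffine_PO Y hY (p + 1) (Fin.cons m j)
  exact bijective_gam_of_square M (hM _ ‹_›) (Y m).hom (POπ Y j)
    (headπ Y m j) (tailC Y m (j))
    (isPushout_of_isPullback (isPullback_head Y m j)) hr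

/-- Cocycles of positive degree are coboundaries. -/
theorem exists_primitive (hY : ∀ a, IsAffine (Y a).left.obj.left.left)
    (hc : ∀ x : ↥U.obj.left.left, ∃ a, x ∈ Set.range (Y a).hom.hom.left.left) (hM : BCAll M) (p : ℕ)
    (x : (EtCech.cechComplex Y ((toAbEt X).obj M).obj).X (p + 1))
    (hx : ((EtCech.cechComplex Y ((toAbEt X).obj M).obj).d (p + 1) (p + 2)).hom x = 0) :
    ∃ y : ∀ i : Fin (p + 1) → ULift.{u + 1} (Fin n), sectModEt M (PO Y i), ∀ j : Fin (p + 2) → ULift.{u + 1} (Fin n),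
      ∑ k : Fin (p + 2), (-1 : ℤ) ^ (k : ℕ) • res M (tmap Y j k).left (y (j ∘ k.succAbove)) =
        evalFn Y x _ (taut j) := by
  classical
  letI : ∀ i : Fin (p + 1) → ULift.{u + 1} (Fin n), Module (Fn U) (sectModEt M (PO Y i)) := fun i => modRes M (POπ Y i)
  letI : ∀ i : Fin (p + 2) → ULift.{u + 1} (Fin n), Module (Fn U) (sectModEt M (PO Y i)) := fun i => modRes M (POπ Y i)
  let δ : ∀ (j : Fin (p + 2) → ULift.{u + 1} (Fin n)) (k : Fin (p + 2)),
      sectModEt M (PO Y (j ∘ k.succAbove)) →ₗ[Fn U] sectModEt M (PO Y j) := fun j k =>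
    { toFun := res M (tmap Y j k).left
      map_add' := map_add _
      map_smul' := fun c s => by
        show res M (tmap Y j k).left (fmap (POπ Y (j ∘ k.succAbove)) c • s) = fmap (POπ Y j) c • _
        rw [res_smul]
        exact congrArg (· • res M (tmap Y j k).left s) ((fmap_comp _ (tmap Y j k).left c).symm.trans
          (congrArg (fun g => fmap g c) (Over.w (tmap Y j k)))) }
  let f : (∀ i : Fin (p + 1) → ULift.{u + 1} (Fin n), sectModEt M (PO Y i)) →ₗ[Fn U]
      ∀ j : Fin (p + 2) → ULift.{u + 1} (Fin n), sectModEt M (PO Y j) :=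
    LinearMap.pi fun j => ∑ k : Fin (p + 2), ((-1 : ℤ) ^ (k : ℕ)) • (δ j k ∘ₗ LinearMap.proj (j ∘ k.succAbove))
  let z : ∀ j : Fin (p + 2) → ULift.{u + 1} (Fin n), sectModEt M (PO Y j) := fun j => evalFn Y x _ (taut j)
  suffices hz : z ∈ LinearMap.range f by
    obtain ⟨y, hy⟩ := hz
    refine ⟨y, fun j => ?_⟩
    refine Eq.trans ?_ (congrFun hy j)
    simp only [f, δ, LinearMap.pi_apply, LinearMap.sum_apply, LinearMap.smul_apply, LinearMap.comp_apply,
      LinearMap.proj_apply, LinearMap.coe_mk, AddHom.coe_mk]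
  letI : ∀ m : Fin n, Algebra (Fn U) (Fn (Y ⟨m⟩).left) := fun m => (fmap (Y ⟨m⟩).hom).toAlgebra
  haveI : ∀ m : Fin n, IsAffine (Y ⟨m⟩).left.obj.left.left := fun m => hY _
  haveI : ∀ m : Fin n, Module.Flat (Fn U) (Fn (Y ⟨m⟩).left) := fun m => flat_fmap (Y ⟨m⟩).hom
  refine mem_range_of_forall_flat (fun m : Fin n => Fn (Y ⟨m⟩).left)
    (fun q hq => LocPres.exists_prime_over (fun m : Fin n => (Y ⟨m⟩).left) (fun m => (Y ⟨m⟩).hom)
      (fun t => by obtain ⟨⟨a⟩, ha⟩ := hc t; exact ⟨a, ha⟩) q hq) f z fun m => ?_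
  have hr : ∀ {q : ℕ} (i : Fin (q + 1) → ULift.{u + 1} (Fin n)),
      letI := modRes M (POπ Y i)
      ∀ (c : Fn U) (s : sectModEt M (PO Y i)), res M (tailC Y ⟨m⟩ (i)) (c • s) =
        fmap (headπ Y ⟨m⟩ i) (fmap (Y ⟨m⟩).hom c) •
          res M (tailC Y ⟨m⟩ (i)) s := fun {q} i => by
    letI := modRes M (POπ Y i)
    intro c s
    show res M _ (fmap (POπ Y i) c • s) = _
    rw [res_smul]
    exact congrArg (· • res M (tailC Y ⟨m⟩ (i)) s) ((fmap_comp (POπ Y i) _ c).symm.trans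
      ((congrArg (fun g => fmap g c) (isPullback_head Y ⟨m⟩ i).w.symm).trans (fmap_comp _ (headπ Y ⟨m⟩ i) c)))
  let γ := fun (i : Fin (p + 1) → ULift.{u + 1} (Fin n)) =>
    gam (fmap (headπ Y ⟨m⟩ i))
      (res M (tailC Y ⟨m⟩ (i))) (hr i)
  let γ' := fun (j : Fin (p + 2) → ULift.{u + 1} (Fin n)) =>
    gam (fmap (headπ Y ⟨m⟩ j))
      (res M (tailC Y ⟨m⟩ (j))) (hr j)
  have hn : ∀ j k t, γ' j ((δ j k).lTensor (Fn (Y ⟨m⟩).left) t) =
      res M (consMap Y ⟨m⟩ j k) (γ (j ∘ k.succAbove) t) := fun j k t => by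
    induction t using TensorProduct.induction_on with
    | zero => simp only [map_zero]
    | add a b ha hb => simp only [map_add, ha, hb]
    | tmul c s =>
      show fmap (headπ Y ⟨m⟩ j) c •
          res M (tailC Y ⟨m⟩ (j)) (res M (tmap Y j k).left s) =
        res M (consMap Y ⟨m⟩ j k) (fmap (headπ Y ⟨m⟩ (j ∘ k.succAbove)) c •
          res M (tailC Y ⟨m⟩ ((j ∘ k.succAbove))) s)
      rw [res_smul, ← res_comp, ← res_comp, consMap_tail]
      exact congrArg (· • res M (tailC Y ⟨m⟩ (j) ≫ (tmap Y j k).left) s) (((fmap_comp _ (consMap Y ⟨m⟩ j k) c).symm.trans (congrArg (fun g => fmap g c) (consMap_head Y ⟨m⟩ j k))).symm)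
  choose v hv using fun i => (bijective_gam_cons Y hY hM ⟨m⟩ i (hr i)).2
    (evalFn Y x _ (taut (Fin.cons ⟨m⟩ i)))
  have hloc : ∀ j : Fin (p + 2) → ULift.{u + 1} (Fin n),
      ∑ k : Fin (p + 2), ((-1 : ℤ) ^ (k : ℕ)) •
        γ' j ((δ j k).lTensor (Fn (Y ⟨m⟩).left) (v (j ∘ k.succAbove))) =
        γ' j ((1 : Fn (Y ⟨m⟩).left) ⊗ₜ[Fn U] z j) := fun j => by
    have h1 : ∀ k : Fin (p + 2), γ' j ((δ j k).lTensor (Fn (Y ⟨m⟩).left) (v (j ∘ k.succAbove))) =
        res M (consMap Y ⟨m⟩ j k) (evalFn Y x _ (taut (Fin.cons ⟨m⟩ (j ∘ k.succAbove)))) := fun k =>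
      (hn j k _).trans (congrArg (res M (consMap Y ⟨m⟩ j k)) (hv _))
    refine (Finset.sum_congr rfl fun (k : Fin (p + 2)) _ =>
      congrArg (fun w => (-1 : ℤ) ^ (k : ℕ) • w) (h1 k)).trans ?_
    refine (cocycle_cons Y x hx ⟨m⟩ j).trans ?_
    show _ = fmap (headπ Y ⟨m⟩ j) 1 • res M (tailC Y ⟨m⟩ j) (z j)
    rw [map_one, one_smul]
  have key := one_tmul_mem_range (Fn (Y ⟨m⟩).left) (P := fun i : Fin (p + 1) → ULift.{u + 1} (Fin n) => sectModEt M (PO Y i))
    (Q := fun j : Fin (p + 2) → ULift.{u + 1} (Fin n) => sectModEt M (PO Y j))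
    (σ := fun (j : Fin (p + 2) → ULift.{u + 1} (Fin n)) (k : Fin (p + 2)) => j ∘ k.succAbove)
    δ z γ' (fun j => (bijective_gam_cons Y hY hM ⟨m⟩ j (hr j)).1) v hloc
  exact key

end Main

/-- Quasi-coherent modules are Čech acyclic on affine objects. -/
theorem isAffAcyclic_of_bcAll {M : ModEt X} (hM : BCAll M) : IsAffAcyclic ((toAbEt X).obj M) := by
  intro U _ n Y hU hY hc p
  haveI := hU
  haveI : LocallySmall.{u + 1} (EtOver X) := ⟨fun _ _ => inferInstance⟩
  refine (HomologicalComplex.exactAt_iff_isZero_homology _ _).1 ?_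
  rw [HomologicalComplex.exactAt_iff' _ p (p + 1) (p + 2) (by simp) (by simp), ShortComplex.ab_exact_iff]
  intro (x : (EtCech.cechComplex Y ((toAbEt X).obj M).obj).X (p + 1))
    (hx : ((EtCech.cechComplex Y ((toAbEt X).obj M).obj).d (p + 1) (p + 2)).hom x = 0)
  obtain ⟨y, hy⟩ := exists_primitive Y hY hc hM p x hx
  obtain ⟨w, hw⟩ := exists_cev Y ((toAbEt X).obj M).obj (n := p) y
  refine ⟨w, cev_ext _ _ fun j => ?_⟩
  refine (cev_d _ _ p j w).trans (Eq.trans ?_ ((hy j).trans (toFn_taut x j)))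
  refine Finset.sum_congr rfl fun k _ => ?_
  rw [hw]
  rfl

end Groth.Agent.EtQC
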