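import Groth.Agent.EtQC.Pull
import Groth.Agent.AlgSpPts.Univ

/-!
# Quasi-coherence descends from a chart
-/

set_option autoImplicit false
set_option backward.isDefEq.respectTransparency false
set_option backward.isDefEq.respectTransparency.types false

universe u

set_option maxHeartbeats 1600000

open CategoryTheory CategoryTheory.Limits AlgebraicGeometry Opposite AlgSp

namespace Groth.Agent.EtQC

variable {S : Scheme.{u}} {X Y : Sp S} {f : X ⟶ Y}

/-- Base change over an object coming from the source is base change of the restriction. -/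
theorem bc_postcomp (hf : IsEtaleMor f) {M : ModEt Y} (V : EtOver X)
    (h : haveI := AlgSpDec.PostcompSite.isContinuous f hf
      BC ((SheafOfModules.pushforward.{u + 1} (AlgSpDec.EtPullRestrict.φ hf)).obj M) V) :
    BC M ((EtOver.postcomp f hf).obj V) := by
  haveI := AlgSpDec.PostcompSite.isContinuous f hf
  suffices key : ∀ (L : Over S) (k : L ⟶ V.obj.left) (a : (yon S).obj L ⟶ Y) (ha : RepWith @Etale a)
      (g : EtOver.mk a ha ⟶ (EtOver.postcomp f hf).obj V), g.hom.left = k →
        ((yon S).map k ≫ V.obj.hom) ≫ f = a → IsAffine L.left → BCAt M g by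
    intro E g hE
    obtain ⟨⟨L, ⟨⟨⟩⟩, a⟩, ha⟩ := E
    exact key L g.hom.left a ha g rfl ((Category.assoc _ _ _).trans (EtOver.w g)) hE
  intro L k a ha g hk hw hL
  subst hw
  haveI : Etale k.left := hk ▸ EtOver.etale_left g
  let E' : EtOver X := EtOver.mk ((yon S).map k ≫ V.obj.hom)
    (AlgSpLib.repWith_comp ((repWith_yon_map_iff _ _).2 ‹_›) V.property)
  let g' : E' ⟶ V := EtOver.homMk k rfl
  have hg : g = (EtOver.postcomp f hf).map g' := EtOver.hom_ext _ _ hk
  rw [hg]
  exact h E' g' hL

/-- Quasi-coherence descends along a surjective etale chart. -/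
theorem bcAll_of_restrict (hrep : Representable f) (hf : IsEtaleMor f) (hs : RepWith @Surjective f) {M : ModEt Y}
    (h : haveI := AlgSpDec.PostcompSite.isContinuous f hf
      BCAll ((SheafOfModules.pushforward.{u + 1} (AlgSpDec.EtPullRestrict.φ hf)).obj M)) : BCAll M := by
  classical
  intro E hE
  haveI := hE
  let B := EtOver.bcObj hrep E
  haveI : Surjective (EtOver.bcπ hrep E).left := hs.2 E.obj.hom _ _ (EtOver.isPullback_bcObj hrep E)
  choose O hO hxO _ using fun x : ↥B.obj.left.left =>
    exists_isAffineOpen_mem_and_subset (x := x) (U := (⊤ : B.obj.left.left.Opens)) trivial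
  let V : ↥B.obj.left.left → EtOver X := fun x => AlgSpDec.etOpen B (O x)
  let g : ∀ x, (EtOver.postcomp f hf).obj (V x) ⟶ E := fun x =>
    EtOver.homMk ((AlgSpDec.etOpenι B (O x)).hom.left ≫ EtOver.bcπ hrep E) (by
      change (yon S).map ((AlgSpDec.etOpenι B (O x)).hom.left ≫ EtOver.bcπ hrep E) ≫ E.obj.hom = (V x).obj.hom ≫ f
      rw [Functor.map_comp, Category.assoc, ← (EtOver.isPullback_bcObj hrep E).w, ← Category.assoc]
      exact congrArg (· ≫ f) (EtOver.w (AlgSpDec.etOpenι B (O x))))
  have hcov : ∀ e : ↥E.obj.left.left, ∃ x, e ∈ Set.range (g x).hom.left.left := fun e => by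
    obtain ⟨b, hb⟩ := (EtOver.bcπ hrep E).left.surjective e
    refine ⟨b, ⟨b, hxO b⟩, ?_⟩
    exact hb
  have hopen : ∀ x, IsOpen (Set.range (g x).hom.left.left) := fun x => by
    haveI := EtOver.etale_left (g x)
    exact (g x).hom.left.left.isOpenMap.isOpen_range
  obtain ⟨T, hT⟩ := isCompact_univ.elim_finite_subcover _ hopen fun e _ => Set.mem_iUnion.2 (hcov e)
  haveI : ∀ i : Fin T.card, IsAffine ((EtOver.postcomp f hf).obj (V (T.equivFin.symm i).1)).obj.left.left :=
    fun i => hO _
  refine BC.of_cover (fun i : Fin T.card => (EtOver.postcomp f hf).obj (V (T.equivFin.symm i).1)) (fun i => g _)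
    (fun e => ?_) fun i => bc_postcomp hf _ (h _ (hO _))
  obtain ⟨x, hx, hex⟩ := Set.mem_iUnion₂.1 (hT (Set.mem_univ e))
  refine ⟨T.equivFin ⟨x, hx⟩, ?_⟩
  have key : ∀ z : T, z = ⟨x, hx⟩ → e ∈ Set.range (g z.1).hom.left.left := by
    rintro _ rfl
    exact hex
  exact key _ (T.equivFin.symm_apply_apply _)

end Groth.Agent.EtQC
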