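import Groth.Agent.EtQC.UnionFT
import Groth.Agent.EtQC.Glob.Opens
import Groth.Agent.AlgSpDec.NeatOn

/-!
# Finite type submodules containing given sections on a quasi-compact quasi-separated space

The space is exhausted by a finite chain of affine neighbourhoods, each of them neat outside the images of the
earlier ones. Finitely generated submodules of sections on these neighbourhoods, each contained in the hulls of the
others, give a quasi-coherent submodule of finite type; they are built one neighbourhood at a time.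
-/

set_option autoImplicit false
set_option backward.isDefEq.respectTransparency false
set_option backward.isDefEq.respectTransparency.types false

universe u

set_option maxHeartbeats 1600000

open CategoryTheory CategoryTheory.Limits AlgebraicGeometry Opposite AlgSp
open scoped TensorProduct

namespace Groth.Agent.EtQC

section Alg

variable {R : Type*} [CommRing R] {B : Type*} [CommRing B] [Algebra R B] [Module.Flat R B] {M : Type*}
  [AddCommGroup M] [Module R M]

/-- Tensoring with a flat algebra commutes with finite intersections. -/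
theorem mem_range_iInf {ι : Type*} [Fintype ι] [DecidableEq ι] (L : ι → Submodule R M) (z : B ⊗[R] M)
    (h : ∀ i, z ∈ LinearMap.range ((L i).subtype.lTensor B)) :
    z ∈ LinearMap.range ((⨅ i, L i).subtype.lTensor B) := by
  let μ : M →ₗ[R] ∀ i, M ⧸ L i := LinearMap.pi fun i => (L i).mkQ
  have hker : LinearMap.ker μ = ⨅ i, L i := by
    simp [μ, LinearMap.ker_pi]
  have hz : μ.lTensor B z = 0 := by
    refine (TensorProduct.piRight R R B fun i => M ⧸ L i).injective (funext fun i => ?_)
    rw [map_zero, Pi.zero_apply]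
    obtain ⟨w, rfl⟩ := h i
    clear h
    induction w using TensorProduct.induction_on with
    | zero => simp
    | add x y hx hy => simp only [map_add, Pi.add_apply, hx, hy, add_zero]
    | tmul b x =>
      rw [LinearMap.lTensor_tmul, LinearMap.lTensor_tmul, TensorProduct.piRight_apply,
        TensorProduct.piRightHom_tmul]
      simp [μ, (Submodule.Quotient.mk_eq_zero (L i)).2 x.2]
  have h2 := (Module.Flat.lTensor_exact B (LinearMap.exact_subtype_ker_map μ) z).1 hz
  rwa [hker] at h2

end Alg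

variable {S : Scheme.{u}} {X : Sp S} {M : ModEt X}

theorem app_sub_mem (G : AffSub M) (W : EtOver X) (hW : IsAffine W.obj.left.left) (t : sectModEt G.mod W) :
    app G.ι W t ∈ G.P W hW := (Set.ext_iff.1 (G.range_ι W hW) _).1 ⟨t, rfl⟩

/-- Sections of a quasi-coherent submodule come from sections over a larger object, before tensoring. -/
theorem mem_range_of_bc (G : AffSub M) (hG : BCAll G.mod) (hM : BCAll M) {W W' : EtOver X} (g : W' ⟶ W)
    (hW : IsAffine W.obj.left.left) (hW' : IsAffine W'.obj.left.left)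
    (z : letI := (fmap g).toAlgebra; Fn W' ⊗[Fn W] sectModEt M W)
    (h : letI := (fmap g).toAlgebra; gam (RingHom.id (Fn W')) (res M g) (res_smul' M g) z ∈ G.P W' hW') :
    letI := (fmap g).toAlgebra; z ∈ LinearMap.range ((G.P W hW).subtype.lTensor (Fn W')) := by
  letI := (fmap g).toAlgebra
  obtain ⟨t, ht⟩ := (Set.ext_iff.1 (G.range_ι W' hW') _).2 h
  obtain ⟨w, rfl⟩ := (hG W hW W' g hW').2 t
  rw [← gam_app] at ht
  refine (hM W hW W' g hW').1 ht ▸ ?_
  clear ht h
  induction w using TensorProduct.induction_on with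
  | zero => rw [map_zero]; exact zero_mem _
  | add x y hx hy => rw [map_add]; exact add_mem hx hy
  | tmul b s =>
    rw [LinearMap.lTensor_tmul]
    exact ⟨b ⊗ₜ ⟨app G.ι W s, app_sub_mem G W hW s⟩, rfl⟩

/-- Finite intersections of quasi-coherent submodules. -/
noncomputable def infSub {n : ℕ} (G : Fin n → AffSub M) : AffSub M where
  P W hW := ⨅ i, (G i).P W hW
  map g hW hW' s hs := (Submodule.mem_iInf _).2 fun i => (G i).map g hW hW' s ((Submodule.mem_iInf _).1 hs i)
  loc W hW m V g hV hc s hs := (Submodule.mem_iInf _).2 fun i =>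
    (G i).loc W hW m V g hV hc s fun j => (Submodule.mem_iInf _).1 (hs j) i

theorem span_infSub {n : ℕ} (G : Fin n → AffSub M) (hG : ∀ i, BCAll (G i).mod) (hM : BCAll M) {W W' : EtOver X}
    (g : W' ⟶ W) (hW : IsAffine W.obj.left.left) (hW' : IsAffine W'.obj.left.left) (y : sectModEt M W')
    (hy : y ∈ (infSub G).P W' hW') :
    y ∈ Submodule.span (Fn W') (res M g '' ((infSub G).P W hW : Set (sectModEt M W))) := by
  classical
  haveI := hW
  haveI := hW'
  letI := (fmap g).toAlgebra
  haveI : Module.Flat (Fn W) (Fn W') := flat_fmap g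
  obtain ⟨z, rfl⟩ := (hM W hW W' g hW').2 y
  obtain ⟨w, rfl⟩ := mem_range_iInf (fun i => (G i).P W hW) z fun i =>
    mem_range_of_bc (G i) (hG i) hM g hW hW' z ((Submodule.mem_iInf _).1 hy i)
  clear hy
  induction w using TensorProduct.induction_on with
  | zero => rw [map_zero, map_zero]; exact zero_mem _
  | add x y hx hy => rw [map_add, map_add]; exact add_mem hx hy
  | tmul b s =>
    rw [LinearMap.lTensor_tmul, gam_tmul]
    exact Submodule.smul_mem _ _ (Submodule.subset_span ⟨s.1, s.2, rfl⟩)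

theorem bcAll_infSub {n : ℕ} (G : Fin n → AffSub M) (hG : ∀ i, BCAll (G i).mod) (hM : BCAll M) :
    BCAll (infSub G).mod :=
  (infSub G).bcAll hM fun g hW hW' y hy => span_infSub G hG hM g hW hW' y hy

/-- Membership in a span, from a smaller span on a covering. -/
theorem span_le_span_res {T U U' : EtOver X} (b : T ⟶ U) (c : T ⟶ U') (N : Set (sectModEt M U))
    (N' : Set (sectModEt M U')) (h : ∀ x ∈ N, res M b x ∈ Submodule.span (Fn T) (res M c '' N')) :
    Submodule.span (Fn T) (res M b '' N) ≤ Submodule.span (Fn T) (res M c '' N') :=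
  Submodule.span_le.2 fun _ ⟨x, hx, e⟩ => e ▸ h x hx

/-- A finite chain of affine neighbourhoods, each neat outside the earlier ones. -/
structure Chain (X : Sp S) where
  n : ℕ
  W : Fin n → EtOver X
  aff : ∀ i, IsAffine (W i).obj.left.left
  surj : ∀ x : Points X, ∃ i, x ∈ Set.range (Points.ofPt (W i).obj.hom)
  neat : ∀ (k : Fin n) (T : EtOver X) (a b : T ⟶ W k) (t : ↥T.obj.left.left),
    (∃ l < k, Glob.pt T t ∈ Set.range (Points.ofPt (W l).obj.hom)) ∨
      ∃ (T' : EtOver X) (h : T' ⟶ T), h ≫ a = h ≫ b ∧ t ∈ Set.range h.hom.left.left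

theorem range_map_eq {V : EtOver X} : Set.range (Points.map V.obj.hom) = Set.range (Points.ofPt V.obj.hom) := by
  ext x
  constructor
  · rintro ⟨p, rfl⟩
    exact ⟨Points.toScheme _ p, by rw [Points.ofPt_eq_map_ofScheme, Points.ofScheme_toScheme]⟩
  · rintro ⟨w, rfl⟩
    exact ⟨_, (Points.ofPt_eq_map_ofScheme _ _).symm⟩

/-- Chains exist. -/
theorem exists_chain [QuasiSeparatedSpace ↥S] (hA : IsAlgSpace X) (hqc : IsQuasiCompactSp X)
    (hqs : IsQuasiSeparatedSp X) : Nonempty (Chain X) := by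
  let Q : Set (Points X) → Prop := fun O => ∃ (n : ℕ) (W : Fin n → EtOver X),
    (∀ i, IsAffine (W i).obj.left.left) ∧ (∀ x, x ∈ O ↔ ∃ i, x ∈ Set.range (Points.ofPt (W i).obj.hom)) ∧
    ∀ (k : Fin n) (T : EtOver X) (a b : T ⟶ W k) (t : ↥T.obj.left.left),
      (∃ l < k, Glob.pt T t ∈ Set.range (Points.ofPt (W l).obj.hom)) ∨
        ∃ (T' : EtOver X) (h : T' ⟶ T), h ≫ a = h ≫ b ∧ t ∈ Set.range h.hom.left.left
  obtain ⟨n, W, h1, h2, h3⟩ : Q Set.univ := by
    refine AlgSpDec.Neat.induction_open ⟨X, hA⟩ hqc hqs Q ∅ isOpen_empty isCompact_empty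
      ⟨0, Fin.elim0, fun i => i.elim0, fun x => by simp, fun k => k.elim0⟩ ?_
    rintro O V φ hV - - - hφ hn ⟨n, W, hW, hO, hW'⟩
    let V' : EtOver X := EtOver.mk φ hφ
    refine ⟨n + 1, Fin.snoc W V', fun i => ?_, fun x => ?_, fun k => ?_⟩
    · induction i using Fin.lastCases with
      | last => rw [Fin.snoc_last]; exact hV
      | cast i => rw [Fin.snoc_castSucc]; exact hW i
    · rw [Set.mem_union, hO, show Set.range (Points.map φ) = Set.range (Points.ofPt V'.obj.hom) from range_map_eq (V := V'),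
        Fin.exists_fin_succ']
      refine or_congr (exists_congr fun i => ?_) ?_
      · erw [Fin.snoc_castSucc]
      · erw [Fin.snoc_last]
    · induction k using Fin.lastCases with
      | last =>
        rw [Fin.snoc_last]
        intro T a b t
        by_cases ht : Glob.pt T t ∈ O
        · obtain ⟨l, hl⟩ := (hO _).1 ht
          exact Or.inl ⟨l.castSucc, Fin.castSucc_lt_last l, by rwa [Fin.snoc_castSucc]⟩
        · exact Or.inr (Glob.exists_nbhd_eq (V := V') hn a b t ht)
      | cast k =>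
        rw [Fin.snoc_castSucc]
        intro T a b t
        rcases hW' k T a b t with ⟨l, hl, hl'⟩ | h
        · exact Or.inl ⟨l.castSucc, Fin.castSucc_lt_castSucc_iff.2 hl, by rwa [Fin.snoc_castSucc]⟩
        · exact Or.inr h
  exact ⟨⟨n, W, h1, fun x => (h2 x).1 trivial, h3⟩⟩

attribute [instance] Chain.aff

variable [QuasiSeparatedSpace ↥S]

theorem mem_span_of_common {W U : EtOver X} [IsAffine W.obj.left.left] [IsAffine U.obj.left.left]
    (hM : BCAll M) (hqs : IsQuasiSeparatedSp X) (s : sectModEt M W) :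
    ∃ T : Finset (sectModEt M U), ∀ N₀ : Submodule (Fn U) (sectModEt M U), (↑T : Set (sectModEt M U)) ⊆ N₀ →
      s ∈ (hull hM N₀).P W ‹_› :=
  exists_hull_mem hqs hM W s

/-- A point over the image of a neighbourhood lifts to it near itself. -/
theorem exists_lift_nbhd {T U : EtOver X} [IsAffine T.obj.left.left] (t : ↥T.obj.left.left)
    (ht : Glob.pt T t ∈ Set.range (Points.ofPt U.obj.hom)) :
    ∃ (T' : EtOver X) (h : T' ⟶ T) (_ : T' ⟶ U), IsAffine T'.obj.left.left ∧ t ∈ Set.range h.hom.left.left := by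
  obtain ⟨w, hw⟩ := ht
  obtain ⟨p, hp⟩ := AlgSpPts.exists_lift (f := U.obj.hom) (fst := (yon S).map (EtOver.prodSnd T U).hom.left)
    (U.property.1.isPullback' T.obj.hom) (t := t) (x := Points.map ((yon S).map (𝟙 _)) (Points.ofScheme _ w))
    (by rw [← Points.map_comp, CategoryTheory.Functor.map_id, Category.id_comp, ← Points.ofPt_eq_map_ofScheme]; exact hw)
  obtain ⟨y, hy1⟩ : ∃ y, (EtOver.prodFst T U).hom.left.left y = t := ⟨p, hp.2⟩
  obtain ⟨_, ⟨O, hO, rfl⟩, hyO, -⟩ := (EtOver.prodObj T U).obj.left.left.isBasis_affineOpens.exists_subset_of_mem_open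
    (Set.mem_univ y) isOpen_univ
  refine ⟨AlgSpDec.etOpen _ O, AlgSpDec.etOpenι _ O ≫ EtOver.prodFst T U, AlgSpDec.etOpenι _ O ≫ EtOver.prodSnd T U,
    hO, ⟨y, hyO⟩, ?_⟩
  exact hy1

variable (C : Chain X)

/-- A span on affine objects is local, tested on coverings by maps. -/
theorem mem_span_of_nbhds (hM : BCAll M) {T U : EtOver X} [hT : IsAffine T.obj.left.left] (b : T ⟶ U)
    (N : Set (sectModEt M U)) (s : sectModEt M T)
    (h : ∀ t : ↥T.obj.left.left, ∃ (T' : EtOver X) (k : T' ⟶ T), IsAffine T'.obj.left.left ∧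
      t ∈ Set.range k.hom.left.left ∧ res M k s ∈ Submodule.span (Fn T') (res M (k ≫ b) '' N)) :
    s ∈ Submodule.span (Fn T) (res M b '' N) := by
  choose T' k hT' hk hs using h
  obtain ⟨n, V, g, hV, hR, hc⟩ := exists_affine_refinement (AlgSpDec.ofArrows_mem_etTop T' k fun x => ⟨x, hk x⟩)
  haveI := hV
  refine mem_of_cover (hM T hT) _ V g hc s fun i => ?_
  obtain ⟨x, l, hl⟩ := (Sieve.mem_ofArrows_iff _ _ (g i)).1 (hR i)
  rw [hl, res_comp]
  refine Submodule.span_mono ?_ (res_mem_span (k x ≫ b) l (hs x))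
  rintro _ ⟨n, hn, rfl⟩
  exact ⟨res M b n, Submodule.subset_span ⟨n, hn, rfl⟩, by rw [← res_comp, Category.assoc]⟩

include C in
/-- Compatible finitely generated submodules of sections containing given finite sets. -/
theorem exists_compat (hM : BCAll M) (hqs : IsQuasiSeparatedSp X) (k : ℕ) :
    ∀ Ts : ∀ i : Fin C.n, Finset (sectModEt M (C.W i)), ∃ N : ∀ i : Fin C.n, Submodule (Fn (C.W i)) (sectModEt M (C.W i)),
      ∀ i : Fin C.n, i.1 < k → (N i).FG ∧ (↑(Ts i) : Set (sectModEt M (C.W i))) ⊆ N i ∧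
        ∀ j : Fin C.n, j.1 < k → N i ≤ (hull hM (N j)).P (C.W i) (C.aff i) := by
  classical
  induction k with
  | zero => exact fun Ts => ⟨fun _ => ⊥, fun i hi => absurd hi (Nat.not_lt_zero _)⟩
  | succ k ih =>
    intro Ts
    by_cases hk : k < C.n
    swap
    · obtain ⟨N, hN⟩ := ih Ts
      exact ⟨N, fun i _ => ⟨(hN i (by omega)).1, (hN i (by omega)).2.1, fun j _ => (hN i (by omega)).2.2 j (by omega)⟩⟩
    let K : Fin C.n := ⟨k, hk⟩
    choose Tr hTr using fun (i : Fin C.n) (s : sectModEt M (C.W K)) => mem_span_of_common (U := C.W i) hM hqs s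
    obtain ⟨N, hN⟩ := ih fun i => Ts i ∪ (Ts K).biUnion (Tr i)
    let G : Fin k → AffSub M := fun i => hull hM (N ⟨i.1, i.2.trans hk⟩)
    have hG : ∀ i, BCAll (G i).mod := fun i => hull_bcAll hM _ hqs
    let L : Submodule (Fn (C.W K)) (sectModEt M (C.W K)) := (infSub G).P (C.W K) (C.aff K)
    have hTL : ∀ s ∈ Ts K, s ∈ L := fun s hs => (Submodule.mem_iInf _).2 fun i =>
      hTr _ s _ fun x hx => (hN ⟨i.1, i.2.trans hk⟩ i.2).2.1
        (Finset.mem_coe.2 (Finset.mem_union_right _ (Finset.mem_biUnion.2 ⟨s, hs, hx⟩)))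
    have hgen : ∀ (i : Fin C.n) (_ : i.1 < k) (x : sectModEt M (C.W i)), x ∈ N i → ∃ F : Finset (sectModEt M (C.W K)),
        (↑F : Set (sectModEt M (C.W K))) ⊆ L ∧ ∀ N₀ : Submodule (Fn (C.W K)) (sectModEt M (C.W K)),
          (↑F : Set (sectModEt M (C.W K))) ⊆ N₀ → x ∈ (hull hM N₀).P (C.W i) (C.aff i) := by
      intro i hi x hx
      obtain ⟨m, P, a, b, hP, hp, -⟩ := exists_pieces (C.W K) hqs (C.W i)
      haveI := hP
      have key : ∀ p : Fin m, ∃ F : Finset (sectModEt M (C.W K)), (↑F : Set (sectModEt M (C.W K))) ⊆ L ∧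
          res M (a p) x ∈ Submodule.span (Fn (P p)) (res M (b p) '' (F : Set (sectModEt M (C.W K)))) := fun p => by
        have h := span_infSub G hG hM (b p) (C.aff K) (hP p) (res M (a p) x) ((Submodule.mem_iInf _).2 fun l =>
          (hull hM _).map (a p) (C.aff i) (hP p) x ((hN i hi).2.2 ⟨l.1, l.2.trans hk⟩ l.2 hx))
        obtain ⟨F, hF, hF'⟩ := Submodule.mem_span_finite_of_mem_span h
        obtain ⟨F₀, hF₀, rfl⟩ := Finset.subset_set_image_iff.1 hF
        exact ⟨F₀, hF₀, by rwa [Finset.coe_image] at hF'⟩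
      choose F hFL hF using key
      refine ⟨Finset.univ.biUnion F, fun y hy => ?_, fun N₀ hN₀ => mem_hull_of_pieces hM N₀ hp fun p =>
        Submodule.span_mono (Set.image_mono fun y hy =>
          hN₀ (Finset.mem_coe.2 (Finset.mem_biUnion.2 ⟨p, Finset.mem_univ _, hy⟩))) (hF p)⟩
      obtain ⟨p, -, hp⟩ := Finset.mem_biUnion.1 (Finset.mem_coe.1 hy)
      exact hFL p hp
    choose! g hg using fun (i : Fin C.n) (hi : i.1 < k) => (hN i hi).1
    have hgm : ∀ (i : Fin C.n) (hi : i.1 < k) (x : sectModEt M (C.W i)), x ∈ g i → x ∈ N i :=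
      fun i hi x hx => hg i hi ▸ Submodule.subset_span hx
    choose! F hFL hF using hgen
    let all : Finset (sectModEt M (C.W K)) :=
      Ts K ∪ (Finset.univ.filter fun i : Fin C.n => i.1 < k).biUnion fun i => (g i).biUnion (F i)
    have hallL : (↑all : Set (sectModEt M (C.W K))) ⊆ L := by
      intro y hy
      rcases Finset.mem_union.1 (Finset.mem_coe.1 hy) with hy | hy
      · exact hTL y hy
      · obtain ⟨i, hi, hy⟩ := Finset.mem_biUnion.1 hy
        obtain ⟨x, hx, hy⟩ := Finset.mem_biUnion.1 hy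
        have hik := (Finset.mem_filter.1 hi).2
        exact hFL i hik x (hgm i hik x hx) hy
    let NK : Submodule (Fn (C.W K)) (sectModEt M (C.W K)) := Submodule.span _ ↑all
    have hKi : ∀ (l : Fin C.n) (hl : l.1 < k), NK ≤ (hull hM (N l)).P (C.W K) (C.aff K) := fun l hl =>
      Submodule.span_le.2 fun y hy => (Submodule.mem_iInf _).1 (hallL hy) ⟨l.1, hl⟩
    have hiK : ∀ (i : Fin C.n), i.1 < k → N i ≤ (hull hM NK).P (C.W i) (C.aff i) := fun i hi => by
      rw [← hg i hi]
      refine Submodule.span_le.2 fun x hx => hF i hi x (hgm i hi x hx) NK fun y hy => Submodule.subset_span ?_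
      exact Finset.mem_coe.2 (Finset.mem_union_right _ (Finset.mem_biUnion.2
        ⟨i, Finset.mem_filter.2 ⟨Finset.mem_univ _, hi⟩, Finset.mem_biUnion.2 ⟨x, hx, hy⟩⟩))
    have hKK : NK ≤ (hull hM NK).P (C.W K) (C.aff K) := by
      intro s hs T hT a b
      haveI := hT
      refine mem_span_of_nbhds hM b _ _ fun t => ?_
      rcases C.neat K T a b t with ⟨l, hl, ht⟩ | ⟨T', h, hab, ht⟩
      · obtain ⟨T', h, c, hT', ht'⟩ := exists_lift_nbhd t ht
        refine ⟨T', h, hT', ht', ?_⟩
        rw [← res_comp]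
        exact span_le_span_res c (h ≫ b) _ _ (fun x hx => hiK l hl hx T' hT' c (h ≫ b)) (hKi l hl hs T' hT' (h ≫ a) c)
      · obtain ⟨w, rfl⟩ := ht
        obtain ⟨_, ⟨O, hO, rfl⟩, hwO, -⟩ :=
          T'.obj.left.left.isBasis_affineOpens.exists_subset_of_mem_open (Set.mem_univ w) isOpen_univ
        refine ⟨AlgSpDec.etOpen T' O, AlgSpDec.etOpenι T' O ≫ h, hO, ⟨⟨w, hwO⟩, rfl⟩, ?_⟩
        rw [← res_comp, Category.assoc, Category.assoc, hab]
        exact Submodule.subset_span ⟨s, hs, rfl⟩
    refine ⟨fun i => if h : i = K then h ▸ NK else N i, fun i hi => ?_⟩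
    by_cases hiK' : i = K
    · subst hiK'
      simp only [↓reduceDIte]
      refine ⟨⟨all, rfl⟩, fun y hy => Submodule.subset_span (Finset.mem_coe.2 (Finset.mem_union_left _ hy)), fun j hj => ?_⟩
      by_cases hjK : j = K
      · subst hjK; simp only [↓reduceDIte]; exact hKK
      · simp only [hjK, ↓reduceDIte]
        exact hKi j (by have : j.1 ≠ k := fun e => hjK (Fin.ext e); omega)
    · have hik : i.1 < k := by have : i.1 ≠ k := fun e => hiK' (Fin.ext e); omega
      simp only [hiK', ↓reduceDIte]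
      refine ⟨(hN i hik).1, fun y hy => (hN i hik).2.1 (Finset.mem_coe.2 (Finset.mem_union_left _ hy)), fun j hj => ?_⟩
      by_cases hjK : j = K
      · subst hjK; simp only [↓reduceDIte]; exact hiK i hik
      · simp only [hjK, ↓reduceDIte]
        exact (hN i hik).2.2 j (by have : j.1 ≠ k := fun e => hjK (Fin.ext e); omega)

/-- Finite type quasi-coherent submodules containing given sections. -/
theorem exists_ft_sub (hM : BCAll M) (hA : IsAlgSpace X) (hqc : IsQuasiCompactSp X) (hqs : IsQuasiSeparatedSp X)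
    {m : ℕ} (U : Fin m → EtOver X) (hU : ∀ i, IsAffine (U i).obj.left.left) (s : ∀ i, sectModEt M (U i)) :
    ∃ G : AffSub M, BCAll G.mod ∧ FT G.mod ∧ ∀ i, s i ∈ G.P (U i) (hU i) := by
  classical
  obtain ⟨C⟩ := exists_chain hA hqc hqs
  haveI := hU
  choose Tr hTr using fun (j : Fin C.n) (i : Fin m) => mem_span_of_common (U := C.W j) hM hqs (s i)
  obtain ⟨N, hN⟩ := exists_compat C hM hqs C.n fun j => Finset.univ.biUnion (Tr j)
  let G := infSub fun j => hull hM (N j)
  have hG : BCAll G.mod := bcAll_infSub _ (fun j => hull_bcAll hM _ hqs) hM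
  have heq : ∀ j, G.P (C.W j) (C.aff j) = N j := fun j => le_antisymm
    ((iInf_le _ j).trans (hull_le hM (N j)))
    (le_iInf fun l => (hN j j.2).2.2 l l.2)
  refine ⟨G, hG, fun E hE => ?_, fun i => (Submodule.mem_iInf _).2 fun j =>
    hTr j i _ fun x hx => (hN j j.2).2.1 (Finset.mem_coe.2 (Finset.mem_biUnion.2 ⟨i, Finset.mem_univ _, hx⟩))⟩
  haveI := hE
  have hfin : ∀ j, Module.Finite (Fn (C.W j)) (sectModEt G.mod (C.W j)) := fun j => by
    haveI : Module.Finite (Fn (C.W j)) (N j) := Module.Finite.iff_fg.2 (hN j j.2).1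
    refine Module.Finite.of_surjective ((LinearEquiv.ofBijective ((app G.ι (C.W j)).codRestrict (N j) fun t =>
      heq j ▸ app_sub_mem G (C.W j) (C.aff j) t) ⟨fun x y h => app_injective G.ι (C.W j) (congrArg (fun t : N j => t.1) h),
      fun y => ?_⟩).symm.toLinearMap) (LinearEquiv.surjective _)
    obtain ⟨t, ht⟩ := (Set.ext_iff.1 (G.range_ι (C.W j) (C.aff j)) y.1).2 (by rw [heq j]; exact y.2)
    exact ⟨t, Subtype.ext ht⟩
  choose j hj using fun e : ↥E.obj.left.left => C.surj (Glob.pt E e)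
  choose T h c hT hh using fun e => exists_lift_nbhd (U := C.W (j e)) e (hj e)
  obtain ⟨n, V, g, hV, hR, hc⟩ := exists_affine_refinement (AlgSpDec.ofArrows_mem_etTop T h fun x => ⟨x, hh x⟩)
  refine ⟨n, V, g, fun i => ⟨hV i, ?_⟩, hc⟩
  obtain ⟨e, l, -⟩ := (Sieve.mem_ofArrows_iff _ _ (g i)).1 (hR i)
  haveI := hV i
  haveI := hfin (j e)
  exact finite_of_hom (l ≫ c e) (hG _ (C.aff _))

end Groth.Agent.EtQC
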