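import Groth.Agent.EtQC.ClosedQC

/-!
# Modules on a closed subspace as modules killed by its ideal
-/

set_option autoImplicit false
set_option backward.isDefEq.respectTransparency false
set_option backward.isDefEq.respectTransparency.types false

universe u

set_option maxHeartbeats 1600000

open CategoryTheory CategoryTheory.Limits AlgebraicGeometry Opposite AlgSp

namespace Groth.Agent.EtQC

variable {S : Scheme.{u}} {Z X : Sp S} {i : Z ⟶ X} (hi : RepWith @IsClosedImmersion i) {I : IdealEt X}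

theorem le_annSect_push (hZ : IsCutOutBy I i) (G : ModEt Z) (E : EtOver X) (hE : IsAffine E.obj.left.left)
    (s : sectModEt ((pushModEt hi.1).obj G) E) : I.ideal E hE ≤ annSect s := by
  intro a ha
  rw [mem_annSect_iff]
  show (a • (show sectModEt ((pushModEt hi.1).obj G) E from s)) = 0
  refine (push_smul hi.1 G E a s).trans ?_
  rw [(ker_bcFun hi hZ E hE a).1 ha, zero_smul]

/-- A descent of the underlying sheaf of a module killed by the ideal. -/
theorem exists_desc (hX : IsAlgSpace X) (hZ : IsCutOutBy I i) (F : ModEt X)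
    (hk : ∀ (E : EtOver X) (hE : IsAffine E.obj.left.left) (s : sectModEt F E), I.ideal E hE ≤ annSect s) :
    Nonempty (Desc hi F) := by
  haveI := AlgSpDec.PushEmb.isCoverDense hi.1 (AlgSpDec.PushEmb.liftable_of_closed hi) hX
  haveI := AlgSpDec.PushEmb.isLocallyFull hi.1 (AlgSpDec.PushEmb.isEmbedding_of_closed hi)
  haveI := AlgSpDec.PushEmb.isLocallyFaithful hi.1
  have killed : ∀ (E : EtOver X), IsAffine E.obj.left.left → ∀ (a : Fn E) (x : sectModEt F E),
      bcFun hi.1 E a = 0 → a • x = 0 := fun E hE a x ha =>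
    (mem_annSect_iff x a).1 (hk E hE x ((ker_bcFun hi hZ E hE a).2 ha))
  have he : ∀ E : EtOver X, IsEmpty ↥((EtOver.bc hi.1).obj E).obj.left.left → ∀ x : sectModEt F E, x = 0 := by
    intro E he x
    choose O hO hxO _ using fun z : ↥E.obj.left.left =>
      exists_isAffineOpen_mem_and_subset (x := z) (U := (⊤ : E.obj.left.left.Opens)) trivial
    refine ext_of_cover F (fun z => AlgSpDec.etOpen E (O z)) (fun z => AlgSpDec.etOpenι E (O z))
      (fun z => ⟨z, by rw [AlgSpDec.range_etOpenι]; exact hxO z⟩) fun z => ?_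
    haveI : IsEmpty ↥(EtOver.bcObj hi.1 (AlgSpDec.etOpen E (O z))).obj.left.left :=
      AlgSpDec.PushEmb.isEmpty_bc_of_hom hi.1 (AlgSpDec.etOpenι E (O z)) he
    rw [map_zero, ← one_smul (Fn (AlgSpDec.etOpen E (O z))) (res F (AlgSpDec.etOpenι E (O z)) x)]
    exact killed (AlgSpDec.etOpen E (O z)) (hO z) 1 _ (Subsingleton.elim (α := Γ((EtOver.bcObj hi.1 (AlgSpDec.etOpen E (O z))).obj.left.left, ⊤)) _ _)
  have hC : ∀ E : EtOver X, IsClosed (Set.range (hi.1.snd E.obj.hom).left) := fun E =>
    haveI : IsClosedImmersion (hi.1.snd E.obj.hom).left := hi.property_snd E.obj.hom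
    (hi.1.snd E.obj.hom).left.isClosedEmbedding.isClosed_range
  have hess : (pushEt hi.1 AddCommGrpCat.{u + 1}).essImage ((toAbEt X).obj F) := by
    rw [AlgSpDec.PushEmb.essImage_iff_isSheaf hi.1 AddCommGrpCat.{u + 1},
      Presheaf.isSheaf_iff_isSheaf_forget _ _ (CategoryTheory.forget AddCommGrpCat.{u + 1}),
      isSheaf_iff_isSheaf_of_type]
    refine AlgSpDec.PushEmb.isSheaf_of_unique hi.1
      ((isSheaf_iff_isSheaf_of_type _ _).1
        ((Presheaf.isSheaf_iff_isSheaf_forget _ _ (CategoryTheory.forget AddCommGrpCat.{u + 1})).1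
          ((toAbEt X).obj F).property)) hC fun E h => ?_
    exact ⟨{ default := (0 : sectModEt F E), uniq := fun x => he E h x }⟩
  obtain ⟨G₀, ⟨e⟩⟩ := hess
  exact ⟨{ hX := hX, killed := killed, G₀ := G₀, iso := e }⟩

theorem finite_bc_of_push (G : ModEt Z) (E : EtOver X) [IsAffine E.obj.left.left]
    (h : Module.Finite (Fn (EtOver.bcObj hi.1 E)) (sectModEt G (EtOver.bcObj hi.1 E))) :
    Module.Finite (Fn E) (sectModEt ((pushModEt hi.1).obj G) E) := by
  letI : Algebra (Fn E) (Fn (EtOver.bcObj hi.1 E)) := (bcFun hi.1 E).toAlgebra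
  letI : Module (Fn E) (sectModEt G (EtOver.bcObj hi.1 E)) := Module.compHom _ (bcFun hi.1 E)
  haveI : IsScalarTower (Fn E) (Fn (EtOver.bcObj hi.1 E)) (sectModEt G (EtOver.bcObj hi.1 E)) :=
    IsScalarTower.of_algebraMap_smul fun _ _ => rfl
  haveI : Module.Finite (Fn E) (Fn (EtOver.bcObj hi.1 E)) :=
    Module.Finite.of_surjective (Algebra.linearMap (Fn E) (Fn (EtOver.bcObj hi.1 E))) (affine_surjective_bc hi E).2
  haveI := Module.Finite.trans (R := Fn E) (Fn (EtOver.bcObj hi.1 E)) (sectModEt G (EtOver.bcObj hi.1 E))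
  exact Module.Finite.of_surjective
    ({ toFun := fun x => x
       map_add' := fun _ _ => rfl
       map_smul' := fun a x => (push_smul hi.1 G E a x).symm } :
      sectModEt G (EtOver.bcObj hi.1 E) →ₗ[Fn E] sectModEt ((pushModEt hi.1).obj G) E) fun x => ⟨x, rfl⟩

theorem finite_of_push {G : ModEt Z} {F : ModEt X} (e : (pushModEt hi.1).obj G ≅ F) (E : EtOver X)
    [IsAffine E.obj.left.left] (h : Module.Finite (Fn E) (sectModEt F E)) :
    Module.Finite (Fn (EtOver.bcObj hi.1 E)) (sectModEt G (EtOver.bcObj hi.1 E)) := by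
  haveI : Module.Finite (Fn E) (sectModEt ((pushModEt hi.1).obj G) E) :=
    Module.Finite.of_surjective (app e.inv E) (fun x => ⟨app e.hom E x, by
      show (e.hom ≫ e.inv).val.app (op E) x = x
      rw [e.hom_inv_id]; rfl⟩)
  obtain ⟨s, hs⟩ := Module.Finite.fg_top (R := Fn E) (M := sectModEt ((pushModEt hi.1).obj G) E)
  let s' : Finset (sectModEt G (EtOver.bcObj hi.1 E)) := s
  refine ⟨⟨s', eq_top_iff.2 fun x _ => ?_⟩⟩
  suffices H : ∀ y : sectModEt ((pushModEt hi.1).obj G) E, y ∈ Submodule.span (Fn E) (s : Set _) →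
      (show sectModEt G (EtOver.bcObj hi.1 E) from y) ∈
        Submodule.span (Fn (EtOver.bcObj hi.1 E)) (↑s' : Set (sectModEt G (EtOver.bcObj hi.1 E))) from
    H x (hs ▸ trivial)
  intro y hy
  induction hy using Submodule.span_induction with
  | mem x hx => exact Submodule.subset_span hx
  | zero => exact zero_mem _
  | add x y _ _ hx hy => exact add_mem hx hy
  | smul a x _ hx => exact (push_smul hi.1 G E a x).symm ▸ Submodule.smul_mem _ (bcFun hi.1 E a) hx

theorem ft_push {G : ModEt Z} (hG : BCAll G) (h : FT G) : FT ((pushModEt hi.1).obj G) := fun E hE => by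
  haveI := hE
  haveI := (affine_surjective_bc hi E).1
  exact cover_self (fun V => IsAffine V.obj.left.left ∧ Module.Finite (Fn V) (sectModEt ((pushModEt hi.1).obj G) V))
    ⟨hE, finite_bc_of_push hi G E (h.finite hG _)⟩

theorem ft_of_push_closed (hX : IsAlgSpace X) {G : ModEt Z} (hG : BCAll G) {F : ModEt X} (e : (pushModEt hi.1).obj G ≅ F)
    (hF : BCAll F) (h : FT F) : FT G := fun W hW => by
  haveI := hW
  choose E hE m hm using fun w : ↥W.obj.left.left => exists_bc_affine_point hi hX W w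
  obtain ⟨n, V, g, hV, hR, hc⟩ := exists_affine_refinement
    (AlgSpDec.ofArrows_mem_etTop (fun w : ↥W.obj.left.left => EtOver.bcObj hi.1 (E w)) m fun w => ⟨w, hm w⟩)
  refine ⟨n, V, g, fun j => ⟨hV j, ?_⟩, hc⟩
  obtain ⟨w, k, -⟩ := (Sieve.mem_ofArrows_iff _ _ (g j)).1 (hR j)
  haveI := hE w
  haveI := (affine_surjective_bc hi (E w)).1
  haveI := hV j
  haveI := finite_of_push hi e (E w) (h.finite hF (E w))
  exact finite_of_hom k (hG _ inferInstance)

end Groth.Agent.EtQC
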