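import Groth.Agent.EtQC.ClosedDescend
import Groth.Agent.EtQC.Coh

/-!
# The descended module is quasi-coherent
-/

set_option autoImplicit false
set_option backward.isDefEq.respectTransparency false
set_option backward.isDefEq.respectTransparency.types false

universe u

set_option maxHeartbeats 1600000

open CategoryTheory CategoryTheory.Limits AlgebraicGeometry Opposite AlgSp
open scoped TensorProduct

namespace Groth.Agent.EtQC

variable {S : Scheme.{u}} {Z X : Sp S} {i : Z ⟶ X} (hi : RepWith @IsClosedImmersion i)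

/-- A finite affine cover factoring through base changes over the base. -/
theorem exists_cover_bc_affine {P : EtOver X} {V : EtOver Z} [IsAffine V.obj.left.left]
    (g : V ⟶ EtOver.bcObj hi.1 P) : ∃ (n : ℕ) (W : Fin n → EtOver Z) (h : ∀ j, W j ⟶ V),
      (∀ j, IsAffine (W j).obj.left.left) ∧ (∀ x : ↥V.obj.left.left, ∃ j, x ∈ Set.range (h j).hom.left.left) ∧
        ∀ j, ∃ (E : EtOver X) (_ : IsAffine E.obj.left.left) (c : E ⟶ P) (k : W j ⟶ EtOver.bcObj hi.1 E)
          (m : EtOver.bcObj hi.1 E ⟶ V), h j = k ≫ m ∧ m ≫ g = EtOver.bcMap hi.1 c := by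
  choose E hE c m hm hx using fun x : ↥V.obj.left.left => exists_bc_affine hi g x
  obtain ⟨n, W, h, hW, hR, hc⟩ := exists_affine_refinement
    (AlgSpDec.ofArrows_mem_etTop (fun x : ↥V.obj.left.left => EtOver.bcObj hi.1 (E x)) m fun x => ⟨x, hx x⟩)
  refine ⟨n, W, h, hW, hc, fun j => ?_⟩
  obtain ⟨x, k, hk⟩ := (Sieve.mem_ofArrows_iff _ _ (h j)).1 (hR j)
  exact ⟨E x, hE x, c x, k, m x, hk, hm x⟩

namespace Desc

variable {hi} {F : ModEt X} (D : Desc hi F)

theorem ev_res_desc {E E' : EtOver X} (g : E' ⟶ E) (s : sectModEt D.desc (EtOver.bcObj hi.1 E)) :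
    D.ev E' (res D.desc (EtOver.bcMap hi.1 g) s) = res F g (D.ev E s) :=
  D.ev_rs g s

theorem ev_smul_desc (E : EtOver X) (a : Fn E) (s : sectModEt D.desc (EtOver.bcObj hi.1 E)) :
    D.ev E (bcFun hi.1 E a • s) = a • D.ev E s :=
  D.ev_smul E a s

theorem ev_sum (E : EtOver X) {I : Type (u + 1)} (t : I →₀ Fn E) (e : I → sectModEt D.desc (EtOver.bcObj hi.1 E)) :
    D.ev E ((t.mapRange (bcFun hi.1 E) (map_zero _)).sum fun i a => a • e i) = t.sum fun i a => a • D.ev E (e i) := by
  refine (congrArg (D.ev E) (Finsupp.sum_mapRange_index fun i => zero_smul (Fn (EtOver.bcObj hi.1 E)) (e i))).trans ?_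
  refine (map_finsuppSum (D.ev E) t _).trans ?_
  exact Finsupp.sum_congr fun i _ => D.ev_smul_desc E _ _

theorem res_sum {V W : EtOver Z} (k : W ⟶ V) {I : Type (u + 1)} (t : I →₀ Fn V) (e : I → sectModEt D.desc V) :
    res D.desc k (t.sum fun i a => a • e i) =
      (t.mapRange (fmap k) (map_zero _)).sum fun i a => a • res D.desc k (e i) := by
  refine (map_finsuppSum (res D.desc k) t _).trans (Eq.trans ?_
    (Finsupp.sum_mapRange_index fun i => zero_smul (Fn W) (res D.desc k (e i))).symm)
  exact Finsupp.sum_congr fun i _ => res_smul D.desc k _ _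

theorem bcMap_mapRange {E E₀ : EtOver X} (q : E ⟶ E₀) {I : Type (u + 1)} (t : I →₀ Fn E₀) :
    (t.mapRange (fmap q) (map_zero _)).mapRange (bcFun hi.1 E) (map_zero _) =
      (t.mapRange (bcFun hi.1 E₀) (map_zero _)).mapRange (fmap (EtOver.bcMap hi.1 q)) (map_zero _) := by
  ext i
  exact (bcFun_natural hi q (t i)).symm

/-- The presentation over the base change of an affine object. -/
theorem nonempty_locPres (hF : BCAll F) (E₀ : EtOver X) [IsAffine E₀.obj.left.left] :
    Nonempty (LocPres D.desc (EtOver.bcObj hi.1 E₀)) := by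
  let e : sectModEt F E₀ → sectModEt D.desc (EtOver.bcObj hi.1 E₀) := fun y => (D.ev E₀).symm y
  let K : Submodule (Fn (EtOver.bcObj hi.1 E₀)) (sectModEt F E₀ →₀ Fn (EtOver.bcObj hi.1 E₀)) :=
    LinearMap.ker (Finsupp.linearCombination (Fn (EtOver.bcObj hi.1 E₀)) e)
  refine ⟨{ I := sectModEt F E₀, K := ↥K, e := e, c := Subtype.val, rel := fun k => k.2, surj := ?_, exact := ?_ }⟩
  · intro V g hV s
    haveI := hV
    obtain ⟨n, W, h, hW, hc, hE⟩ := exists_cover_bc_affine hi g
    refine ⟨n, W, h, hW, hc, fun j => ?_⟩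
    obtain ⟨E, hE', q, k, m, hk, hm⟩ := hE j
    haveI := hE'
    letI := (fmap q).toAlgebra
    obtain ⟨z, hz⟩ := (hF E₀ ‹_› E q hE').2 (D.ev E (res D.desc m s))
    obtain ⟨t', ht'⟩ : ∃ t' : sectModEt F E₀ →₀ Fn E,
        (t'.sum fun i a => a • res F q i) = D.ev E (res D.desc m s) := by
      rw [← hz]
      clear hz
      induction z using TensorProduct.induction_on with
      | zero => exact ⟨0, by rw [Finsupp.sum_zero_index, map_zero]⟩
      | tmul b y => exact ⟨Finsupp.single y b, (Finsupp.sum_single_index (zero_smul (Fn E) (res F q y))).trans (gam_tmul (RingHom.id (Fn E)) (res F q) (res_smul' F q) b y).symm⟩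
      | add z₁ z₂ h₁ h₂ =>
        obtain ⟨t₁, h₁⟩ := h₁
        obtain ⟨t₂, h₂⟩ := h₂
        refine ⟨t₁ + t₂, ?_⟩
        refine (Finsupp.sum_add_index' (fun i => zero_smul (Fn E) (res F q i))
          (fun i a b => add_smul a b (res F q i))).trans ?_
        rw [h₁, h₂, map_add]
    refine ⟨(t'.mapRange (bcFun hi.1 E) (map_zero _)).mapRange (fmap k) (map_zero _), ?_⟩
    have key : ((t'.mapRange (bcFun hi.1 E) (map_zero _)).sum fun i a => a • res D.desc (EtOver.bcMap hi.1 q) (e i)) =
        res D.desc m s := by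
      refine (D.ev E).injective ?_
      rw [D.ev_sum, ← ht']
      refine Finsupp.sum_congr fun i _ => ?_
      rw [D.ev_res_desc]
      exact congrArg (fun y => _ • res F q y) ((D.ev E₀).apply_symm_apply i)
    rw [hk, res_comp, ← key, D.res_sum]
    refine Finsupp.sum_congr fun i _ => ?_
    rw [← res_comp, Category.assoc, hm]
  · intro V g hV t ht
    haveI := hV
    obtain ⟨n, W, h, hW, hc, hE⟩ := exists_cover_bc_affine hi g
    refine ⟨n, W, h, hW, hc, fun j => ?_⟩
    obtain ⟨E, hE', q, k, m, hk, hm⟩ := hE j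
    haveI := hE'
    letI := (fmap q).toAlgebra
    obtain ⟨t', ht'⟩ := Finsupp.mapRange_surjective (α := sectModEt F E₀) (bcFun hi.1 E) (map_zero _)
      (affine_surjective_bc hi E).2 (t.mapRange (fmap m) (map_zero _))
    have h0 : (t'.sum fun i a => a • res F q i) = 0 := by
      have h1 := congrArg (D.ev E) ((D.res_sum m t fun i => res D.desc g (e i)).symm.trans
        ((congrArg (res D.desc m) ht).trans (map_zero _)))
      rw [← ht', D.ev_sum, map_zero] at h1
      refine Eq.trans (Finsupp.sum_congr fun i _ => ?_) h1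
      rw [← res_comp, hm, D.ev_res_desc]
      exact congrArg (fun y => t' i • res F q y) ((D.ev E₀).apply_symm_apply i).symm
    let K' : Submodule (Fn E₀) (sectModEt F E₀ →₀ Fn E₀) :=
      LinearMap.ker (Finsupp.linearCombination (Fn E₀) (id : sectModEt F E₀ → sectModEt F E₀))
    have hspan := mem_span_of_gam_eq_zero (res F q) (fun a y => res_smul F q a y)
      (fun z hz => (hF E₀ ‹_› E q hE').1 (hz.trans (map_zero _).symm))
      (id : sectModEt F E₀ → sectModEt F E₀) (eq_top_iff.2 fun y _ => Submodule.subset_span ⟨y, rfl⟩)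
      (Subtype.val : ↥K' → _) (span_ker_eq _ _ Subtype.range_coe) t' h0
    let T : Submodule (Fn (W j)) (sectModEt F E₀ →₀ Fn (W j)) :=
      Submodule.span (Fn (W j)) (Set.range fun a : ↥K => a.1.mapRange (fmap (h j ≫ g)) (map_zero _))
    let φ : Fn E →+* Fn (W j) := (fmap k).comp (bcFun hi.1 E)
    have hT : ∀ u ∈ Submodule.span (Fn E) (Set.range fun a : ↥K' => a.1.mapRange (fmap q) (map_zero _)),
        u.mapRange φ (map_zero _) ∈ T := by
      intro u hu
      induction hu using Submodule.span_induction with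
      | mem x hx =>
        obtain ⟨a, rfl⟩ := hx
        refine Submodule.subset_span ⟨⟨a.1.mapRange (bcFun hi.1 E₀) (map_zero _), LinearMap.mem_ker.2 ?_⟩, ?_⟩
        · refine (D.ev E₀).injective ?_
          rw [Finsupp.linearCombination_apply, D.ev_sum, map_zero]
          refine Eq.trans (Finsupp.sum_congr fun i _ => ?_) a.2
          exact congrArg (fun y => _ • y) ((D.ev E₀).apply_symm_apply i)
        · ext i
          show fmap (h j ≫ g) (bcFun hi.1 E₀ (a.1 i)) = fmap k (bcFun hi.1 E (fmap q (a.1 i)))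
          rw [hk, Category.assoc, hm, fmap_comp, bcFun_natural hi]
      | zero => rw [Finsupp.mapRange_zero]; exact zero_mem _
      | add x y _ _ hx hy => rw [Finsupp.mapRange_add (map_add _)]; exact add_mem hx hy
      | smul b x _ hx =>
        have : (b • x).mapRange φ (map_zero _) = φ b • x.mapRange φ (map_zero _) := by
          ext i; simp
        rw [this]; exact T.smul_mem _ hx
    obtain ⟨v, hv⟩ := Finsupp.mem_span_range_iff_exists_finsupp.1 (hT t' hspan)
    refine ⟨v, Eq.trans ?_ hv.symm⟩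
    ext i
    show fmap (h j) (t i) = fmap k (bcFun hi.1 E (t' i))
    rw [hk, fmap_comp]
    exact congrArg (fmap k) (congrArg (fun w : sectModEt F E₀ →₀ _ => w i) ht').symm

/-- The descended module of a quasi-coherent one is quasi-coherent. -/
theorem isQuasicoherent_desc (hF : BCAll F) : D.desc.IsQuasicoherent := by
  refine isQuasicoherent_of_bc fun W hW => ?_
  haveI := hW
  choose E hE m hm using fun w : ↥W.obj.left.left => exists_bc_affine_point hi D.hX W w
  obtain ⟨n, V, h, hV, hR, hc⟩ := exists_affine_refinement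
    (AlgSpDec.ofArrows_mem_etTop (fun w : ↥W.obj.left.left => EtOver.bcObj hi.1 (E w)) m fun w => ⟨w, hm w⟩)
  refine ⟨n, V, h, fun j => ⟨hV j, ?_⟩, hc⟩
  obtain ⟨w, k, -⟩ := (Sieve.mem_ofArrows_iff _ _ (h j)).1 (hR j)
  haveI := hE w
  haveI := (affine_surjective_bc hi (E w)).1
  haveI := hV j
  obtain ⟨P⟩ := D.nonempty_locPres hF (E w)
  exact P.bc.of_hom k

end Desc

end Groth.Agent.EtQC
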