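import Groth.Agent.BigSiteLib.LanFlat
import Groth.Agent.AlgSpDec.EtSite
import Groth.Prelude.Def_AlgSpOX2
import Mathlib.CategoryTheory.Comma.StructuredArrow.Basic
import Mathlib.CategoryTheory.Preadditive.AdditiveFunctor

/-!
# Inverse images on small etale sites of algebraic spaces are exact
-/

set_option autoImplicit false
set_option backward.isDefEq.respectTransparency false
set_option backward.isDefEq.respectTransparency.types false

universe v' u' u

open CategoryTheory CategoryTheory.Limits AlgebraicGeometry Opposite AlgSp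

namespace Groth.Agent.EtQC

/-- A functor with zero values preserves all limits. -/
theorem preservesLimitsOfShape_of_isZero {A : Type u'} [Category.{v'} A] {B : Type u'} [Category.{v'} B]
    [HasZeroMorphisms B] (F : A ⥤ B) (h : ∀ a, IsZero (F.obj a)) (J : Type u) [Category.{u} J] :
    PreservesLimitsOfShape J F :=
  ⟨fun {_} => ⟨fun _ => ⟨{ lift := fun _ => 0
                           fac := fun _ _ => (h _).eq_of_tgt _ _
                           uniq := fun _ _ _ => (h _).eq_of_tgt _ _ }⟩⟩⟩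

variable {S : Scheme.{u}} {X Y : Sp S} {f : X ⟶ Y} (hf : Representable f)

/-- A map into a base change from its two components. -/
noncomputable def bcLift {E : EtOver X} {V : EtOver Y} (m : E.obj.left ⟶ V.obj.left)
    (h : (yon S).map m ≫ V.obj.hom = E.obj.hom ≫ f) : E ⟶ EtOver.bcObj hf V :=
  EtOver.homMk (hf.lift E.obj.hom m h.symm) (hf.lift_fst _ _ _)

theorem bcLift_π {E : EtOver X} {V : EtOver Y} (m : E.obj.left ⟶ V.obj.left)
    (h : (yon S).map m ≫ V.obj.hom = E.obj.hom ≫ f) : (bcLift hf m h).hom.left ≫ EtOver.bcπ hf V = m :=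
  hf.lift_snd _ _ _

theorem map_comp_bcπ {E : EtOver X} {V : EtOver Y} (g : E ⟶ EtOver.bcObj hf V) :
    (yon S).map (g.hom.left ≫ EtOver.bcπ hf V) ≫ V.obj.hom = E.obj.hom ≫ f := by
  rw [Functor.map_comp, Category.assoc, ← EtOver.w g, Category.assoc]
  exact congrArg (_ ≫ ·) (hf.w V.obj.hom).symm

theorem bc_hom_ext {E : EtOver X} {V : EtOver Y} (g g' : E ⟶ EtOver.bcObj hf V)
    (h : g.hom.left ≫ EtOver.bcπ hf V = g'.hom.left ≫ EtOver.bcπ hf V) : g = g' :=
  EtOver.hom_ext _ _ (hf.hom_ext ((EtOver.w g).trans (EtOver.w g').symm) h)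

theorem comp_bcMap_π {E : EtOver X} {V V' : EtOver Y} (g : E ⟶ EtOver.bcObj hf V) (a : V ⟶ V') :
    (g ≫ EtOver.bcMap hf a).hom.left ≫ EtOver.bcπ hf V' = (g.hom.left ≫ EtOver.bcπ hf V) ≫ a.hom.left := by
  show (g.hom.left ≫ (EtOver.bcMap hf a).hom.left) ≫ hf.snd V'.obj.hom = _
  rw [Category.assoc, EtOver.bcMap_snd, ← Category.assoc]

theorem bcLift_comp {E : EtOver X} {V V' : EtOver Y} (m : E.obj.left ⟶ V.obj.left)
    (h : (yon S).map m ≫ V.obj.hom = E.obj.hom ≫ f) (a : V ⟶ V') (g : E ⟶ EtOver.bcObj hf V')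
    (e : m ≫ a.hom.left = g.hom.left ≫ EtOver.bcπ hf V') : bcLift hf m h ≫ EtOver.bcMap hf a = g :=
  bc_hom_ext hf _ _ (by rw [comp_bcMap_π, bcLift_π, e])

/-- Two maps to base changes factor through a common one. -/
theorem exists_bc_span {E : EtOver X} {V₁ V₂ : EtOver Y} (g₁ : E ⟶ EtOver.bcObj hf V₁)
    (g₂ : E ⟶ EtOver.bcObj hf V₂) : ∃ (W : EtOver Y) (h : E ⟶ EtOver.bcObj hf W) (a₁ : W ⟶ V₁) (a₂ : W ⟶ V₂),
      h ≫ EtOver.bcMap hf a₁ = g₁ ∧ h ≫ EtOver.bcMap hf a₂ = g₂ := by
  let m := V₂.property.1.lift' (g₂.hom.left ≫ EtOver.bcπ hf V₂) (g₁.hom.left ≫ EtOver.bcπ hf V₁)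
    ((map_comp_bcπ hf g₂).trans (map_comp_bcπ hf g₁).symm)
  refine ⟨EtOver.prodObj V₁ V₂, bcLift hf m ?_, EtOver.prodFst V₁ V₂, EtOver.prodSnd V₁ V₂,
    bcLift_comp hf _ _ _ _ (Functor.relativelyRepresentable.lift'_snd _ _ _ _),
    bcLift_comp hf _ _ _ _ (Functor.relativelyRepresentable.lift'_fst _ _ _ _)⟩
  show (yon S).map m ≫ (yon S).map _ ≫ V₁.obj.hom = _
  rw [← Category.assoc, ← Functor.map_comp, Functor.relativelyRepresentable.lift'_snd]
  exact map_comp_bcπ hf g₁

/-- Two maps between base changes equalized by a map are equalized after restriction. -/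
theorem exists_bc_equalizer {E : EtOver X} {V V' : EtOver Y} (g : E ⟶ EtOver.bcObj hf V) (a b : V ⟶ V')
    (e : g ≫ EtOver.bcMap hf a = g ≫ EtOver.bcMap hf b) :
    ∃ (W : EtOver Y) (h : E ⟶ EtOver.bcObj hf W) (w : W ⟶ V), h ≫ EtOver.bcMap hf w = g ∧ w ≫ a = w ≫ b := by
  let P := EtOver.prodIsLimit V' V'
  let p : V ⟶ EtOver.prodObj V' V' := P.lift (BinaryFan.mk a b)
  let q : V' ⟶ EtOver.prodObj V' V' := P.lift (BinaryFan.mk (𝟙 V') (𝟙 V'))
  have p₁ : p ≫ EtOver.prodFst V' V' = a := P.fac _ ⟨WalkingPair.left⟩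
  have p₂ : p ≫ EtOver.prodSnd V' V' = b := P.fac _ ⟨WalkingPair.right⟩
  have q₁ : q ≫ EtOver.prodFst V' V' = 𝟙 V' := P.fac _ ⟨WalkingPair.left⟩
  have q₂ : q ≫ EtOver.prodSnd V' V' = 𝟙 V' := P.fac _ ⟨WalkingPair.right⟩
  let m := g.hom.left ≫ EtOver.bcπ hf V
  have hm : m ≫ a.hom.left = m ≫ b.hom.left := by
    rw [← comp_bcMap_π hf g a, e, comp_bcMap_π hf g b]
  have hpq : m ≫ p.hom.left = (m ≫ a.hom.left) ≫ q.hom.left := by
    refine V'.property.1.hom_ext' ?_ ?_
    · simp only [Category.assoc]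
      show m ≫ (p ≫ EtOver.prodSnd V' V').hom.left = m ≫ a.hom.left ≫ (q ≫ EtOver.prodSnd V' V').hom.left
      rw [p₂, q₂, ← hm]
      exact (congrArg (m ≫ ·) (Category.comp_id _)).symm
    · simp only [Category.assoc]
      show m ≫ (p ≫ EtOver.prodFst V' V').hom.left = m ≫ a.hom.left ≫ (q ≫ EtOver.prodFst V' V').hom.left
      rw [p₁, q₁]
      exact (congrArg (m ≫ ·) (Category.comp_id _)).symm
  refine ⟨EtOver.pullbackObj p q, bcLift hf (pullback.lift m (m ≫ a.hom.left) hpq) ?_, EtOver.pullbackFst p q,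
    bcLift_comp hf _ _ _ _ (pullback.lift_fst _ _ _), ?_⟩
  · show (yon S).map _ ≫ (yon S).map _ ≫ V.obj.hom = _
    rw [← Category.assoc, ← Functor.map_comp, pullback.lift_fst]
    exact map_comp_bcπ hf g
  · have c := EtOver.pullback_condition p q
    have h₁ := congrArg (· ≫ EtOver.prodFst V' V') c
    have h₂ := congrArg (· ≫ EtOver.prodSnd V' V') c
    simp only [Category.assoc, p₁, p₂, q₁, q₂, Category.comp_id] at h₁ h₂
    exact h₁.trans h₂.symm

theorem isCofiltered_structuredArrow_bc (E : EtOver X) [hE : Nonempty (StructuredArrow E (EtOver.bc hf))] :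
    IsCofiltered (StructuredArrow E (EtOver.bc hf)) := by
  haveI : IsCofilteredOrEmpty (StructuredArrow E (EtOver.bc hf)) := by
    constructor
    · intro A B
      obtain ⟨W, h, a₁, a₂, e₁, e₂⟩ := exists_bc_span hf A.hom B.hom
      exact ⟨StructuredArrow.mk (Y := W) h, StructuredArrow.homMk a₁ e₁, StructuredArrow.homMk a₂ e₂, trivial⟩
    · intro A B a b
      obtain ⟨W, h, w, e, c⟩ := exists_bc_equalizer hf A.hom a.right b.right
        ((StructuredArrow.w a).trans (StructuredArrow.w b).symm)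
      exact ⟨StructuredArrow.mk (Y := W) h, StructuredArrow.homMk w e, StructuredArrow.hom_ext _ _ c⟩
  exact {}

theorem lan_bc_preservesFiniteLimits :
    PreservesFiniteLimits ((EtOver.bc hf).op.lan : _ ⥤ (EtOver X)ᵒᵖ ⥤ AddCommGrpCat.{u + 1}) := by
  refine ⟨fun J _ _ => ?_⟩
  apply preservesLimitsOfShape_of_evaluation
    ((EtOver.bc hf).op.lan : ((EtOver Y)ᵒᵖ ⥤ AddCommGrpCat.{u + 1}) ⥤ (EtOver X)ᵒᵖ ⥤ _) J
  intro K
  suffices H : PreservesLimitsOfShape J ((Functor.whiskeringLeft _ _ AddCommGrpCat.{u + 1}).obj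
      (CostructuredArrow.proj (EtOver.bc hf).op K) ⋙ colim) from
    preservesLimitsOfShape_of_natIso (BigSiteLib.lanEvalIso _ _).symm
  by_cases h : Nonempty (StructuredArrow K.unop (EtOver.bc hf))
  · haveI := isCofiltered_structuredArrow_bc hf K.unop
    have : IsFiltered (CostructuredArrow (EtOver.bc hf).op K) :=
      IsFiltered.of_equivalence (structuredArrowOpEquivalence (EtOver.bc hf) K.unop)
    have : PreservesFilteredColimitsOfSize.{u, u + 1} (forget AddCommGrpCat.{u + 1}) :=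
      preservesFilteredColimitsOfSize_of_univLE.{u + 1, u + 1, u, u + 1} _
    have : PreservesColimitsOfShape (CostructuredArrow (EtOver.bc hf).op K) (forget AddCommGrpCat.{u + 1}) :=
      PreservesFilteredColimitsOfSize.preserves_filtered_colimits _
    infer_instance
  · haveI : IsEmpty (CostructuredArrow (EtOver.bc hf).op K) :=
      ⟨fun c => h ⟨StructuredArrow.mk (Y := c.left.unop) c.hom.unop⟩⟩
    refine preservesLimitsOfShape_of_isZero _ (fun G => (IsZero.iff_id_eq_zero _).2 (colimit.hom_ext fun j => ?_)) J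
    exact isEmptyElim j

/-- Inverse image of abelian sheaves is left exact. -/
theorem preservesFiniteLimits_pullEt : PreservesFiniteLimits (pullEt hf AddCommGrpCat.{u + 1}) := by
  haveI := lan_bc_preservesFiniteLimits hf
  exact Functor.sheafPullbackConstruction.preservesFiniteLimits (EtOver.bc hf) _ (etTop Y) (etTop X)

/-- Direct image preserves injective objects. -/
theorem injective_pushEt (I : AbEt X) [Injective I] : Injective ((pushEt hf AddCommGrpCat.{u + 1}).obj I) := by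
  haveI := preservesFiniteLimits_pullEt hf
  exact Injective.injective_of_adjoint (pullPushAdjEt hf AddCommGrpCat.{u + 1}) I

end Groth.Agent.EtQC
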