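import Groth.Agent.EtQC.AffinePush
import Groth.Agent.EtQC.PullExact
import Groth.Agent.BigSiteLib.HofPushBij
import Mathlib.CategoryTheory.Sites.SheafCohomology.Basic

/-!
# Leray for representable morphisms of algebraic spaces with vanishing higher direct images
-/

set_option autoImplicit false
set_option backward.isDefEq.respectTransparency false
set_option backward.isDefEq.respectTransparency.types false

universe u

set_option maxHeartbeats 1600000

open CategoryTheory CategoryTheory.Limits AlgebraicGeometry Opposite AlgSp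

namespace Groth.Agent.EtQC

variable {S : Scheme.{u}} {X Y : Sp S} {f : X ⟶ Y} (hf : Representable f) (hY : IsAlgSpace Y)

/-- The arrows from objects mapping to some base change. -/
def bcSieve (E : EtOver X) : Sieve E where
  arrows E' _ := Nonempty (StructuredArrow E' (EtOver.bc hf))
  downward_closed := by
    rintro _ _ _ ⟨a⟩ k
    exact ⟨StructuredArrow.mk (k ≫ a.hom)⟩

include hY in
theorem bcSieve_mem (E : EtOver X) : bcSieve hf E ∈ etTop X E := by
  obtain ⟨U, p, hp, hps⟩ := hY.atlas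
  let g := E.obj.hom ≫ f
  let E' : EtOver X := EtOver.mk ((yon S).map (hp.1.snd g) ≫ E.obj.hom)
    ((repWith_isMultiplicative (S := S) @Etale).comp_mem _ _
      ((repWith_isStableUnderBaseChange (S := S) @Etale).of_isPullback (hp.1.isPullback g) hp) E.property)
  let ρ : E' ⟶ E := EtOver.homMk (hp.1.snd g) rfl
  haveI : Surjective (hp.1.snd g).left := hps.property_snd g
  refine GrothendieckTopology.superset_covering _ ?_
    (AlgSpDec.ofArrows_mem_etTop (fun _ : PUnit.{u + 1} => E') (fun _ => ρ)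
      fun x => ⟨PUnit.unit, (hp.1.snd g).left.surjective x⟩)
  intro W a ha
  obtain ⟨Z, l, k, hk, rfl⟩ := ha
  obtain ⟨⟩ := hk
  refine ⟨StructuredArrow.mk (Y := EtOver.mk p hp) (l ≫ bcLift hf (V := EtOver.mk p hp) (hp.1.fst' g) ?_)⟩
  show (yon S).map (hp.1.fst' g) ≫ p = ((yon S).map (hp.1.snd g) ≫ E.obj.hom) ≫ f
  rw [Functor.relativelyRepresentable.map_fst', Category.assoc]
  exact hp.1.w g

variable {C : AddCommGrpCat.{u + 1}}

theorem const_ext {F : AbEt X} {s t : (Functor.const (EtOver X)ᵒᵖ).obj C ⟶ F.obj}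
    (hY : IsAlgSpace Y) (h : ∀ V, s.app (op (EtOver.bcObj hf V)) = t.app (op (EtOver.bcObj hf V))) : s = t := by
  refine NatTrans.ext (funext fun E => ?_)
  obtain ⟨E⟩ := E
  refine Presheaf.IsSheaf.hom_ext F.property ⟨_, bcSieve_mem hf hY E⟩ _ _ ?_
  rintro ⟨E', g, ⟨a⟩⟩
  refine (s.naturality g.op).symm.trans (Eq.trans ?_ (t.naturality g.op))
  congr 1
  have hs := s.naturality a.hom.op
  have ht := t.naturality a.hom.op
  simp only [Functor.const_obj_map, Category.id_comp] at hs ht
  exact hs.trans ((congrArg (· ≫ F.obj.map a.hom.op) (h a.right)).trans ht.symm)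

theorem const_extend {F : AbEt X} (hY : IsAlgSpace Y)
    (τ : (Functor.const (EtOver Y)ᵒᵖ).obj C ⟶ (EtOver.bc hf).op ⋙ F.obj) :
    ∃ s : (Functor.const (EtOver X)ᵒᵖ).obj C ⟶ F.obj, ∀ V, s.app (op (EtOver.bcObj hf V)) = τ.app (op V) := by
  have hτ : ∀ {V W : EtOver Y} (a : W ⟶ V), τ.app (op V) ≫ F.obj.map (EtOver.bcMap hf a).op = τ.app (op W) :=
    fun a => (τ.naturality a.op).symm.trans (Category.id_comp _)
  have ind : ∀ {E : EtOver X} {V₁ V₂ : EtOver Y} (g₁ : E ⟶ EtOver.bcObj hf V₁) (g₂ : E ⟶ EtOver.bcObj hf V₂),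
      τ.app (op V₁) ≫ F.obj.map g₁.op = τ.app (op V₂) ≫ F.obj.map g₂.op := by
    intro E V₁ V₂ g₁ g₂
    obtain ⟨W, h, a₁, a₂, rfl, rfl⟩ := exists_bc_span hf g₁ g₂
    rw [op_comp, op_comp, F.obj.map_comp, F.obj.map_comp]
    exact ((Category.assoc _ _ _).symm.trans (congrArg (· ≫ F.obj.map h.op) (hτ a₁))).trans
      ((congrArg (· ≫ F.obj.map h.op) (hτ a₂)).symm.trans (Category.assoc _ _ _))
  let v : ∀ {E : EtOver X}, Nonempty (StructuredArrow E (EtOver.bc hf)) → (C ⟶ F.obj.obj (op E)) := fun h =>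
    τ.app (op h.some.right) ≫ F.obj.map h.some.hom.op
  have hv : ∀ {E : EtOver X} (h : Nonempty (StructuredArrow E (EtOver.bc hf))) {V : EtOver Y}
      (g : E ⟶ EtOver.bcObj hf V), v h = τ.app (op V) ≫ F.obj.map g.op := fun h _ g => ind _ g
  have hc : ∀ {E : EtOver X} (I₁ I₂ : GrothendieckTopology.Cover.Arrow
      (⟨_, bcSieve_mem hf hY E⟩ : (etTop X).Cover E)) {W : EtOver X} (g₁ : W ⟶ I₁.Y) (g₂ : W ⟶ I₂.Y),
      v I₁.hf ≫ F.obj.map g₁.op = v I₂.hf ≫ F.obj.map g₂.op := by
    intro E I₁ I₂ W g₁ g₂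
    simp only [v, Category.assoc]
    erw [← F.obj.map_comp, ← F.obj.map_comp, ← op_comp, ← op_comp]
    exact ind _ _
  let s : ∀ E : EtOver X, C ⟶ F.obj.obj (op E) := fun E =>
    Presheaf.IsSheaf.amalgamate F.property ⟨_, bcSieve_mem hf hY E⟩ (fun I => v I.hf)
      fun I₁ I₂ r => hc I₁ I₂ r.g₁ r.g₂
  have hs : ∀ {E E' : EtOver X} (g : E' ⟶ E) (h : bcSieve hf E g), s E ≫ F.obj.map g.op = v h := fun g h =>
    Presheaf.IsSheaf.amalgamate_map F.property ⟨_, bcSieve_mem hf hY _⟩ _ _ ⟨_, g, h⟩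
  refine ⟨{ app := fun E => s E.unop, naturality := ?_ }, fun V => ?_⟩
  · rintro ⟨E⟩ ⟨E'⟩ k
    obtain ⟨k⟩ := k
    refine (Category.id_comp _).trans (Presheaf.IsSheaf.hom_ext F.property ⟨_, bcSieve_mem hf hY E'⟩ _ _ ?_)
    rintro ⟨E'', g, hg⟩
    refine (hs g hg).trans (Eq.trans ?_ (Category.assoc _ _ _).symm)
    erw [← F.obj.map_comp]
    exact (hs (g ≫ k) hg).symm
  · refine Presheaf.IsSheaf.hom_ext F.property ⟨_, bcSieve_mem hf hY _⟩ _ _ ?_
    rintro ⟨E'', g, hg⟩
    exact (hs g hg).trans (hv hg g)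

/-- The group of integers used for cohomology. -/
abbrev intC : AddCommGrpCat.{u + 1} := AddCommGrpCat.of (ULift.{u + 1} ℤ)

/-- The constant sheaf of integers. -/
noncomputable abbrev zSh (Z : Sp S) : AbEt Z := (constantSheaf (etTop Z) AddCommGrpCat.{u + 1}).obj intC

/-- The canonical map from integers to the direct image of integers. -/
noncomputable def constPush : zSh Y ⟶ (pushEt hf AddCommGrpCat.{u + 1}).obj (zSh X) :=
  ((sheafificationAdjunction (etTop Y) AddCommGrpCat.{u + 1}).homEquiv _ _).symm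
    { app := fun V => ((sheafificationAdjunction (etTop X) AddCommGrpCat.{u + 1}).unit.app
        ((Functor.const _).obj intC)).app ((EtOver.bc hf).op.obj V)
      naturality := fun _ _ a => ((sheafificationAdjunction (etTop X) AddCommGrpCat.{u + 1}).unit.app
        ((Functor.const _).obj intC)).naturality ((EtOver.bc hf).op.map a) }

theorem homEquiv_constPush_app (F : AbEt X) (φ : zSh X ⟶ F) (V : EtOver Y) :
    ((sheafificationAdjunction (etTop Y) AddCommGrpCat.{u + 1}).homEquiv _ _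
      (constPush hf ≫ (pushEt hf AddCommGrpCat.{u + 1}).map φ)).app (op V) =
    ((sheafificationAdjunction (etTop X) AddCommGrpCat.{u + 1}).homEquiv _ _ φ).app (op (EtOver.bcObj hf V)) := by
  rw [Adjunction.homEquiv_naturality_right, constPush, Equiv.apply_symm_apply, Adjunction.homEquiv_unit]
  rfl

theorem bijective_constPush (hY : IsAlgSpace Y) (F : AbEt X) :
    Function.Bijective fun φ : zSh X ⟶ F => constPush hf ≫ (pushEt hf AddCommGrpCat.{u + 1}).map φ := by
  constructor
  · intro φ ψ e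
    apply ((sheafificationAdjunction (etTop X) AddCommGrpCat.{u + 1}).homEquiv _ _).injective
    refine const_ext hf hY fun V => ?_
    rw [← homEquiv_constPush_app, ← homEquiv_constPush_app]
    exact congrArg (fun t => ((sheafificationAdjunction (etTop Y) AddCommGrpCat.{u + 1}).homEquiv _ _ t).app (op V)) e
  · intro t
    obtain ⟨s, hs⟩ := const_extend hf hY ((sheafificationAdjunction (etTop Y) AddCommGrpCat.{u + 1}).homEquiv _ _ t)
    refine ⟨((sheafificationAdjunction (etTop X) AddCommGrpCat.{u + 1}).homEquiv _ _).symm s, ?_⟩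
    apply ((sheafificationAdjunction (etTop Y) AddCommGrpCat.{u + 1}).homEquiv _ _).injective
    refine NatTrans.ext (funext fun ⟨V⟩ => ?_)
    refine (homEquiv_constPush_app hf F _ V).trans ?_
    rw [Equiv.apply_symm_apply]
    exact hs V

/-- The inverse image of the constant sheaf is constant. -/
theorem isIso_pullConst (hY : IsAlgSpace Y) :
    IsIso (((pullPushAdjEt hf AddCommGrpCat.{u + 1}).homEquiv _ _).symm (constPush hf)) := by
  let η := ((pullPushAdjEt hf AddCommGrpCat.{u + 1}).homEquiv _ _).symm (constPush hf)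
  have hb : ∀ G : AbEt X, Function.Bijective fun φ : zSh X ⟶ G => η ≫ φ := fun G => by
    have e : (fun φ : zSh X ⟶ G => η ≫ φ) = ((pullPushAdjEt hf AddCommGrpCat.{u + 1}).homEquiv _ _).symm ∘
        fun φ => constPush hf ≫ (pushEt hf AddCommGrpCat.{u + 1}).map φ :=
      funext fun φ => ((pullPushAdjEt hf AddCommGrpCat.{u + 1}).homEquiv_naturality_right_symm _ φ).symm
    rw [e]
    exact (Equiv.bijective _).comp (bijective_constPush hf hY G)
  obtain ⟨s, hs⟩ := (hb _).2 (𝟙 _)
  refine ⟨s, hs, (hb _).1 ?_⟩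
  show η ≫ s ≫ η = η ≫ 𝟙 _
  rw [Category.comp_id, ← Category.assoc]
  exact (congrArg (· ≫ η) hs).trans (Category.id_comp η)

/-- Leray in the case of vanishing higher direct images. -/
theorem nonempty_HEt_push (hY : IsAlgSpace Y) (F : AbEt X)
    (hF : TriCat.IsRightAcyclic (pushEt hf AddCommGrpCat.{u + 1}) F) (i : ℕ) :
    Nonempty (HEt X F i ≃+ HEt Y ((pushEt hf AddCommGrpCat.{u + 1}).obj F) i) := by
  haveI := preservesFiniteLimits_pullEt hf
  haveI := (pullPushAdjEt hf AddCommGrpCat.{u + 1}).isLeftAdjoint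
  haveI := (pullPushAdjEt hf AddCommGrpCat.{u + 1}).left_adjoint_additive
  haveI := isIso_pullConst hf hY
  let η := ((pullPushAdjEt hf AddCommGrpCat.{u + 1}).homEquiv _ _).symm (constPush hf)
  have hb := BigSiteLib.HofBij.hof_bijective (pullPushAdjEt hf AddCommGrpCat.{u + 1}) (inv η) inferInstance i F hF
  exact ⟨(AddEquiv.ofBijective (AddMonoidHom.mk' _
    (BigSiteLib.HofBij.hof_add (pullPushAdjEt hf AddCommGrpCat.{u + 1}) (inv η) F i)) hb).symm⟩

end Groth.Agent.EtQC
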