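import Groth.Agent.EtQC.Push
import Groth.Agent.EtQC.Leray
import Groth.Agent.AlgSpDec.PushEssImage

/-!
# Closed immersions: objects over a base change and functions on it
-/

set_option autoImplicit false
set_option backward.isDefEq.respectTransparency false
set_option backward.isDefEq.respectTransparency.types false

universe u

set_option maxHeartbeats 1600000

open CategoryTheory CategoryTheory.Limits AlgebraicGeometry Opposite AlgSp

namespace Groth.Agent.EtQC

variable {S : Scheme.{u}} {Z X : Sp S} {i : Z ⟶ X} (hi : RepWith @IsClosedImmersion i)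

theorem affine_surjective_bc (E : EtOver X) [IsAffine E.obj.left.left] :
    IsAffine (EtOver.bcObj hi.1 E).obj.left.left ∧ Function.Surjective (bcFun hi.1 E) := by
  haveI : IsClosedImmersion (EtOver.bcπ hi.1 E).left := hi.property_snd E.obj.hom
  exact IsClosedImmersion.isAffine_surjective_of_isAffine (EtOver.bcπ hi.1 E).left

theorem bcFun_natural {E E' : EtOver X} (g : E' ⟶ E) (a : Fn E) :
    fmap (EtOver.bcMap hi.1 g) (bcFun hi.1 E a) = bcFun hi.1 E' (fmap g a) := by
  have h := congrArg CommaMorphism.left (EtOver.bcMap_snd hi.1 g)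
  simp only [Over.comp_left] at h
  have h2 := congrArg (fun k => k.appTop.hom a) h
  simp only [Scheme.Hom.comp_appTop, CommRingCat.hom_comp, RingHom.comp_apply] at h2
  exact h2

theorem ker_bcFun {I : IdealEt X} (hZ : IsCutOutBy I i) (E : EtOver X) (hE : IsAffine E.obj.left.left)
    (a : Fn E) : a ∈ I.ideal E hE ↔ bcFun hi.1 E a = 0 := by
  obtain ⟨hi', rfl⟩ := hZ
  exact mem_idealOfRep_iff hi'.1 E hE a

/-- An object over a base change is covered by base changes of affine objects, compatibly. -/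
theorem exists_bc_affine {P : EtOver X} {W : EtOver Z} (g : W ⟶ EtOver.bcObj hi.1 P) (w : ↥W.obj.left.left) :
    ∃ (E : EtOver X) (_ : IsAffine E.obj.left.left) (c : E ⟶ P) (m : EtOver.bcObj hi.1 E ⟶ W),
      m ≫ g = EtOver.bcMap hi.1 c ∧ w ∈ Set.range m.hom.left.left := by
  let hf := hi.1
  let U := P.obj.left
  let Q := hf.pullback P.obj.hom
  let π : Q ⟶ U := hf.snd P.obj.hom
  let gl : W.obj.left ⟶ Q := g.hom.left
  have : Etale gl.left := EtOver.etale_left g
  obtain ⟨V, hm', hw'⟩ := AlgSpDec.PushEmb.liftable_of_closed hi P (Scheme.Etale.mk gl.left) w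
  obtain ⟨h, hh, hw⟩ : ∃ h : pullback V.hom π.left ⟶ W.obj.left.left,
      h ≫ gl.left = pullback.snd V.hom π.left ∧ w ∈ Set.range h := ⟨hm'.left, MorphismProperty.Over.w hm', hw'⟩
  obtain ⟨q, rfl⟩ := hw
  let E' : EtOver X := (EtOver.ofChart P.obj.hom P.property).obj V
  let t : E' ⟶ P := EtOver.homMk (EtOver.homOfEtale V) rfl
  let b : (hf.pullback E'.obj.hom) ⟶ Q := (EtOver.bcMap hf t).hom.left
  let π' : hf.pullback E'.obj.hom ⟶ EtOver.overOfEtale V := hf.snd E'.obj.hom
  have sq : IsPullback π'.left b.left V.hom π.left := (EtOver.isPullback_bcMap_left hf t).flip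
  let k := sq.isoPullback
  have hk : k.hom ≫ h ≫ gl.left = b.left := by rw [hh]; exact sq.isoPullback_hom_snd
  let m₀ : hf.pullback E'.obj.hom ⟶ W.obj.left := Over.homMk (k.hom ≫ h) (by
    show (k.hom ≫ h) ≫ W.obj.left.hom = _
    rw [← Over.w gl, ← Category.assoc, Category.assoc k.hom h, hk]
    exact Over.w b)
  have hm₀ : m₀ ≫ gl = b := Over.OverMorphism.ext ((Category.assoc _ _ _).trans hk)
  let m₁ : EtOver.bcObj hf E' ⟶ W := EtOver.homMk m₀ (by
    show (yon S).map m₀ ≫ W.obj.hom = hf.fst E'.obj.hom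
    rw [← show (yon S).map gl ≫ hf.fst P.obj.hom = W.obj.hom from EtOver.w g, ← Category.assoc,
      ← Functor.map_comp, hm₀]
    exact EtOver.map_bcMap_fst hf t)
  have hm₁ : m₁ ≫ g = EtOver.bcMap hf t := EtOver.hom_ext _ _ hm₀
  let y : ↥(hf.pullback E'.obj.hom).left := k.inv q
  obtain ⟨O, hO, hyO, -⟩ := exists_isAffineOpen_mem_and_subset (x := (hf.snd E'.obj.hom).left y)
    (U := (⊤ : E'.obj.left.left.Opens)) trivial
  let o : AlgSpDec.etOpen E' O ⟶ E' := AlgSpDec.etOpenι E' O
  refine ⟨AlgSpDec.etOpen E' O, hO, o ≫ t, EtOver.bcMap hf o ≫ m₁, ?_, ?_⟩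
  · rw [Category.assoc, hm₁]
    exact ((EtOver.bc hf).map_comp o t).symm
  · obtain ⟨z, hz⟩ : (hf.snd E'.obj.hom).left y ∈ Set.range o.hom.left.left := by
      rw [AlgSpDec.range_etOpenι]; exact hyO
    obtain ⟨y', hy', -⟩ := Scheme.exists_preimage_of_isPullback (EtOver.isPullback_bcMap_left hf o) y z hz.symm
    refine ⟨y', ?_⟩
    show m₀.left ((EtOver.bcMap hf o).hom.left.left y') = h q
    rw [hy']
    show (k.hom ≫ h) (k.inv q) = h q
    rw [← Scheme.Hom.comp_apply, k.inv_hom_id_assoc]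

include hi in
/-- The base changes of affine objects cover. -/
theorem exists_bc_affine_point (hX : IsAlgSpace X) (W : EtOver Z) (w : ↥W.obj.left.left) :
    ∃ (E : EtOver X) (_ : IsAffine E.obj.left.left) (m : EtOver.bcObj hi.1 E ⟶ W), w ∈ Set.range m.hom.left.left := by
  haveI := AlgSpDec.PushEmb.isCoverDense hi.1 (AlgSpDec.PushEmb.liftable_of_closed hi) hX
  obtain ⟨Y, g, ⟨⟨P, a, b, hab⟩⟩, y, hy⟩ := exists_arrow_of_mem _ ((EtOver.bc hi.1).is_cover_of_isCoverDense (etTop Z) W) w
  obtain ⟨E, hE, c, m, -, x, hx⟩ := exists_bc_affine hi (g := 𝟙 (EtOver.bcObj hi.1 P)) (a.hom.left.left y)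
  refine ⟨E, hE, m ≫ b, x, ?_⟩
  show b.hom.left.left (m.hom.left.left x) = w
  rw [hx, ← hy, ← hab]
  rfl

end Groth.Agent.EtQC
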