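import Groth.Agent.EtQC.StalkOpen
import Groth.Agent.EtQC.ClosedImm

/-!
# Coherent modules supported on a closed subspace are killed by a power of its ideal
-/

set_option autoImplicit false
set_option backward.isDefEq.respectTransparency false
set_option backward.isDefEq.respectTransparency.types false

universe u

set_option maxHeartbeats 1600000

open CategoryTheory CategoryTheory.Limits AlgebraicGeometry Opposite AlgSp
open Groth.Agent.AlgSpDec.EtStalkElts
open scoped TensorProduct

namespace Groth.Agent.EtQC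

variable {S : Scheme.{u}} {Z X : Sp S} {i : Z ⟶ X}

/-- An affine object through a point with a map to a chart containing its image. -/
theorem exists_affine_over_point {W E : EtOver X} (z : ↥E.obj.left.left) (w : ↥W.obj.left.left)
    (h : Points.ofPt E.obj.hom z = Points.ofPt W.obj.hom w) :
    ∃ (A : EtOver X) (g : A ⟶ E) (_ : A ⟶ W), IsAffine A.obj.left.left ∧ z ∈ Set.range g.hom.left.left := by
  let P := EtOver.prodObj E W
  obtain ⟨v, -, hv⟩ := AlgSpPts.exists_lift (W.property.1.isPullback E.obj.hom)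
    (x := Points.ofScheme W.obj.left w) (t := z) ((Points.ofPt_eq_map_ofScheme _ w).symm.trans h.symm)
  obtain ⟨O, hO, hvO, -⟩ := exists_isAffineOpen_mem_and_subset (x := v) (U := (⊤ : P.obj.left.left.Opens)) trivial
  obtain ⟨y, hy⟩ : v ∈ Set.range (AlgSpDec.etOpenι P O).hom.left.left := by
    rw [AlgSpDec.range_etOpenι]; exact hvO
  refine ⟨AlgSpDec.etOpen P O, AlgSpDec.etOpenι P O ≫ EtOver.prodFst E W,
    AlgSpDec.etOpenι P O ≫ EtOver.prodSnd E W, hO, y, ?_⟩
  show (EtOver.prodFst E W).hom.left.left ((AlgSpDec.etOpenι P O).hom.left.left y) = z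
  rw [hy]
  exact hv

theorem range_bcπ (hi : Representable i) (E : EtOver X) (w : ↥E.obj.left.left) :
    w ∈ Set.range (EtOver.bcπ hi E).left ↔ Points.ofPt E.obj.hom w ∈ Set.range (Points.map i) := by
  constructor
  · rintro ⟨v, rfl⟩
    refine ⟨Points.ofPt (EtOver.bcObj hi E).obj.hom v, ?_⟩
    rw [Points.map_ofPt, (EtOver.isPullback_bcObj hi E).w]
    exact AlgSpLib.ofPt_comp _ _ _
  · rintro ⟨x, hx⟩
    obtain ⟨v, -, hv⟩ := AlgSpPts.exists_lift (EtOver.isPullback_bcObj hi E) hx
    exact ⟨v, hv⟩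

variable {I : IdealEt X} {M : ModEt X} (hX : IsAlgSpace X)

include hX

theorem isZero_stalk_of_killed (hi : RepWith @IsClosedImmersion i) (hZ : IsCutOutBy I i) (n : ℕ)
    (hn : ∀ (E : EtOver X) (hE : IsAffine E.obj.left.left) (s : sectModEt M E), (I ^ n).ideal E hE ≤ annSect s)
    (p : FieldPt X) (hp : p.IsGeometric) (hx : Points.mk p ∉ Set.range (Points.map i)) :
    IsZero (stalkEt p ((toAbEt X).obj M)) := by
  haveI : Subsingleton ↥(stalkEt p ((toAbEt X).obj M)) := by
    refine subsingleton_of_forall_eq 0 fun z => ?_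
    obtain ⟨N, s, rfl⟩ := exists_germM hX hp M z
    haveI : IsClosedImmersion (EtOver.bcπ hi.1 N.1).left := hi.property_snd N.1.obj.hom
    let O : N.1.obj.left.left.Opens :=
      ⟨_, (EtOver.bcπ hi.1 N.1).left.isClosedEmbedding.isClosed_range.isOpen_compl⟩
    obtain ⟨N₁, g₁, e, he⟩ := exists_open p N O (by
      show base p N ∈ (Set.range (EtOver.bcπ hi.1 N.1).left)ᶜ
      rw [Set.mem_compl_iff, range_bcπ, ofPt_base]
      exact hx)
    obtain ⟨A, g₂, hA⟩ := exists_affine_nbhd hX hp N₁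
    haveI : IsEmpty ↥(EtOver.bcObj hi.1 A.1).obj.left.left := ⟨fun y => by
      obtain ⟨m, hm⟩ : (g₂ ≫ g₁).val.hom.left.left ((EtOver.bcπ hi.1 A.1).left y) ∈ Set.range O.ι :=
        ⟨e.hom (g₂.val.hom.left.left ((EtOver.bcπ hi.1 A.1).left y)), by
          rw [← Scheme.Hom.comp_apply, he]; rfl⟩
      have h1 : (g₂ ≫ g₁).val.hom.left.left ((EtOver.bcπ hi.1 A.1).left y) ∈ Set.range (EtOver.bcπ hi.1 N.1).left :=
        ⟨(EtOver.bcMap hi.1 (g₂ ≫ g₁).val).hom.left.left y,
          congrArg (fun k => k.left y) (EtOver.bcMap_snd hi.1 (g₂ ≫ g₁).val)⟩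
      exact (hm ▸ m.2 : (g₂ ≫ g₁).val.hom.left.left ((EtOver.bcπ hi.1 A.1).left y) ∈
        (Set.range (EtOver.bcπ hi.1 N.1).left)ᶜ) h1⟩
    have h1 : (1 : Fn A.1) ∈ I.ideal A.1 hA :=
      (ker_bcFun hi hZ A.1 hA 1).2 (Subsingleton.elim (α := Γ((EtOver.bcObj hi.1 A.1).obj.left.left, ⊤)) _ _)
    have h2 : (1 : Fn A.1) ∈ (I ^ n).ideal A.1 hA := by
      rw [IdealEt.pow_ideal, (Ideal.eq_top_iff_one _).2 h1, ← Ideal.one_eq_top, one_pow, Ideal.one_eq_top]
      trivial
    rw [← germM_res M (g₂ ≫ g₁) s]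
    refine (congrArg (germM M A) ?_).trans (map_zero _)
    exact (one_smul (Fn A.1) (res M (g₂ ≫ g₁).val s)).symm.trans ((mem_ann _ 1).1 (hn A.1 hA _ h2))
  exact AddCommGrpCat.isZero_of_subsingleton _

theorem le_radical_annSect (hi : RepWith @IsClosedImmersion i) (hZ : IsCutOutBy I i) (hM : BCAll M)
    (hst : ∀ x : FieldPt X, x.IsGeometric → Points.mk x ∉ Set.range (Points.map i) →
      IsZero (stalkEt x ((toAbEt X).obj M)))
    (W : EtOver X) (hW : IsAffine W.obj.left.left) (s : sectModEt M W) :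
    I.ideal W hW ≤ (annSect s : Ideal (Fn W)).radical := by
  haveI := hW
  rw [Ideal.radical_eq_sInf]
  refine le_sInf fun P hP => ?_
  haveI := hP.2
  obtain ⟨w, hw⟩ := AlgSpLib.Cartier.exists_primeAtPt_eq (U := W.obj.left.left) P
  have hann : (annSect s : Ideal (Fn W)) ≤ primeAtPt W.obj.left.left w := hw.symm ▸ hP.1
  by_cases hwZ : w ∈ Set.range (EtOver.bcπ hi.1 W).left
  · obtain ⟨v, rfl⟩ := hwZ
    intro a ha
    rw [← hw, WeakAssEtLib.primeAtPt_apply, Ideal.mem_comap]
    rw [show (EtOver.bcπ hi.1 W).left.appTop.hom a = 0 from (ker_bcFun hi hZ W hW a).1 ha]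
    exact zero_mem _
  · obtain ⟨p, hp, hpw⟩ := AlgSpDec.EtStalkProps.exists_geometric (Points.ofPt W.obj.hom w)
    obtain ⟨l, hl⟩ := AlgSpDec.EtStalkStrict.exists_nbhd hX hp W.property hpw.symm
    let N : EtNbhd p := ⟨W, l⟩
    have hz : germM M N s = 0 := @Subsingleton.elim _ (AddCommGrpCat.subsingleton_of_isZero
      (hst p hp (hpw.symm ▸ fun h => hwZ ((range_bcπ hi.1 W w).2 h)))) _ _
    obtain ⟨N', g, hg⟩ := (germM_eq_zero_iff hX hp M N s).1 hz
    obtain ⟨A, k, hA⟩ := exists_affine_nbhd hX hp N'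
    haveI := hA
    have hb : (k ≫ g).val.hom.left.left (base p A) = w := by
      refine Eq.trans ?_ hl
      show (k ≫ g).val.hom.left.left (A.2.1.left _) = N.2.1.left _
      rw [← Scheme.Hom.comp_apply]
      exact congrArg (fun c : p.pt ⟶ N.1.obj.left => c.left (IsLocalRing.closedPoint p.K))
        (congrArg Subtype.val (k ≫ g).property)
    have h0 : res M (k ≫ g).val s = 0 := by
      show res M (k.val ≫ g.val) s = 0
      rw [res_comp, hg, map_zero]
    have h1 := annSect_res_le (k ≫ g).val (hM W hW) s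
    rw [h0] at h1
    have h2 : (annSect s : Ideal (Fn W)).map (fmap (k ≫ g).val) ≤ primeAtPt A.1.obj.left.left (base p A) := by
      rw [Ideal.map_le_iff_le_comap]
      rw [← hb, WeakAssEtLib.primeAtPt_apply] at hann
      exact hann
    exact absurd ((h1.trans h2) ((mem_ann _ 1).2 (smul_zero _)))
      (fun h => (inferInstance : (primeAtPt A.1.obj.left.left (base p A)).IsPrime).ne_top ((Ideal.eq_top_iff_one _).2 h))

/-- A coherent module supported on a closed subspace is killed by a power of the ideal. -/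
theorem exists_pow_killed (hqc : IsQuasiCompactSp X) (hN : IsLocNoethSp X) (hI : I.IsQCoh)
    (hi : RepWith @IsClosedImmersion i) (hZ : IsCutOutBy I i) (hM : BCAll M) (hM' : FT M)
    (hst : ∀ x : FieldPt X, x.IsGeometric → Points.mk x ∉ Set.range (Points.map i) →
      IsZero (stalkEt x ((toAbEt X).obj M))) :
    ∃ n : ℕ, ∀ (E : EtOver X) (hE : IsAffine E.obj.left.left) (s : sectModEt M E), (I ^ n).ideal E hE ≤ annSect s := by
  classical
  obtain ⟨ι, _, W, hW, hcov⟩ := exists_finite_charts hqc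
  have hfin : ∀ t, ∃ n : ℕ, ∀ s : sectModEt M (W t), ∀ a ∈ (I.ideal (W t) (hW t)) ^ n, a • s = 0 := by
    intro t
    haveI := hW t
    haveI := isNoetherianRing_fn hN (W t)
    obtain ⟨T, hT⟩ := (hM'.finite hM (W t)).fg_top
    choose k hk using fun s : sectModEt M (W t) => Ideal.exists_pow_le_of_le_radical_of_fg
      (le_radical_annSect hX hi hZ hM hst (W t) (hW t) s) (IsNoetherian.noetherian _)
    refine ⟨T.sup k, fun s a ha => ?_⟩
    have hs : s ∈ Submodule.span (Fn (W t)) (T : Set (sectModEt M (W t))) := hT ▸ trivial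
    induction hs using Submodule.span_induction with
    | mem x hx => exact (mem_ann x a).1 (hk x (Ideal.pow_le_pow_right (Finset.le_sup hx) ha))
    | zero => exact smul_zero a
    | add x y _ _ hx hy => rw [smul_add, hx, hy, add_zero]
    | smul c x _ hx => rw [smul_comm, hx, smul_zero]
  choose n hn using hfin
  refine ⟨Finset.univ.sup n, fun E hE s a ha => (mem_ann s a).2 ?_⟩
  choose t w hw using fun z : ↥E.obj.left.left => hcov (Points.ofPt E.obj.hom z)
  choose A g q hA hz using fun z => exists_affine_over_point z (w z) (hw z).symm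
  refine ext_of_cover M A g (fun z => ⟨z, hz z⟩) fun z => ?_
  rw [map_zero, res_smul]
  haveI := hA z
  haveI := hW (t z)
  have hmem : fmap (g z) a ∈ ((I.ideal (W (t z)) (hW (t z))) ^ (n (t z))).map (fmap (q z)) := by
    have h1 : fmap (g z) a ∈ (I ^ Finset.univ.sup n).ideal (A z) (hA z) :=
      (I ^ Finset.univ.sup n).map_le (g z) hE (hA z) (Ideal.mem_map_of_mem _ ha)
    rw [IdealEt.pow_ideal] at h1
    rw [Ideal.map_pow]
    exact Ideal.pow_right_mono (hI (q z) (hW (t z)) (hA z)) _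
      (Ideal.pow_le_pow_right (Finset.le_sup (Finset.mem_univ (t z))) h1)
  letI := (fmap (q z)).toAlgebra
  obtain ⟨y, hy⟩ := (hM (W (t z)) (hW (t z)) (A z) (q z) (hA z)).2 (res M (g z) s)
  rw [← hy]
  clear hy
  refine Submodule.span_induction (p := fun b _ => b • (gam (RingHom.id (Fn (A z))) (res M (q z)) (res_smul' M (q z)) y) = 0)
    ?_ (zero_smul _ _) (fun x x' _ _ hx hx' => by rw [add_smul, hx, hx', add_zero])
    (fun c x _ hx => by rw [smul_eq_mul, mul_smul, hx, smul_zero]) hmem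
  rintro _ ⟨b, hb, rfl⟩
  induction y using TensorProduct.induction_on with
  | zero => rw [map_zero, smul_zero]
  | tmul c x =>
    rw [gam_tmul, smul_comm, ← res_smul, hn (t z) x b hb, map_zero, smul_zero]
  | add x x' hx hx' => rw [map_add, smul_add, hx, hx', add_zero]

end Groth.Agent.EtQC
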