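import Groth.Agent.EtQC.FinType
import Groth.Agent.AlgSpLib.LocP
import Mathlib.RingTheory.Finiteness.ModuleFinitePresentation

/-!
# Finitely presented modules and finite direct images
-/

set_option autoImplicit false
set_option backward.isDefEq.respectTransparency false
set_option backward.isDefEq.respectTransparency.types false

universe u v

set_option maxHeartbeats 1600000

open CategoryTheory CategoryTheory.Limits AlgebraicGeometry Opposite AlgSp
open scoped TensorProduct

namespace Groth.Agent.EtQC

/-- Finite generation descends along a flat covering. -/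
theorem finite_of_forall_flat {A : Type u} [CommRing A] {ι : Type} [Finite ι] (B : ι → Type u)
    [∀ i, CommRing (B i)] [∀ i, Algebra A (B i)] [∀ i, Module.Flat A (B i)]
    (hcov : ∀ p : Ideal A, p.IsPrime → ∃ i, ∃ q : Ideal (B i), q.IsPrime ∧ q.comap (algebraMap A (B i)) = p)
    (K : Type v) [AddCommGroup K] [Module A K] (h : ∀ i, Module.Finite (B i) (B i ⊗[A] K)) : Module.Finite A K := by
  classical
  have hpure : ∀ i (z : B i ⊗[A] K), ∃ N : Submodule A K, N.FG ∧ z ∈ LinearMap.range (N.subtype.baseChange (B i)) := by
    intro i z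
    induction z using TensorProduct.induction_on with
    | zero => exact ⟨⊥, Submodule.fg_bot, zero_mem _⟩
    | tmul b s => exact ⟨Submodule.span A {s}, Submodule.fg_span_singleton s,
        b ⊗ₜ ⟨s, Submodule.mem_span_singleton_self s⟩, rfl⟩
    | add x y hx hy =>
      obtain ⟨N, hN, a, ha⟩ := hx
      obtain ⟨N', hN', b, hb⟩ := hy
      refine ⟨N ⊔ N', hN.sup hN', (Submodule.inclusion le_sup_left).baseChange _ a +
        (Submodule.inclusion le_sup_right).baseChange _ b, ?_⟩
      rw [map_add, ← LinearMap.comp_apply, ← LinearMap.comp_apply (f := (N ⊔ N').subtype.baseChange _),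
        ← LinearMap.baseChange_comp, ← LinearMap.baseChange_comp, Submodule.subtype_comp_inclusion,
        Submodule.subtype_comp_inclusion, ha, hb]
  choose N hN hmem using hpure
  choose T hT using fun i => (h i).fg_top
  let R : Submodule A K := ⨆ x : Σ i, T i, N x.1 x.2.1
  have hR : ∀ i, LinearMap.range (R.subtype.baseChange (B i)) = ⊤ := fun i => by
    rw [eq_top_iff, ← hT i, Submodule.span_le]
    intro z hz
    obtain ⟨a, ha⟩ := hmem i z
    refine ⟨(Submodule.inclusion (le_iSup (fun x : Σ i, T i => N x.1 x.2.1) ⟨i, z, hz⟩)).baseChange (B i) a, ?_⟩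
    rw [← LinearMap.comp_apply, ← LinearMap.baseChange_comp, Submodule.subtype_comp_inclusion]
    exact ha
  refine ⟨?_⟩
  have : R = ⊤ := by
    refine eq_top_iff.2 fun s _ => ?_
    have hs : s ∈ LinearMap.range R.subtype := mem_range_of_forall_flat B hcov _ s fun i => by
      obtain ⟨a, ha⟩ : (1 : B i) ⊗ₜ[A] s ∈ LinearMap.range (R.subtype.baseChange (B i)) := hR i ▸ trivial
      exact ⟨a, ha⟩
    rwa [Submodule.range_subtype] at hs
  exact this ▸ Submodule.fg_iSup _ fun x => hN _ _

/-- Finite presentation descends along a flat covering. -/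
theorem finitePresentation_of_forall_flat {A : Type u} [CommRing A] {ι : Type} [Finite ι] (B : ι → Type u)
    [∀ i, CommRing (B i)] [∀ i, Algebra A (B i)] [∀ i, Module.Flat A (B i)]
    (hcov : ∀ p : Ideal A, p.IsPrime → ∃ i, ∃ q : Ideal (B i), q.IsPrime ∧ q.comap (algebraMap A (B i)) = p)
    (N : Type v) [AddCommGroup N] [Module A N] (h : ∀ i, Module.FinitePresentation (B i) (B i ⊗[A] N)) :
    Module.FinitePresentation A N := by
  haveI : Module.Finite A N := finite_of_forall_flat B hcov N fun i => haveI := h i; inferInstance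
  obtain ⟨n, f, hf⟩ := Module.Finite.exists_fin' A N
  haveI : Module.Finite A (LinearMap.ker f) := finite_of_forall_flat B hcov _ fun i => by
    haveI := h i
    let f' : B i ⊗[A] (Fin n → A) →ₗ[B i] B i ⊗[A] N := f.baseChange (B i)
    have hf' : Function.Surjective f' := LinearMap.lTensor_surjective (B i) hf
    haveI : Module.Finite (B i) (LinearMap.ker f') := Module.Finite.of_fg (Module.FinitePresentation.fg_ker f' hf')
    have hex : Function.Exact ((LinearMap.ker f).subtype.baseChange (B i)) f' :=
      lTensor_exact (B i) f.exact_subtype_ker_map hf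
    have hinj : Function.Injective ((LinearMap.ker f).subtype.baseChange (B i)) :=
      Module.Flat.lTensor_preserves_injective_linearMap (LinearMap.ker f).subtype Subtype.val_injective
    exact Module.Finite.equiv ((LinearEquiv.ofEq _ _ (LinearMap.exact_iff.1 hex)).trans
      (LinearEquiv.ofInjective _ hinj).symm)
  exact Module.finitePresentation_of_surjective f hf (Module.Finite.iff_fg.1 inferInstance)

/-- A module finitely presented over a base is finitely presented over a finite algebra. -/
theorem fp_of_restrictScalars (A : Type u) [CommRing A] {B : Type u} [CommRing B] [Algebra A B]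
    (hB : Module.Finite A B) (N : Type v) [AddCommGroup N] [Module A N] [Module B N] [IsScalarTower A B N]
    [Module.FinitePresentation A N] : Module.FinitePresentation B N := by
  haveI := hB
  haveI : Module.Finite B N := Module.Finite.of_restrictScalars_finite A B N
  obtain ⟨n, f, hf⟩ := Module.Finite.exists_fin' B N
  refine Module.finitePresentation_of_surjective f hf ?_
  have h := Module.FinitePresentation.fg_ker (f.restrictScalars A) (by exact hf)
  rw [LinearMap.ker_restrictScalars] at h
  exact Submodule.FG.of_restrictScalars A h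

section Map

universe w v₁ v₂ u₁ u₂

variable {C : Type u₁} [Category.{v₁} C] {J : GrothendieckTopology C} {R : Sheaf J RingCat.{w}}
  [HasSheafify J AddCommGrpCat.{w}] [J.WEqualsLocallyBijective AddCommGrpCat.{w}]
  {C' : Type u₂} [Category.{v₂} C'] {J' : GrothendieckTopology C'} {T : Sheaf J' RingCat.{w}}
  [HasSheafify J' AddCommGrpCat.{w}] [J'.WEqualsLocallyBijective AddCommGrpCat.{w}]

/-- Images of finite presentations are finite. -/
theorem exists_finite_map {M : SheafOfModules.{w} R} (p : M.Presentation) [p.IsFinite]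
    (F : SheafOfModules.{w} R ⥤ SheafOfModules.{w} T) [PreservesColimitsOfSize.{w, w} F]
    (η : SheafOfModules.unit T ≅ F.obj (SheafOfModules.unit R)) {N : SheafOfModules.{w} T} (e : F.obj M ⟶ N)
    [IsIso e] : ∃ q : N.Presentation, Finite q.generators.I ∧ Finite q.relations.I := by
  haveI : Finite p.generators.I := SheafOfModules.GeneratingSections.IsFiniteType.finite
  haveI : Finite p.relations.I := SheafOfModules.GeneratingSections.IsFiniteType.finite
  exact ⟨(p.map F η).ofIsIso e, inferInstanceAs (Finite p.generators.I), inferInstanceAs (Finite p.relations.I)⟩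

end Map

variable {S : Scheme.{u}} {X Y : Sp S}

theorem finitePresentation_of_locPres {M : ModEt X} {E : EtOver X} [IsAffine E.obj.left.left] (P : LocPres M E)
    [Finite P.I] [Finite P.K] : Module.FinitePresentation (Fn E) (sectModEt M E) := by
  have hR : P.R.FG := Submodule.fg_span (Set.finite_range _)
  haveI : Module.FinitePresentation (Fn E) P.N :=
    Module.finitePresentation_of_surjective P.R.mkQ P.R.mkQ_surjective (by rwa [Submodule.ker_mkQ])
  have hφ : Function.Bijective P.φ := by
    have h := P.θ_bijective (𝟙 E)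
    letI := (fmap (𝟙 E)).toAlgebra
    have hf : ∀ a : Fn E, fmap (𝟙 E) a = a := fun a => rfl
    have e : ∀ x : Fn E ⊗[Fn E] P.N, ∃ n, x = (1 : Fn E) ⊗ₜ[Fn E] n := by
      intro x
      induction x using TensorProduct.induction_on with
      | zero => exact ⟨0, (TensorProduct.tmul_zero _ _).symm⟩
      | add x y hx hy =>
        obtain ⟨a, rfl⟩ := hx
        obtain ⟨b, rfl⟩ := hy
        exact ⟨a + b, (TensorProduct.tmul_add _ _ _).symm⟩
      | tmul b n =>
        refine ⟨b • n, ?_⟩
        rw [← TensorProduct.smul_tmul, Algebra.smul_def, mul_one]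
        exact congrArg (fun c => c ⊗ₜ[Fn E] n) (hf b).symm
    have h1 : ∀ n, P.θ (𝟙 E) ((1 : Fn E) ⊗ₜ[Fn E] n) = P.φ n := fun n => by
      show RingHom.id _ (1 : Fn E) • res M (𝟙 E) (P.φ n) = P.φ n
      rw [RingHom.id_apply, one_smul, res_id]
    refine ⟨(injective_iff_map_eq_zero P.φ).2 fun n hn => ?_, fun s => ?_⟩
    · have h2 : (1 : Fn E) ⊗ₜ[Fn E] n = 0 := h.1 (by rw [h1, hn, map_zero])
      let L : Fn E ⊗[Fn E] P.N →+ P.N :=
        gam (RingHom.id (Fn E)) (AddMonoidHom.id P.N) fun a m => by
          show a • m = fmap (𝟙 E) a • m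
          rw [hf]
      have h3 := congrArg L h2
      rw [map_zero] at h3
      simpa [L, gam_tmul] using h3
    · obtain ⟨x, rfl⟩ := h.2 s
      obtain ⟨n, rfl⟩ := e x
      exact ⟨n, (h1 n).symm⟩
  exact Module.FinitePresentation.of_equiv (LinearEquiv.ofBijective P.φ hφ)

/-- Restricting a finite presentation. -/
theorem exists_finite_presentation_over (M : ModEt X) {V W : EtOver X} (a : V ⟶ W) (p : (M.over W).Presentation)
    [p.IsFinite] : ∃ q : (M.over V).Presentation, Finite q.generators.I ∧ Finite q.relations.I :=
  exists_finite_map p (SheafOfModules.overMap.{u + 1} (OEtRing X) a)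
    (SheafOfModules.overMapUnitIso (R := OEtRing X) a).symm
    ((SheafOfModules.overFunctorMap (OEtRing X) a).app M).hom

/-- A finitely presented module has finitely presented sections on affine objects. -/
theorem finitePresentation_sections (M : ModEt X) [hM : M.IsFinitePresentation] (E : EtOver X)
    [IsAffine E.obj.left.left] : Module.FinitePresentation (Fn E) (sectModEt M E) := by
  obtain ⟨q, hq⟩ := SheafOfModules.IsFinitePresentation.exists_quasicoherentData M
  obtain ⟨n, V, h, hV, hR, hc⟩ := exists_affine_refinement (q.coversTop E)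
  haveI := hV
  letI : ∀ i, Algebra (Fn E) (Fn (V i)) := fun i => (fmap (h i)).toAlgebra
  haveI : ∀ i, Module.Flat (Fn E) (Fn (V i)) := fun i => flat_fmap (h i)
  refine finitePresentation_of_forall_flat (fun i => Fn (V i))
    (fun p hp => LocPres.exists_prime_over V h hc p hp) _ fun i => ?_
  obtain ⟨j, ⟨a⟩⟩ := hR i
  haveI := hV i
  haveI := hq.isFinite_presentation j
  obtain ⟨p, hpI, hpK⟩ := exists_finite_presentation_over M a (q.presentation j)
  obtain ⟨P, hI, hK⟩ := exists_locPres' p
  haveI : Finite P.I := hI ▸ hpI
  haveI : Finite P.K := hK ▸ hpK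
  haveI := finitePresentation_of_locPres P
  exact Module.FinitePresentation.of_equiv (bcEquiv M (h i)).symm

variable {f : X ⟶ Y}

/-- Finite presentation along finite morphisms of finite presentation. -/
theorem isFinitePresentation_iff_push (hY : IsAlgSpace Y) (hf : Representable f) (hfin : IsFiniteMor f)
    (hfp : IsFinitePresentationMor f) (M : ModEt X)
    [M.IsQuasicoherent] : M.IsFinitePresentation ↔ ((pushModEt hf).obj M).IsFinitePresentation := by
  have haff := isAffineMor_of_finite hfin
  have hM := bcAll_of_isQuasicoherent M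
  have hP := bcAll_push hf haff hM
  have halg : ∀ (E : EtOver Y), IsAffine E.obj.left.left →
      letI := (bcFun hf E).toAlgebra
      Module.FinitePresentation (Fn E) (Fn (EtOver.bcObj hf E)) ∧ Module.Finite (Fn E) (Fn (EtOver.bcObj hf E)) := by
    intro E hE
    haveI := hE
    haveI := WeakAssEtLib.isAffine_bcObj hf haff E hE
    haveI := isFinite_bcπ hf hfin E
    haveI : LocallyOfFinitePresentation (EtOver.bcπ hf E).left :=
      (AlgSpLib.repWith_of_locP hY hf hfp.1).2 E.obj.hom _ _ (EtOver.isPullback_bcObj hf E)
    letI : Algebra (Fn E) (Fn (EtOver.bcObj hf E)) := (bcFun hf E).toAlgebra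
    haveI : Module.Finite (Fn E) (Fn (EtOver.bcObj hf E)) :=
      RingHom.finite_algebraMap.1 ((HasAffineProperty.iff_of_isAffine (P := @IsFinite)).1 ‹_›).2
    haveI : Algebra.FinitePresentation (Fn E) (Fn (EtOver.bcObj hf E)) :=
      RingHom.finitePresentation_algebraMap.1
        ((HasRingHomProperty.iff_of_isAffine (P := @LocallyOfFinitePresentation)).1 ‹_›)
    exact ⟨Module.FinitePresentation.of_finite_of_finitePresentation _ _, inferInstance⟩
  refine ⟨fun _ => isFinitePresentation_of_bc fun E hE => ?_, fun _ => isFinitePresentation_of_bc fun W hW => ?_⟩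
  · haveI := hE
    refine cover_self (fun V => IsAffine V.obj.left.left ∧ BC ((pushModEt hf).obj M) V ∧
      Module.FinitePresentation (Fn V) (sectModEt ((pushModEt hf).obj M) V)) ⟨hE, hP E hE, ?_⟩
    haveI := WeakAssEtLib.isAffine_bcObj hf haff E hE
    letI : Algebra (Fn E) (Fn (EtOver.bcObj hf E)) := (bcFun hf E).toAlgebra
    letI : Module (Fn E) (sectModEt M (EtOver.bcObj hf E)) := Module.compHom _ (bcFun hf E)
    haveI : IsScalarTower (Fn E) (Fn (EtOver.bcObj hf E)) (sectModEt M (EtOver.bcObj hf E)) :=
      IsScalarTower.of_algebraMap_smul fun _ _ => rfl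
    haveI := (halg E hE).1
    haveI := finitePresentation_sections M (EtOver.bcObj hf E)
    exact (Module.FinitePresentation.trans (Fn E) (sectModEt M (EtOver.bcObj hf E)) (Fn (EtOver.bcObj hf E)) :)
  · haveI := hW
    refine exists_cover_bc hY hf haff (fun Q => IsAffine Q.obj.left.left ∧ BC M Q ∧
      Module.FinitePresentation (Fn Q) (sectModEt M Q)) (fun Q E q hQ hE hB => ⟨hQ, hM Q hQ, ?_⟩) W
    haveI := hE
    haveI := hQ
    haveI := hB
    letI : Algebra (Fn E) (Fn (EtOver.bcObj hf E)) := (bcFun hf E).toAlgebra
    letI : Module (Fn E) (sectModEt M (EtOver.bcObj hf E)) := Module.compHom _ (bcFun hf E)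
    haveI : IsScalarTower (Fn E) (Fn (EtOver.bcObj hf E)) (sectModEt M (EtOver.bcObj hf E)) :=
      IsScalarTower.of_algebraMap_smul fun _ _ => rfl
    haveI : Module.FinitePresentation (Fn E) (sectModEt M (EtOver.bcObj hf E)) :=
      (finitePresentation_sections ((pushModEt hf).obj M) E :)
    haveI : Module.FinitePresentation (Fn (EtOver.bcObj hf E)) (sectModEt M (EtOver.bcObj hf E)) :=
      fp_of_restrictScalars (Fn E) (halg E hE).2 _
    letI : Algebra (Fn (EtOver.bcObj hf E)) (Fn Q) := (fmap q).toAlgebra
    exact Module.FinitePresentation.of_equiv (bcEquiv M q)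

end Groth.Agent.EtQC
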