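import Groth.Agent.EtQC.Push

/-!
# Chains of quasi-coherent submodules
-/

set_option autoImplicit false
set_option backward.isDefEq.respectTransparency false
set_option backward.isDefEq.respectTransparency.types false

universe u

set_option maxHeartbeats 1600000

open CategoryTheory CategoryTheory.Limits AlgebraicGeometry Opposite AlgSp

namespace Groth.Agent.EtQC

variable {S : Scheme.{u}} {X : Sp S}

/-- Finitely many affine charts cover a quasi-compact space. -/
theorem exists_finite_charts (hqc : IsQuasiCompactSp X) :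
    ∃ (ι : Type u) (_ : Fintype ι) (E : ι → EtOver X), (∀ t, IsAffine (E t).obj.left.left) ∧
      ∀ x : Points X, ∃ t, x ∈ Set.range (Points.ofPt (E t).obj.hom) := by
  obtain ⟨U, p, hpe, hps, hcpt⟩ := hqc
  haveI := hcpt
  choose O hO hxO _ using fun x : ↥U.left =>
    exists_isAffineOpen_mem_and_subset (x := x) (U := (⊤ : U.left.Opens)) trivial
  obtain ⟨T, hT⟩ := isCompact_univ.elim_finite_subcover (fun x => (O x : Set ↥U.left))
    (fun x => (O x).isOpen) fun x _ => Set.mem_iUnion.2 ⟨x, hxO x⟩
  refine ⟨T, inferInstance, fun t => AlgSpDec.etOpen (EtOver.mk p hpe) (O t.1), fun t => hO t.1, fun x => ?_⟩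
  obtain ⟨v, hv⟩ := AlgSpLib.surjective_ofPt hps x
  obtain ⟨y, hyT, hy⟩ := Set.mem_iUnion₂.1 (hT (Set.mem_univ v))
  exact ⟨⟨y, hyT⟩, ⟨v, hy⟩, (AlgSpLib.ofPt_comp _ p _).trans hv⟩

/-- A quasi-coherent module with no sections on charts covering the space is zero. -/
theorem isZero_of_charts (Q : ModEt X) [Q.IsQuasicoherent] {ι : Type*} (E : ι → EtOver X)
    (hE : ∀ t, IsAffine (E t).obj.left.left) (hcov : ∀ x : Points X, ∃ t, x ∈ Set.range (Points.ofPt (E t).obj.hom))
    (h : ∀ t (s : sectModEt Q (E t)), s = 0) : IsZero Q := by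
  rw [WeakAssEtLib.isZero_iff, Set.eq_empty_iff_forall_notMem]
  intro x hx
  obtain ⟨t, w, hw⟩ := hcov x
  haveI := hE t
  obtain ⟨s, hs⟩ := (mem_weakAssEt_iff Q (E t) w).1 (hw.symm ▸ hx)
  refine hs.1.1.ne_top ((Ideal.eq_top_iff_one _).2 (hs.1.2 ?_))
  rw [mem_annSect_iff, h t s, smul_zero]

/-- A monomorphism of quasi-coherent modules surjective on sections over a chart family is an isomorphism. -/
theorem isIso_of_charts {A B : ModEt X} (ι : A ⟶ B) [Mono ι] (hA : BCAll A) (hB : BCAll B) {τ : Type*}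
    (E : τ → EtOver X) (hE : ∀ t, IsAffine (E t).obj.left.left)
    (hcov : ∀ x : Points X, ∃ t, x ∈ Set.range (Points.ofPt (E t).obj.hom))
    (h : ∀ t, Function.Surjective (app ι (E t))) : IsIso ι := by
  have hQ : BCAll (cokernel ι) := bcAll_cokernel ι hA hB
  haveI := hQ.isQuasicoherent
  have hK : BCAll (kernel (cokernel.π ι)) := bcAll_kernel _ hB hQ
  have hz : IsZero (cokernel ι) := isZero_of_charts _ E hE hcov fun t s => by
    haveI := hE t
    have hT := shortExact_kernel (cokernel.π ι)
    haveI := hT.mono_f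
    haveI := hT.epi_g
    obtain ⟨y, hy⟩ := app_surjective (T := ShortComplex.mk (kernel.ι (cokernel.π ι)) (cokernel.π ι)
      (kernel.condition _)) hT.exact hK s
    obtain ⟨x, hx⟩ := h t y
    have h0 : app (ι ≫ cokernel.π ι) (E t) x = 0 := by rw [cokernel.condition]; rfl
    rw [← hy, ← hx]
    exact h0
  haveI : Epi ι := Abelian.epi_of_cokernel_π_eq_zero _ (hz.eq_of_tgt _ _)
  exact isIso_of_mono_of_epi ι

theorem eq_of_range_le {M : ModEt X} {P R : Subobject M} (hle : P ≤ R)
    (hP : BCAll (Subobject.underlying.obj P)) (hR : BCAll (Subobject.underlying.obj R)) {τ : Type*}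
    (E : τ → EtOver X) (hE : ∀ t, IsAffine (E t).obj.left.left)
    (hcov : ∀ x : Points X, ∃ t, x ∈ Set.range (Points.ofPt (E t).obj.hom))
    (h : ∀ t, LinearMap.range (app R.arrow (E t)) ≤ LinearMap.range (app P.arrow (E t))) : R = P := by
  haveI := isIso_of_charts (Subobject.ofLE P R hle) hP hR E hE hcov fun t y => by
    obtain ⟨x, hx⟩ := h t ⟨y, rfl⟩
    refine ⟨x, app_injective R.arrow (E t) ?_⟩
    rw [← hx]
    exact congrArg (fun φ => app φ (E t) x) (Subobject.ofLE_arrow hle)
  exact (Subobject.eq_of_comm (asIso (Subobject.ofLE P R hle)) (Subobject.ofLE_arrow hle)).symm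

/-- Chains of quasi-coherent submodules of a coherent module are stationary. -/
theorem exists_stationary (hqc : IsQuasiCompactSp X) (hN : IsLocNoethSp X) {M : ModEt X} (hM : BCAll M)
    (hft : FT M) (N : ℕ →o Subobject M) (hq : ∀ n, BCAll (Subobject.underlying.obj (N n))) :
    ∃ n, ∀ m, n ≤ m → N m = N n := by
  obtain ⟨T, _, E, hE, hcov⟩ := exists_finite_charts hqc
  let sub : ∀ t, ℕ →o Submodule (Fn (E t)) (sectModEt M (E t)) := fun t =>
    { toFun := fun n => LinearMap.range (app (N n).arrow (E t))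
      monotone' := fun a b hab => by
        rintro _ ⟨y, rfl⟩
        refine ⟨app (Subobject.ofLE _ _ (N.monotone hab)) (E t) y, ?_⟩
        exact congrArg (fun φ => app φ (E t) y) (Subobject.ofLE_arrow (N.monotone hab)) }
  choose st hst using fun t =>
    haveI := hE t
    haveI := hft.finite hM (E t)
    haveI := isNoetherianRing_fn hN (E t)
    monotone_stabilizes_iff_noetherian.2 inferInstance (sub t)
  refine ⟨Finset.univ.sup st, fun m hm => eq_of_range_le (N.monotone hm) (hq _) (hq _) E hE hcov fun t => ?_⟩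
  have h1 : st t ≤ Finset.univ.sup st := Finset.le_sup (Finset.mem_univ t)
  exact ((hst t m (h1.trans hm)).symm.trans (hst t _ h1)).le

end Groth.Agent.EtQC
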