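import Groth.Agent.EtQC.HullFT

/-!
# The system of coherent submodules of a quasi-coherent module on a Noetherian space
-/

set_option autoImplicit false
set_option backward.isDefEq.respectTransparency false
set_option backward.isDefEq.respectTransparency.types false

universe u

set_option maxHeartbeats 1600000

open CategoryTheory CategoryTheory.Limits AlgebraicGeometry Opposite AlgSp
open scoped TensorProduct

namespace Groth.Agent.EtQC

variable {S : Scheme.{u}} [QuasiSeparatedSpace ↥S] {X : Sp S} (hqs : IsQuasiSeparatedSp X) (hN : IsLocNoethSp X)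
  {M : ModEt X} (hM : BCAll M) {V : EtOver X} [IsAffine V.obj.left.left] (hV : RepWith @Surjective V.obj.hom)

include hM in
theorem hull_le (N₀ : Submodule (Fn V) (sectModEt M V)) : (hull hM N₀).P V ‹_› ≤ N₀ := fun s hs => by
  have h := hs V ‹_› (𝟙 V) (𝟙 V)
  have e : res M (𝟙 V) '' (N₀ : Set (sectModEt M V)) = N₀ := by
    ext x
    simp [res_id]
  rw [res_id, e, Submodule.span_eq] at h
  exact h

include hqs hN hM hV in
/-- The hull of finitely many sections is coherent. -/
theorem hull_fp (N₀ : Submodule (Fn V) (sectModEt M V)) (hfg : N₀.FG) :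
    (hull hM N₀).mod.IsFinitePresentation := by
  have hG := hull_bcAll hM N₀ hqs
  refine isFinitePresentation_of_ft hN hG fun W hW => ?_
  haveI := hW
  haveI := isNoetherianRing_fn hN V
  haveI : Module.Finite (Fn V) N₀ := Module.Finite.iff_fg.2 hfg
  haveI : Module.Finite (Fn V) (sectModEt (hull hM N₀).mod V) :=
    Module.Finite.of_injective ((app (hull hM N₀).ι V).codRestrict N₀ fun s =>
      hull_le hM N₀ ((Set.ext_iff.1 ((hull hM N₀).range_ι V ‹_›) _).1 ⟨s, rfl⟩))
      fun x y h => app_injective (hull hM N₀).ι V (congrArg (Subtype.val) h : _)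
  obtain ⟨n, P, a, b, hP, -, hc⟩ := exists_pieces V hqs W
  exact ⟨n, P, a, fun i => ⟨hP i, haveI := hP i; finite_of_hom (b i) (hG V ‹_›)⟩, hc hV⟩

include hqs hM in
/-- Every section lies in the hull of finitely many sections. -/
theorem exists_hull_mem (W : EtOver X) [IsAffine W.obj.left.left] (s : sectModEt M W) :
    ∃ T : Finset (sectModEt M V), ∀ N₀ : Submodule (Fn V) (sectModEt M V), (↑T : Set (sectModEt M V)) ⊆ N₀ →
      s ∈ (hull hM N₀).P W ‹_› := by
  classical
  obtain ⟨n, P, a, b, hP, hp, -⟩ := exists_pieces V hqs W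
  have key : ∀ i, ∃ T : Finset (sectModEt M V),
      res M (a i) s ∈ Submodule.span (Fn (P i)) (res M (b i) '' (T : Set (sectModEt M V))) := fun i => by
    letI := (fmap (b i)).toAlgebra
    obtain ⟨z, hz⟩ := (hM V ‹_› (P i) (b i) (hP i)).2 (res M (a i) s)
    rw [← hz]
    clear hz
    induction z using TensorProduct.induction_on with
    | zero => exact ⟨∅, by simp⟩
    | add x y hx hy =>
      obtain ⟨T, hT⟩ := hx
      obtain ⟨T', hT'⟩ := hy
      refine ⟨T ∪ T', ?_⟩
      rw [map_add]
      exact add_mem (Submodule.span_mono (Set.image_mono (by simp)) hT)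
        (Submodule.span_mono (Set.image_mono (by simp)) hT')
    | tmul c m =>
      refine ⟨{m}, ?_⟩
      rw [gam_tmul]
      exact Submodule.smul_mem _ _ (Submodule.subset_span ⟨m, by simp, rfl⟩)
  choose T hT using key
  refine ⟨Finset.univ.biUnion T, fun N₀ hN₀ => mem_hull_of_pieces hM N₀ hp fun i =>
    Submodule.span_mono (Set.image_mono fun x hx => hN₀ ?_) (hT i)⟩
  exact Finset.mem_coe.2 (Finset.mem_biUnion.2 ⟨i, Finset.mem_univ _, hx⟩)

include hM in
/-- A morphism factors through the hull of its values on the atlas. -/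
theorem exists_factor_hull {H : ModEt X} (hH : BCAll H) (φ : H ⟶ M) (N₀ : Submodule (Fn V) (sectModEt M V))
    (h : ∀ t, app φ V t ∈ N₀) : ∃ ψ : H ⟶ (hull hM N₀).mod, ψ ≫ (hull hM N₀).ι = φ := by
  refine exists_factor (hull hM N₀).ι φ fun W hW t => (Set.ext_iff.1 ((hull hM N₀).range_ι W hW) _).2 ?_
  intro T hT a b
  letI := (fmap b).toAlgebra
  obtain ⟨z, hz⟩ := (hH V ‹_› T b hT).2 (res H a t)
  rw [← app_res, ← hz]
  clear hz
  induction z using TensorProduct.induction_on with
  | zero => simp
  | add x y hx hy => rw [map_add, map_add]; exact add_mem hx hy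
  | tmul c m =>
    rw [gam_tmul, RingHom.id_apply, map_smul, app_res]
    exact Submodule.smul_mem _ _ (Submodule.subset_span ⟨_, h m, rfl⟩)

section Colim

variable {J : Type*} [Category J] [IsFiltered J] (D : J ⥤ ModEt X) (ι : D ⟶ (Functor.const J).obj M)
  [hmono : ∀ j, Mono (ι.app j)]
  (hex : ∀ (W : EtOver X), IsAffine W.obj.left.left → ∀ s : sectModEt M W, ∃ j t, app (ι.app j) W t = s)

omit [QuasiSeparatedSpace ↥S] in
theorem app_comp' {A B C : ModEt X} (f : A ⟶ B) (g : B ⟶ C) (W : EtOver X) (t : sectModEt A W) :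
    app (f ≫ g) W t = app g W (app f W t) := rfl

/-- The legs of a cocone. -/
def cleg {J : Type*} [Category J] {D : J ⥤ ModEt X} (c : Cocone D) (j : J) : D.obj j ⟶ c.pt := c.ι.app j

omit [QuasiSeparatedSpace ↥S] in
theorem cleg_w {J : Type*} [Category J] {D : J ⥤ ModEt X} (c : Cocone D) {j k : J} (f : j ⟶ k) :
    D.map f ≫ cleg c k = cleg c j := c.w f

omit [QuasiSeparatedSpace ↥S] in
include hex in
/-- A directed system of submodules reaching all sections on affine objects has the module as its colimit. -/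
theorem isColimit_of_union : Nonempty (IsColimit (Cocone.mk M ι)) := by
  classical
  let c₀ : Cocone D := Cocone.mk M ι
  haveI : ∀ j, Mono (cleg c₀ j) := hmono
  have hex' : ∀ (W : EtOver X), IsAffine W.obj.left.left → ∀ s : sectModEt M W,
      ∃ j t, app (cleg c₀ j) W t = s := hex
  have leg : ∀ (c : Cocone D) (W : EtOver X) (j j' : J) (t : sectModEt (D.obj j) W) (t' : sectModEt (D.obj j') W),
      app (cleg c₀ j) W t = app (cleg c₀ j') W t' → app (cleg c j) W t = app (cleg c j') W t' := by
    intro c W j j' t t' h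
    let k := IsFiltered.max j j'
    let f := IsFiltered.leftToMax j j'
    let f' := IsFiltered.rightToMax j j'
    have e : app (D.map f) W t = app (D.map f') W t' := app_injective (cleg c₀ k) W (by
      rw [← app_comp', ← app_comp', cleg_w c₀ f,
        cleg_w c₀ f', h])
    rw [← cleg_w c f, ← cleg_w c f', app_comp', app_comp', e]
  -- the map out of the module
  have desc : ∀ (c : Cocone D) (E : EtOver X) (s : sectModEt M E), ∃ r : sectModEt c.pt E,
      ∀ (W : EtOver X) (g : W ⟶ E) (j : J) (t : sectModEt (D.obj j) W),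
        app (cleg c₀ j) W t = res M g s → res c.pt g r = app (cleg c j) W t := by
    intro c E s
    let R : Sieve E :=
      { arrows := fun W g => ∃ j t, app (cleg c₀ j) W t = res M g s
        downward_closed := fun {W W'} g hg l => by
          obtain ⟨j, t, ht⟩ := hg
          exact ⟨j, res (D.obj j) l t, by rw [app_res, ht, res_comp]⟩ }
    have hR : R ∈ etTop X E := by
      choose O hO hxO using fun x : ↥E.obj.left.left =>
        exists_isAffineOpen_mem_and_subset (x := x) (U := (⊤ : E.obj.left.left.Opens)) trivial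
      refine (etTop X).superset_covering ?_ (AlgSpDec.ofArrows_mem_etTop (fun x => AlgSpDec.etOpen E (O x))
        (fun x => AlgSpDec.etOpenι E (O x)) fun x => ⟨x, by rw [AlgSpDec.range_etOpenι]; exact (hxO x).1⟩)
      intro W g hg
      obtain ⟨x, l, rfl⟩ := (Sieve.mem_ofArrows_iff _ _ _).1 hg
      refine R.downward_closed ?_ l
      exact hex' (AlgSpDec.etOpen E (O x)) (hO x) _
    choose j t ht using fun (W : EtOver X) (g : W ⟶ E) (hg : R g) => hg
    have hsh := (isSheaf_iff_isSheaf_of_type _ _).1
      ((Presheaf.isSheaf_iff_isSheaf_forget (etTop X) c.pt.val.presheaf (forget AddCommGrpCat.{u + 1})).1 c.pt.isSheaf)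
    obtain ⟨r, hr, -⟩ := hsh R hR (fun W g hg => app (cleg c (j W g hg)) W (t W g hg)) (by
      intro Y₁ Y₂ Z g₁ g₂ f₁ f₂ h₁ h₂ hw
      show res c.pt g₁ (app (cleg c _) Y₁ _) = res c.pt g₂ (app (cleg c _) Y₂ _)
      rw [← app_res, ← app_res]
      refine leg c Z _ _ _ _ ?_
      rw [app_res, app_res, ht, ht, ← res_comp, ← res_comp, hw])
    refine ⟨r, fun W g k u hu => ?_⟩
    have hg : R g := ⟨k, u, hu⟩
    rw [show res c.pt g r = _ from hr g hg]
    exact leg c W _ _ _ _ ((ht W g hg).trans hu.symm)
  choose r hr using desc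
  have sep : ∀ (c : Cocone D) (E : EtOver X) (x y : sectModEt c.pt E),
      (∀ (W : EtOver X) (g : W ⟶ E) (j : J), IsAffine W.obj.left.left → res c.pt g x = res c.pt g y) → x = y :=
    fun c E x y h => by
      choose O hO hxO using fun z : ↥E.obj.left.left =>
        exists_isAffineOpen_mem_and_subset (x := z) (U := (⊤ : E.obj.left.left.Opens)) trivial
      exact ext_of_cover c.pt (fun z => AlgSpDec.etOpen E (O z)) (fun z => AlgSpDec.etOpenι E (O z))
        (fun z => ⟨z, by rw [AlgSpDec.range_etOpenι]; exact (hxO z).1⟩)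
        fun z => h _ _ (IsFiltered.nonempty (C := J)).some (hO z)
  have radd : ∀ c E s s', r c E (s + s') = r c E s + r c E s' := fun c E s s' => sep c E _ _ fun W g _ hW => by
    obtain ⟨j, t, ht⟩ := hex' W hW (res M g s)
    obtain ⟨j', t', ht'⟩ := hex' W hW (res M g s')
    let k := IsFiltered.max j j'
    let f := IsFiltered.leftToMax j j'
    let f' := IsFiltered.rightToMax j j'
    have e : app (cleg c₀ k) W (app (D.map f) W t) = res M g s := by
      rw [← app_comp', cleg_w c₀ f, ht]
    have e' : app (cleg c₀ k) W (app (D.map f') W t') = res M g s' := by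
      rw [← app_comp', cleg_w c₀ f', ht']
    rw [map_add, hr c E (s + s') W g k (app (D.map f) W t + app (D.map f') W t') (by rw [map_add, map_add, e, e']),
      hr c E s W g k _ e, hr c E s' W g k _ e', map_add]
  have rnat : ∀ c {E E' : EtOver X} (l : E' ⟶ E) s, r c E' (res M l s) = res c.pt l (r c E s) :=
    fun c E E' l s => sep c E' _ _ fun W g _ hW => by
      obtain ⟨j, t, ht⟩ := hex' W hW (res M g (res M l s))
      rw [hr c E' _ W g j t ht, ← res_comp, hr c E s W (g ≫ l) j t (by rw [res_comp, ht])]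
  have rsmul : ∀ c (E : EtOver X) (d : Fn E) s, r c E (d • s) = d • r c E s :=
    fun c E d s => sep c E _ _ fun W g _ hW => by
      obtain ⟨j, t, ht⟩ := hex' W hW (res M g s)
      rw [hr c E _ W g j (fmap g d • t) (by rw [map_smul, ht, res_smul]), res_smul, hr c E s W g j t ht, map_smul]
  let φ : ∀ c : Cocone D, M ⟶ c.pt := fun c => ⟨PresheafOfModules.homMk
    { app := fun E => AddCommGrpCat.ofHom (AddMonoidHom.mk' (r c E.unop) (radd c E.unop))
      naturality := fun E E' l => AddCommGrpCat.hom_ext (AddMonoidHom.ext fun s => rnat c l.unop s) }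
    (fun E d s => by
      obtain ⟨d', rfl⟩ : ∃ d' : Fn E.unop, upΓ E.unop d' = d := ⟨d.down, rfl⟩
      exact rsmul c E.unop d' s)⟩
  have hφ : ∀ c E s, app (φ c) E s = r c E s := fun c E s => rfl
  refine ⟨{ desc := φ, fac := fun c j => ?_, uniq := fun c ψ hψ => ?_ }⟩
  · ext E t
    show app (φ c) E.unop (app (cleg c₀ j) E.unop t) = app (cleg c j) E.unop t
    have h := hr c E.unop (app (cleg c₀ j) E.unop t) E.unop (𝟙 _) j t (res_id M _).symm
    rw [res_id] at h
    rw [hφ, h]
  · ext E s
    show app ψ E.unop s = app (φ c) E.unop s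
    refine sep c E.unop _ _ fun W g _ hW => ?_
    obtain ⟨j, t, ht⟩ := hex' W hW (res M g s)
    rw [hφ, hr c E.unop s W g j t ht, ← app_res, ← ht, ← app_comp']
    exact congrArg (fun θ : D.obj j ⟶ c.pt => app θ W t) (hψ j)

end Colim

end Groth.Agent.EtQC
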