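import Groth.Agent.EtQC.ClosedImm

/-!
# Modules killed by the ideal of a closed subspace descend to it
-/

set_option autoImplicit false
set_option backward.isDefEq.respectTransparency false
set_option backward.isDefEq.respectTransparency.types false

universe u

set_option maxHeartbeats 1600000

open CategoryTheory CategoryTheory.Limits AlgebraicGeometry Opposite AlgSp

namespace Groth.Agent.EtQC

variable {S : Scheme.{u}} {Z X : Sp S} {i : Z ⟶ X}

/-- Restriction in an abelian sheaf. -/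
noncomputable def rs (G : AbEt Z) {V W : EtOver Z} (k : V ⟶ W) : G.obj.obj (op W) →+ G.obj.obj (op V) :=
  (G.obj.map k.op).hom

theorem rs_comp (G : AbEt Z) {U V W : EtOver Z} (k : V ⟶ W) (l : U ⟶ V) (s : G.obj.obj (op W)) :
    rs G (l ≫ k) s = rs G l (rs G k s) :=
  ConcreteCategory.congr_hom (G.obj.map_comp k.op l.op) s

theorem rs_ext (G : AbEt Z) {W : EtOver Z} {ι : Type (u + 1)} (V : ι → EtOver Z) (h : ∀ a, V a ⟶ W)
    (hc : ∀ x : ↥W.obj.left.left, ∃ a, x ∈ Set.range (h a).hom.left.left) {s t : G.obj.obj (op W)}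
    (hst : ∀ a, rs G (h a) s = rs G (h a) t) : s = t := by
  have hsh := (isSheaf_iff_isSheaf_of_type _ _).1
    ((Presheaf.isSheaf_iff_isSheaf_forget (etTop Z) G.obj (forget AddCommGrpCat.{u + 1})).1 G.property)
  refine (hsh.isSeparated _ (AlgSpDec.ofArrows_mem_etTop V h hc)).ext ?_
  rintro U _ ⟨_, k, _, ⟨a⟩, rfl⟩
  show rs G (k ≫ h a) s = rs G (k ≫ h a) t
  rw [rs_comp, rs_comp, hst]

theorem rs_glue (G : AbEt Z) {W : EtOver Z} {ι : Type (u + 1)} (V : ι → EtOver Z) (h : ∀ a, V a ⟶ W)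
    (hc : ∀ x : ↥W.obj.left.left, ∃ a, x ∈ Set.range (h a).hom.left.left) (s : ∀ a, G.obj.obj (op (V a)))
    (hs : ∀ (a b : ι) (U : EtOver Z) (k : U ⟶ V a) (l : U ⟶ V b), k ≫ h a = l ≫ h b → rs G k (s a) = rs G l (s b)) :
    ∃ t : G.obj.obj (op W), ∀ a, rs G (h a) t = s a := by
  have hsh := (isSheaf_iff_isSheaf_of_type _ _).1
    ((Presheaf.isSheaf_iff_isSheaf_forget (etTop Z) G.obj (forget AddCommGrpCat.{u + 1})).1 G.property)
  have h2 := (Presieve.isSheafFor_iff_generate _).2 (hsh _ (AlgSpDec.ofArrows_mem_etTop V h hc))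
  obtain ⟨t, ht, -⟩ := (Presieve.isSheafFor_arrows_iff _ _).1 h2 s fun a b U k l hkl => hs a b U k l hkl
  exact ⟨t, ht⟩

/-- The data: a module killed by the ideal, with a descent of its underlying sheaf. -/
structure Desc (hi : RepWith @IsClosedImmersion i) (F : ModEt X) where
  hX : IsAlgSpace X
  killed : ∀ (E : EtOver X), IsAffine E.obj.left.left → ∀ (a : Fn E) (x : sectModEt F E),
    bcFun hi.1 E a = 0 → a • x = 0
  G₀ : AbEt Z
  iso : (pushEt hi.1 AddCommGrpCat.{u + 1}).obj G₀ ≅ (toAbEt X).obj F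

namespace Desc

variable {hi : RepWith @IsClosedImmersion i} {F : ModEt X} (D : Desc hi F)

/-- The comparison on sections. -/
noncomputable def ev (E : EtOver X) : D.G₀.obj.obj (op (EtOver.bcObj hi.1 E)) ≃+ sectModEt F E :=
  (((sheafToPresheaf _ _).mapIso D.iso).app (op E)).addCommGroupIsoToAddEquiv

theorem ev_rs {E E' : EtOver X} (g : E' ⟶ E) (s : D.G₀.obj.obj (op (EtOver.bcObj hi.1 E))) :
    D.ev E' (rs D.G₀ (EtOver.bcMap hi.1 g) s) = res F g (D.ev E s) :=
  ConcreteCategory.congr_hom (D.iso.hom.hom.naturality g.op) s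

/-- Functions on the closed subspace act. -/
noncomputable def act (_D : Desc hi F) (E : EtOver X) [IsAffine E.obj.left.left] (b : Fn (EtOver.bcObj hi.1 E))
    (x : sectModEt F E) : sectModEt F E :=
  Function.surjInv (affine_surjective_bc hi E).2 b • x

theorem act_fn (E : EtOver X) [hE : IsAffine E.obj.left.left] (a : Fn E) (x : sectModEt F E) :
    D.act E (bcFun hi.1 E a) x = a • x := by
  refine sub_eq_zero.1 ((sub_smul _ a x).symm.trans (D.killed E hE _ x ?_))
  rw [map_sub, Function.surjInv_eq (affine_surjective_bc hi E).2, sub_self]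

theorem act_res {E E' : EtOver X} [IsAffine E.obj.left.left] [IsAffine E'.obj.left.left] (g : E' ⟶ E)
    (b : Fn (EtOver.bcObj hi.1 E)) (x : sectModEt F E) :
    res F g (D.act E b x) = D.act E' (fmap (EtOver.bcMap hi.1 g) b) (res F g x) := by
  obtain ⟨a, rfl⟩ := (affine_surjective_bc hi E).2 b
  rw [D.act_fn, bcFun_natural hi, D.act_fn, res_smul]

/-- The charts of an object of the closed subspace. -/
abbrev Ch (hi : RepWith @IsClosedImmersion i) (W : EtOver Z) : Type (u + 1) :=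
  Σ E : {E : EtOver X // IsAffine E.obj.left.left}, EtOver.bcObj hi.1 E.1 ⟶ W

/-- The value of an action on a chart. -/
noncomputable def loc {W : EtOver Z} (a : Fn W) (s : D.G₀.obj.obj (op W)) {E : EtOver X}
    [IsAffine E.obj.left.left] (m : EtOver.bcObj hi.1 E ⟶ W) : D.G₀.obj.obj (op (EtOver.bcObj hi.1 E)) :=
  (D.ev E).symm (D.act E (fmap m a) (D.ev E (rs D.G₀ m s)))

theorem loc_bcMap {W : EtOver Z} (a : Fn W) (s : D.G₀.obj.obj (op W)) {E E' : EtOver X}
    [IsAffine E.obj.left.left] [IsAffine E'.obj.left.left] (g : E' ⟶ E) (m : EtOver.bcObj hi.1 E ⟶ W) :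
    rs D.G₀ (EtOver.bcMap hi.1 g) (D.loc a s m) = D.loc a s (EtOver.bcMap hi.1 g ≫ m) := by
  refine (D.ev E').injective ?_
  simp only [loc, ev_rs, AddEquiv.apply_symm_apply]
  rw [D.act_res, fmap_comp, ← ev_rs, rs_comp]

theorem loc_compat {W : EtOver Z} (a : Fn W) (s : D.G₀.obj.obj (op W)) {E₁ E₂ : EtOver X}
    [IsAffine E₁.obj.left.left] [IsAffine E₂.obj.left.left] (m₁ : EtOver.bcObj hi.1 E₁ ⟶ W)
    (m₂ : EtOver.bcObj hi.1 E₂ ⟶ W) {U : EtOver Z} (k : U ⟶ EtOver.bcObj hi.1 E₁) (l : U ⟶ EtOver.bcObj hi.1 E₂)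
    (hkl : k ≫ m₁ = l ≫ m₂) : rs D.G₀ k (D.loc a s m₁) = rs D.G₀ l (D.loc a s m₂) := by
  obtain ⟨P, h, p₁, p₂, rfl, rfl⟩ := exists_bc_span hi.1 k l
  choose E hE q m hmh hx using fun x : ↥U.obj.left.left => exists_bc_affine hi h x
  refine rs_ext D.G₀ (ι := ULift.{u + 1} ↥U.obj.left.left) (fun x => EtOver.bcObj hi.1 (E x.down)) (fun x => m x.down)
    (fun x => ⟨⟨x⟩, hx x⟩) fun x => ?_
  obtain ⟨x⟩ := x
  haveI := hE x
  have e₁ : m x ≫ h ≫ EtOver.bcMap hi.1 p₁ = EtOver.bcMap hi.1 (q x ≫ p₁) := by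
    rw [← Category.assoc, hmh]; exact ((EtOver.bc hi.1).map_comp _ _).symm
  have e₂ : m x ≫ h ≫ EtOver.bcMap hi.1 p₂ = EtOver.bcMap hi.1 (q x ≫ p₂) := by
    rw [← Category.assoc, hmh]; exact ((EtOver.bc hi.1).map_comp _ _).symm
  have w : EtOver.bcMap hi.1 (q x ≫ p₁) ≫ m₁ = EtOver.bcMap hi.1 (q x ≫ p₂) ≫ m₂ := by
    rw [← e₁, ← e₂]
    simp only [Category.assoc] at hkl ⊢
    rw [hkl]
  refine (rs_comp D.G₀ _ (m x) _).symm.trans (Eq.trans ?_ (rs_comp D.G₀ _ (m x) _))
  rw [e₁, e₂]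
  exact (D.loc_bcMap a s (q x ≫ p₁) m₁).trans ((congrArg (fun n => D.loc a s n) w).trans
    (D.loc_bcMap a s (q x ≫ p₂) m₂).symm)

theorem exists_smul {W : EtOver Z} (a : Fn W) (s : D.G₀.obj.obj (op W)) :
    ∃ t : D.G₀.obj.obj (op W), ∀ (E : EtOver X) (_ : IsAffine E.obj.left.left) (m : EtOver.bcObj hi.1 E ⟶ W),
      rs D.G₀ m t = D.loc a s m := by
  obtain ⟨t, ht⟩ := rs_glue D.G₀ (W := W) (fun c : Ch hi W => EtOver.bcObj hi.1 c.1.1) (fun c => c.2)
    (fun x => by
      obtain ⟨E, hE, m, hm⟩ := exists_bc_affine_point hi D.hX W x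
      exact ⟨⟨⟨E, hE⟩, m⟩, hm⟩)
    (fun c => haveI := c.1.2; D.loc a s c.2)
    (fun c d _ k l hkl => haveI := c.1.2; haveI := d.1.2; D.loc_compat a s c.2 d.2 k l hkl)
  exact ⟨t, fun E hE m => ht ⟨⟨E, hE⟩, m⟩⟩

/-- Multiplication of sections by functions. -/
noncomputable def mul {W : EtOver Z} (a : Fn W) (s : D.G₀.obj.obj (op W)) : D.G₀.obj.obj (op W) :=
  (D.exists_smul a s).choose

theorem ev_mul {W : EtOver Z} (a : Fn W) (s : D.G₀.obj.obj (op W)) {E : EtOver X} [hE : IsAffine E.obj.left.left]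
    (m : EtOver.bcObj hi.1 E ⟶ W) :
    D.ev E (rs D.G₀ m (D.mul a s)) = D.act E (fmap m a) (D.ev E (rs D.G₀ m s)) := by
  rw [show rs D.G₀ m (D.mul a s) = D.loc a s m from (D.exists_smul a s).choose_spec E hE m, loc,
    AddEquiv.apply_symm_apply]

theorem sect_ext {W : EtOver Z} {s t : D.G₀.obj.obj (op W)}
    (h : ∀ (E : EtOver X) (_ : IsAffine E.obj.left.left) (m : EtOver.bcObj hi.1 E ⟶ W),
      D.ev E (rs D.G₀ m s) = D.ev E (rs D.G₀ m t)) : s = t :=
  rs_ext D.G₀ (W := W) (fun c : Ch hi W => EtOver.bcObj hi.1 c.1.1) (fun c => c.2)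
    (fun x => by
      obtain ⟨E, hE, m, hm⟩ := exists_bc_affine_point hi D.hX W x
      exact ⟨⟨⟨E, hE⟩, m⟩, hm⟩) fun c => (D.ev _).injective (h c.1.1 c.1.2 c.2)

/-- The module structure over the ring of functions. -/
@[reducible] noncomputable def modFun (W : EtOver Z) : Module (Fn W) (D.G₀.obj.obj (op W)) where
  smul := D.mul
  one_smul s := D.sect_ext fun E _ m => by
    show D.ev E (rs D.G₀ m (D.mul 1 s)) = _
    rw [ev_mul, map_one, ← map_one (bcFun hi.1 E), D.act_fn, one_smul]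
  mul_smul a b s := D.sect_ext fun E _ m => by
    show D.ev E (rs D.G₀ m (D.mul (a * b) s)) = D.ev E (rs D.G₀ m (D.mul a (D.mul b s)))
    rw [ev_mul, ev_mul, ev_mul, map_mul]
    obtain ⟨a', ha⟩ := (affine_surjective_bc hi E).2 (fmap m a)
    obtain ⟨b', hb⟩ := (affine_surjective_bc hi E).2 (fmap m b)
    rw [← ha, ← hb, ← map_mul, D.act_fn, D.act_fn, D.act_fn, mul_smul]
  smul_zero a := D.sect_ext fun E _ m => by
    show D.ev E (rs D.G₀ m (D.mul a 0)) = _
    rw [ev_mul, map_zero, map_zero]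
    exact smul_zero _
  smul_add a s t := D.sect_ext fun E _ m => by
    show D.ev E (rs D.G₀ m (D.mul a (s + t))) = D.ev E (rs D.G₀ m (D.mul a s + D.mul a t))
    rw [ev_mul, map_add, map_add, map_add, map_add, ev_mul, ev_mul]
    exact smul_add _ _ _
  add_smul a b s := D.sect_ext fun E _ m => by
    show D.ev E (rs D.G₀ m (D.mul (a + b) s)) = D.ev E (rs D.G₀ m (D.mul a s + D.mul b s))
    rw [ev_mul, map_add, map_add, map_add, ev_mul, ev_mul]
    obtain ⟨a', ha⟩ := (affine_surjective_bc hi E).2 (fmap m a)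
    obtain ⟨b', hb⟩ := (affine_surjective_bc hi E).2 (fmap m b)
    rw [← ha, ← hb, ← map_add, D.act_fn, D.act_fn, D.act_fn, add_smul]
  zero_smul s := D.sect_ext fun E _ m => by
    show D.ev E (rs D.G₀ m (D.mul 0 s)) = _
    rw [ev_mul, map_zero, ← map_zero (bcFun hi.1 E), D.act_fn, zero_smul, map_zero, map_zero]

theorem rs_mul {V W : EtOver Z} (k : V ⟶ W) (a : Fn W) (s : D.G₀.obj.obj (op W)) :
    rs D.G₀ k (D.mul a s) = D.mul (fmap k a) (rs D.G₀ k s) := D.sect_ext fun E _ m => by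
  rw [ev_mul, ← rs_comp, ← rs_comp, ev_mul, fmap_comp]

/-- The module structure over the structure sheaf. -/
@[reducible] noncomputable def modSh (W : (EtOver Z)ᵒᵖ) :
    Module ((OEtRing Z).obj.obj W) (D.G₀.obj.obj W) :=
  letI := D.modFun W.unop
  Module.compHom _ (ULift.ringEquiv.toRingHom : _ →+* Fn W.unop)

/-- The descended presheaf of modules. -/
noncomputable def preMod : PresheafOfModules.{u + 1} (OEtRing Z).obj :=
  @PresheafOfModules.ofPresheaf _ _ (OEtRing Z).obj D.G₀.obj D.modSh fun _ _ k a s =>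
    D.rs_mul k.unop a.down s

/-- The descended module. -/
noncomputable def desc : ModEt Z where
  val := D.preMod
  isSheaf := D.G₀.property

theorem smul_desc {W : EtOver Z} (a : Fn W) (s : D.G₀.obj.obj (op W)) :
    (show D.G₀.obj.obj (op W) from a • (show sectModEt D.desc W from s)) = D.mul a s := rfl

theorem res_desc {V W : EtOver Z} (k : V ⟶ W) (s : D.G₀.obj.obj (op W)) :
    (show D.G₀.obj.obj (op V) from res D.desc k (show sectModEt D.desc W from s)) = rs D.G₀ k s := rfl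

/-- The comparison is linear. -/
theorem ev_smul (E : EtOver X) (a : Fn E) (s : D.G₀.obj.obj (op (EtOver.bcObj hi.1 E))) :
    D.ev E (D.mul (bcFun hi.1 E a) s) = a • D.ev E s := by
  choose O hO hxO _ using fun x : ↥E.obj.left.left =>
    exists_isAffineOpen_mem_and_subset (x := x) (U := (⊤ : E.obj.left.left.Opens)) trivial
  refine ext_of_cover F (fun x => AlgSpDec.etOpen E (O x)) (fun x => AlgSpDec.etOpenι E (O x))
    (fun x => ⟨x, by rw [AlgSpDec.range_etOpenι]; exact hxO x⟩) fun x => ?_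
  haveI : IsAffine (AlgSpDec.etOpen E (O x)).obj.left.left := hO x
  rw [← ev_rs, ev_mul, bcFun_natural hi, D.act_fn, ev_rs, res_smul]

/-- The direct image of the descended module. -/
theorem nonempty_pushIso : Nonempty ((pushModEt hi.1).obj D.desc ≅ F) := by
  let φ : (pushModEt hi.1).obj D.desc ⟶ F :=
    ⟨PresheafOfModules.homMk (M₁ := ((pushModEt hi.1).obj D.desc).val) (M₂ := F.val) D.iso.hom.hom
      fun E a s => D.ev_smul E.unop a.down s⟩
  haveI : IsIso ((SheafOfModules.toSheaf _).map φ) := inferInstanceAs (IsIso D.iso.hom)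
  haveI := isIso_of_reflects_iso φ (SheafOfModules.toSheaf _)
  exact ⟨asIso φ⟩

end Desc

end Groth.Agent.EtQC
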