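import Groth.Agent.EtQC.ClosedDescend
import Groth.Agent.S9983

/-!
# Direct image of modules along a closed immersion is fully faithful
-/

set_option autoImplicit false
set_option backward.isDefEq.respectTransparency false
set_option backward.isDefEq.respectTransparency.types false

universe u

set_option maxHeartbeats 1600000

open CategoryTheory CategoryTheory.Limits AlgebraicGeometry Opposite AlgSp

namespace Groth.Agent.EtQC

variable {S : Scheme.{u}} {Z X : Sp S} {i : Z ⟶ X} (hi : RepWith @IsClosedImmersion i)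

theorem sect_ext_bc (hX : IsAlgSpace X) (G : ModEt Z) {W : EtOver Z} {s t : sectModEt G W}
    (h : ∀ (E : EtOver X) (_ : IsAffine E.obj.left.left) (m : EtOver.bcObj hi.1 E ⟶ W),
      res G m s = res G m t) : s = t :=
  ext_of_cover G (E := W) (ι := Σ E : {E : EtOver X // IsAffine E.obj.left.left}, EtOver.bcObj hi.1 E.1 ⟶ W)
    (fun c => EtOver.bcObj hi.1 c.1.1) (fun c => c.2)
    (fun x => by
      obtain ⟨E, hE, m, hm⟩ := exists_bc_affine_point hi hX W x
      exact ⟨⟨⟨E, hE⟩, m⟩, hm⟩) fun c => h c.1.1 c.1.2 c.2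

theorem faithful_pushModEt (hX : IsAlgSpace X) : (pushModEt hi.1).Faithful where
  map_injective {G G'} a b h := by
    refine SheafOfModules.hom_ext (PresheafOfModules.hom_ext fun W => ModuleCat.hom_ext (LinearMap.ext fun s => ?_))
    refine sect_ext_bc hi hX G' (W := W.unop) fun E _ m => ?_
    have e : ∀ c : G ⟶ G', res G' m (c.val.app W s) = c.val.app (op (EtOver.bcObj hi.1 E)) (res G m s) := fun c =>
      (PresheafOfModules.naturality_apply c.val m.op s).symm
    refine (e a).trans (Eq.trans ?_ (e b).symm)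
    exact congrArg (fun φ : (pushModEt hi.1).obj G ⟶ (pushModEt hi.1).obj G' => φ.val.app (op E) (res G m s)) h

theorem full_pushModEt {Z' X' : Space S} {j : Z' ⟶ X'} (hj : RepWith @IsClosedImmersion j.hom) :
    (pushModEt hj.1).Full where
  map_surjective {G G'} φ := by
    haveI := (S9983.result j hj).2.1.1
    let β : (pushEt hj.1 AddCommGrpCat.{u + 1}).obj ((toAbEt Z'.obj).obj G) ⟶
        (pushEt hj.1 AddCommGrpCat.{u + 1}).obj ((toAbEt Z'.obj).obj G') := (toAbEt X'.obj).map φ
    obtain ⟨ψ, hψ⟩ := (pushEt hj.1 AddCommGrpCat.{u + 1}).map_surjective β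
    have hψ' : ∀ (E : EtOver X'.obj) (t : sectModEt G (EtOver.bcObj hj.1 E)),
        (show sectModEt G' (EtOver.bcObj hj.1 E) from (ψ.hom.app (op (EtOver.bcObj hj.1 E))).hom t) =
          (show sectModEt G' (EtOver.bcObj hj.1 E) from φ.val.app (op E) t) := fun E t =>
      (by
        have h := congrArg (fun c : (pushEt hj.1 AddCommGrpCat.{u + 1}).obj ((toAbEt Z'.obj).obj G) ⟶
          (pushEt hj.1 AddCommGrpCat.{u + 1}).obj ((toAbEt Z'.obj).obj G') => c.hom.app (op E)) hψ
        exact ConcreteCategory.congr_hom h t)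
    have hlin : ∀ (W : (EtOver Z'.obj)ᵒᵖ) (r : (OEtRing Z'.obj).obj.obj W) (s : G.val.obj W),
        (ψ.hom.app W).hom (r • s) = r • (show G'.val.obj W from (ψ.hom.app W).hom s) := by
      intro W r s
      obtain ⟨W⟩ := W
      refine sect_ext_bc hj X'.property G' fun E hE m => ?_
      haveI := hE
      obtain ⟨a', ha⟩ := (affine_surjective_bc hj E).2 (fmap m (show Fn W from r.down))
      have hnat : ∀ x : sectModEt G W, res G' m ((ψ.hom.app (op W)).hom x) =
          (ψ.hom.app (op (EtOver.bcObj hj.1 E))).hom (res G m x) := fun x =>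
        (ConcreteCategory.congr_hom (ψ.hom.naturality m.op) x).symm
      refine (hnat ((show Fn W from r.down) • (show sectModEt G W from s))).trans ?_
      rw [res_smul, ← ha]
      refine (hψ' E _).trans ?_
      refine (map_smul (φ.val.app (op E)).hom (upΓ E a') (show sectModEt ((pushModEt hj.1).obj G) E from res G m s)).trans ?_
      refine Eq.trans ?_ (res_smul G' m (show Fn W from r.down) _).symm
      rw [hnat, ← ha]
      exact (congrArg (fun y : sectModEt G' (EtOver.bcObj hj.1 E) => bcFun hj.1 E a' • y) (hψ' E (res G m s))).symm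
    let χ : G ⟶ G' := ⟨PresheafOfModules.homMk (M₁ := G.val) (M₂ := G'.val) ψ.hom hlin⟩
    exact ⟨χ, SheafOfModules.hom_ext (PresheafOfModules.hom_ext fun E => ModuleCat.hom_ext (LinearMap.ext fun t =>
      hψ' E.unop t))⟩

theorem isIso_counit_closed {Z' X' : Space S} {j : Z' ⟶ X'} (hj : RepWith @IsClosedImmersion j.hom)
    [(SheafOfModules.pushforward.{u + 1} (bcRingHom hj.1)).IsRightAdjoint] (G : ModEt Z'.obj) :
    IsIso ((pullPushAdjModEt hj.1).counit.app G) := by
  haveI := faithful_pushModEt hj X'.property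
  haveI := full_pushModEt hj
  infer_instance

end Groth.Agent.EtQC
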