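import Groth.Agent.EtQC.Submod

/-!
# The largest quasi-coherent submodule
-/

set_option autoImplicit false
set_option backward.isDefEq.respectTransparency false
set_option backward.isDefEq.respectTransparency.types false

universe u

set_option maxHeartbeats 1600000

open CategoryTheory CategoryTheory.Limits AlgebraicGeometry Opposite AlgSp
open scoped TensorProduct

namespace Groth.Agent.EtQC

variable {S : Scheme.{u}} {X : Sp S}

/-- A morphism with values in the sections of a subobject on affine objects factors through it. -/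
theorem exists_factor {A F G : ModEt X} (ι : G ⟶ F) [Mono ι] (φ : A ⟶ F)
    (h : ∀ (W : EtOver X), IsAffine W.obj.left.left → ∀ s, app φ W s ∈ Set.range (app ι W)) :
    ∃ ψ : A ⟶ G, ψ ≫ ι = φ := by
  have h0 : φ ≫ cokernel.π ι = 0 := by
    ext E s
    show app (cokernel.π ι) E.unop (app φ E.unop s) = 0
    refine WeakAssEtLib.eq_zero_of_affine E.unop _ fun W g hW => ?_
    obtain ⟨t, ht⟩ := h W hW (res A g s)
    show res (cokernel ι) g (app (cokernel.π ι) E.unop (app φ E.unop s)) = 0
    rw [← app_res, ← app_res, ← ht]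
    exact congrArg (fun θ : G ⟶ cokernel ι => app θ W t) (cokernel.condition ι)
  exact ⟨Abelian.monoLift ι φ h0, Abelian.monoLift_comp ι φ h0⟩

/-- A family of submodules on affine objects, each generated by the others. -/
structure GenFam (F : ModEt X) where
  /-- the submodule on an affine object -/
  P : ∀ W : EtOver X, IsAffine W.obj.left.left → Submodule (Fn W) (sectModEt F W)
  map : ∀ {W W' : EtOver X} (g : W' ⟶ W) (hW : IsAffine W.obj.left.left) (hW' : IsAffine W'.obj.left.left)
    (s : sectModEt F W), s ∈ P W hW → res F g s ∈ P W' hW'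
  gen : ∀ {W W' : EtOver X} (g : W' ⟶ W) (hW : IsAffine W.obj.left.left) (hW' : IsAffine W'.obj.left.left),
    P W' hW' ≤ Submodule.span (Fn W') (res F g '' (P W hW : Set (sectModEt F W)))

/-- A family of mutually generated submodules is local. -/
noncomputable def GenFam.toAffSub {F : ModEt X} (Q : GenFam F) (hF : BCAll F) : AffSub F where
  P := Q.P
  map := Q.map
  loc W hW n V g hV hc s hs := by
    haveI := hW
    haveI := hV
    letI : ∀ i, Algebra (Fn W) (Fn (V i)) := fun i => (fmap (g i)).toAlgebra
    haveI : ∀ i, Module.Flat (Fn W) (Fn (V i)) := fun i => flat_fmap (g i)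
    have hmem : s ∈ LinearMap.range (Q.P W hW).subtype := mem_range_of_forall_flat (fun i => Fn (V i))
      (fun p hp => LocPres.exists_prime_over V g hc p hp) _ s fun i => by
        suffices key : ∀ y ∈ Submodule.span (Fn (V i)) (res F (g i) '' (Q.P W hW : Set (sectModEt F W))),
            ∃ z, gam (RingHom.id (Fn (V i))) (res F (g i)) (res_smul' F (g i))
              ((Q.P W hW).subtype.lTensor (Fn (V i)) z) = y by
          obtain ⟨z, hz⟩ := key _ (Q.gen (g i) hW (hV i) (hs i))
          refine ⟨z, (hF W hW (V i) (g i) (hV i)).1 (hz.trans ?_)⟩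
          rw [gam_tmul, RingHom.id_apply, one_smul]
        intro y hy
        induction hy using Submodule.span_induction with
        | mem y hy =>
          obtain ⟨t, ht, rfl⟩ := hy
          exact ⟨(1 : Fn (V i)) ⊗ₜ ⟨t, ht⟩, by
            rw [LinearMap.lTensor_tmul, gam_tmul, RingHom.id_apply, one_smul]; rfl⟩
        | zero => exact ⟨0, by rw [map_zero, map_zero]⟩
        | add a b _ _ ha hb =>
          obtain ⟨za, rfl⟩ := ha
          obtain ⟨zb, rfl⟩ := hb
          exact ⟨za + zb, by rw [map_add, map_add]⟩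
        | smul c a _ ha =>
          obtain ⟨za, rfl⟩ := ha
          refine ⟨c • za, ?_⟩
          clear * - za c
          induction za using TensorProduct.induction_on with
          | zero => simp
          | add x y hx hy => simp only [smul_add, map_add, hx, hy]
          | tmul b t =>
            rw [TensorProduct.smul_tmul', LinearMap.lTensor_tmul, LinearMap.lTensor_tmul, gam_tmul, gam_tmul]
            exact mul_smul c b _
    rwa [Submodule.range_subtype] at hmem

/-- The image of a morphism of modules with base change is such a family. -/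
noncomputable def GenFam.ofHom {H F : ModEt X} (φ : H ⟶ F) (hH : BCAll H) : GenFam F where
  P W _ := LinearMap.range (app φ W)
  map g _ _ := by
    rintro _ ⟨t, rfl⟩
    exact ⟨_, app_res φ g t⟩
  gen {W W'} g hW hW' := by
    rintro _ ⟨t, rfl⟩
    letI := (fmap g).toAlgebra
    obtain ⟨z, rfl⟩ := (hH W hW W' g hW').2 t
    rw [← gam_app]
    induction z using TensorProduct.induction_on with
    | zero => simp
    | add x y hx hy => rw [map_add, map_add]; exact add_mem hx hy
    | tmul b s =>
      rw [LinearMap.lTensor_tmul, gam_tmul]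
      exact Submodule.smul_mem _ _ (Submodule.subset_span ⟨_, ⟨s, rfl⟩, rfl⟩)

/-- The supremum of the families inside a subobject. -/
noncomputable def GenFam.maxIn {F G : ModEt X} (ι : G ⟶ F) : GenFam F where
  P W hW := ⨆ (Q : {Q : GenFam F // ∀ W hW, Q.P W hW ≤ LinearMap.range (app ι W)}), Q.1.P W hW
  map {W W'} g hW hW' s hs := by
    refine Submodule.iSup_induction _ (motive := fun s => res F g s ∈
      ⨆ (Q : {Q : GenFam F // ∀ W hW, Q.P W hW ≤ LinearMap.range (app ι W)}), Q.1.P W' hW') hs ?_ ?_ ?_
    · exact fun Q x hx => Submodule.mem_iSup_of_mem Q (Q.1.map g hW hW' x hx)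
    · rw [map_zero]; exact zero_mem _
    · exact fun x y hx hy => by rw [map_add]; exact add_mem hx hy
  gen g hW hW' := iSup_le fun Q => (Q.1.gen g hW hW').trans
    (Submodule.span_mono (Set.image_mono fun s hs => Submodule.mem_iSup_of_mem Q hs))

/-- There is a largest quasi-coherent submodule. -/
theorem exists_largest {F G : ModEt X} (hF : BCAll F) (ι : G ⟶ F) [Mono ι] :
    ∃ (G' : ModEt X) (κ : G' ⟶ G), Mono κ ∧ G'.IsQuasicoherent ∧
      ∀ H : ModEt X, H.IsQuasicoherent → Function.Bijective (fun φ : H ⟶ G' => φ ≫ κ) := by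
  let Q := GenFam.maxIn ι
  let A := Q.toAffSub hF
  have hA : BCAll A.mod := A.bcAll hF fun g hW hW' y hy => Q.gen g hW hW' hy
  have hle : ∀ (W : EtOver X) (hW : IsAffine W.obj.left.left), Q.P W hW ≤ LinearMap.range (app ι W) :=
    fun W hW => iSup_le fun R => R.2 W hW
  obtain ⟨κ, hκ⟩ := exists_factor ι A.ι fun W hW s => hle W hW ((Set.ext_iff.1 (A.range_ι W hW) _).1 ⟨s, rfl⟩)
  haveI : Mono (κ ≫ ι) := hκ.symm ▸ inferInstance
  haveI : Mono κ := mono_of_mono κ ι
  refine ⟨A.mod, κ, inferInstance, hA.isQuasicoherent, fun H hH => ⟨fun a b hab => (cancel_mono κ).1 hab, fun ψ => ?_⟩⟩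
  haveI := hH
  obtain ⟨φ, hφ⟩ := exists_factor A.ι (ψ ≫ ι) fun W hW s => by
    refine (Set.ext_iff.1 (A.range_ι W hW) _).2 ?_
    refine Submodule.mem_iSup_of_mem ⟨GenFam.ofHom (ψ ≫ ι) (bcAll_of_isQuasicoherent H), fun W hW => ?_⟩ ⟨s, rfl⟩
    rintro _ ⟨t, rfl⟩
    exact ⟨app ψ W t, rfl⟩
  refine ⟨φ, (cancel_mono ι).1 ?_⟩
  show (φ ≫ κ) ≫ ι = ψ ≫ ι
  rw [Category.assoc, hκ, hφ]

end Groth.Agent.EtQC
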