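import Groth.Agent.EtQC.ClosedEquiv
import Groth.Agent.EtQC.ClosedFull
import Groth.Agent.EtQC.Largest
import Mathlib.CategoryTheory.Adjunction.Comma

/-!
# The right adjoint of the direct image along a closed immersion on quasi-coherent modules
-/

set_option autoImplicit false
set_option backward.isDefEq.respectTransparency false
set_option backward.isDefEq.respectTransparency.types false

universe u

set_option maxHeartbeats 1600000

open CategoryTheory CategoryTheory.Limits AlgebraicGeometry Opposite AlgSp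

namespace Groth.Agent.EtQC

variable {S : Scheme.{u}} {Z X : Sp S} {i : Z ⟶ X} (hi : RepWith @IsClosedImmersion i)

/-- The submodules killed by the ideal. -/
def Killed (F : ModEt X) (Q : GenFam F) : Prop :=
  ∀ (W : EtOver X) (hW : IsAffine W.obj.left.left) (s : sectModEt F W), s ∈ Q.P W hW →
    ∀ a ∈ (idealOfRep hi.1).ideal W hW, a • s = 0

/-- The supremum of the generated families killed by the ideal. -/
noncomputable def maxKilled (F : ModEt X) : GenFam F where
  P W hW := ⨆ (Q : {Q : GenFam F // Killed hi F Q}), Q.1.P W hW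
  map {W W'} g hW hW' s hs := by
    refine Submodule.iSup_induction _ (motive := fun s => res F g s ∈
      ⨆ (Q : {Q : GenFam F // Killed hi F Q}), Q.1.P W' hW') hs ?_ ?_ ?_
    · exact fun Q x hx => Submodule.mem_iSup_of_mem Q (Q.1.map g hW hW' x hx)
    · rw [map_zero]; exact zero_mem _
    · exact fun x y hx hy => by rw [map_add]; exact add_mem hx hy
  gen g hW hW' := iSup_le fun Q => (Q.1.gen g hW hW').trans
    (Submodule.span_mono (Set.image_mono fun s hs => Submodule.mem_iSup_of_mem Q hs))

theorem killed_maxKilled (F : ModEt X) : Killed hi F (maxKilled hi F) := by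
  intro W hW s hs a ha
  refine Submodule.iSup_induction _ (motive := fun s => a • s = 0) hs ?_ (smul_zero a) ?_
  · exact fun Q x hx => Q.2 W hW x hx a ha
  · exact fun x y hx hy => by rw [smul_add, hx, hy, add_zero]

/-- The direct image of a quasi-coherent module is universal among maps to a quasi-coherent one. -/
theorem exists_universal (hX : IsAlgSpace X) (F : ModEt X) (hF : BCAll F) :
    ∃ (H : ModEt Z) (μ : (pushModEt hi.1).obj H ⟶ F), H.IsQuasicoherent ∧ Mono μ ∧
      ∀ G : ModEt Z, G.IsQuasicoherent → ∀ φ : (pushModEt hi.1).obj G ⟶ F,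
        ∃ ψ : (pushModEt hi.1).obj G ⟶ (pushModEt hi.1).obj H, ψ ≫ μ = φ := by
  let A := (maxKilled hi F).toAffSub hF
  have hA : BCAll A.mod := A.bcAll hF fun g hW hW' y hy => (maxKilled hi F).gen g hW hW' hy
  obtain ⟨D⟩ := exists_desc hi hX (I := idealOfRep hi.1) ⟨hi, rfl⟩ A.mod fun E hE s a ha => by
    rw [mem_annSect_iff]
    haveI := hE
    refine app_injective A.ι E (Eq.trans ?_ (map_zero (app A.ι E)).symm)
    show app A.ι E (a • s) = 0
    rw [map_smul]
    exact killed_maxKilled hi F E hE _ ((Set.ext_iff.1 (A.range_ι E hE) _).1 ⟨s, rfl⟩) a ha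
  obtain ⟨e⟩ := D.nonempty_pushIso
  refine ⟨D.desc, e.hom ≫ A.ι, D.isQuasicoherent_desc hA, inferInstance, fun G hG φ => ?_⟩
  haveI := hG
  have haff : IsAffineMor i := fun T hT g => ⟨hi.1.pullback g, hi.1.snd g, hi.1.fst g, hi.1.isPullback g,
    haveI : IsClosedImmersion (hi.1.snd g).left := hi.property_snd g
    isAffine_of_isAffineHom (hi.1.snd g).left⟩
  have hb := bcAll_push hi.1 haff (bcAll_of_isQuasicoherent G)
  obtain ⟨ψ, hψ⟩ := exists_factor A.ι φ fun W hW s => by
    refine (Set.ext_iff.1 (A.range_ι W hW) _).2 ?_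
    refine Submodule.mem_iSup_of_mem ⟨GenFam.ofHom φ hb, ?_⟩ ⟨s, rfl⟩
    rintro W hW _ ⟨t, rfl⟩ a ha
    rw [← map_smul]
    have h0 : a • t = 0 := (mem_annSect_iff t a).1 (le_annSect_push hi (I := idealOfRep hi.1) ⟨hi, rfl⟩ G W hW t ha)
    rw [h0, map_zero]
  exact ⟨ψ ≫ e.inv, by rw [Category.assoc, e.inv_hom_id_assoc, hψ]⟩

/-- The direct image on quasi-coherent modules is a left adjoint. -/
theorem isLeftAdjoint_push_qcoh {Z' X' : Space S} {j : Z' ⟶ X'} (hj : RepWith @IsClosedImmersion j.hom)
    (hq : ∀ G : ModEt Z'.obj, G.IsQuasicoherent → ((pushModEt hj.1).obj G).IsQuasicoherent) :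
    ((SheafOfModules.isQuasicoherent (OEtRing X'.obj)).lift
        ((SheafOfModules.isQuasicoherent (OEtRing Z'.obj)).ι ⋙ pushModEt hj.1)
        (fun G => hq G.obj G.property)).IsLeftAdjoint := by
  let Φ := (SheafOfModules.isQuasicoherent (OEtRing X'.obj)).lift
        ((SheafOfModules.isQuasicoherent (OEtRing Z'.obj)).ι ⋙ pushModEt hj.1) (fun G => hq G.obj G.property)
  haveI : ∀ F, HasTerminal (CostructuredArrow Φ F) := fun F => by
    haveI := F.property
    obtain ⟨H, μ, hH, hμ, hu⟩ := exists_universal hj X'.property F.obj (bcAll_of_isQuasicoherent F.obj)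
    haveI := full_pushModEt hj
    haveI := faithful_pushModEt hj X'.property
    let H' : (SheafOfModules.isQuasicoherent (OEtRing Z'.obj)).FullSubcategory := ⟨H, hH⟩
    let μ' : Φ.obj H' ⟶ F := ObjectProperty.homMk μ
    let t : CostructuredArrow Φ F := CostructuredArrow.mk μ'
    have hex : ∀ c : CostructuredArrow Φ F, ∃ g : c.left.obj ⟶ H, (pushModEt hj.1).map g ≫ μ = c.hom.hom := by
      intro c
      obtain ⟨ψ, hψ⟩ := hu c.left.obj c.left.property c.hom.hom
      obtain ⟨g, rfl⟩ := (pushModEt hj.1).map_surjective ψ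
      exact ⟨g, hψ⟩
    refine IsTerminal.hasTerminal (IsTerminal.ofUniqueHom (Y := t)
      (fun c => CostructuredArrow.homMk (ObjectProperty.homMk (hex c).choose)
        (ObjectProperty.hom_ext _ (by exact (hex c).choose_spec))) fun c m => ?_)
    refine CostructuredArrow.hom_ext _ _ (ObjectProperty.hom_ext _ ((pushModEt hj.1).map_injective ?_))
    haveI := hμ
    refine (cancel_mono μ).1 ((?_ : (pushModEt hj.1).map m.left.hom ≫ μ = c.hom.hom).trans (hex c).choose_spec.symm)
    have h : Φ.map m.left ≫ μ' = c.hom := CostructuredArrow.w m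
    exact congrArg (fun k : Φ.obj c.left ⟶ F => k.hom) h
  exact isLeftAdjoint_of_costructuredArrowTerminals Φ

end Groth.Agent.EtQC
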