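import Groth.Agent.EtQC.Coh

/-!
# Colimits of quasi-coherent modules
-/

set_option autoImplicit false
set_option backward.isDefEq.respectTransparency false
set_option backward.isDefEq.respectTransparency.types false

universe u

set_option maxHeartbeats 1600000

open CategoryTheory CategoryTheory.Limits AlgebraicGeometry Opposite AlgSp

namespace Groth.Agent.EtQC

section Sigma

universe v v₁ u₁

variable {C : Type u₁} [Category.{v₁} C] {K : GrothendieckTopology C} {R : Sheaf K RingCat.{v}}
  [HasSheafify K AddCommGrpCat.{v}] [K.WEqualsLocallyBijective AddCommGrpCat.{v}]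

/-- A coproduct of presented modules is presented. -/
theorem exists_presentation_cofan {J : Type v} (A : J → SheafOfModules.{v} R)
    (p : ∀ a, (A a).Presentation) (c : Cofan A) (hc : IsColimit c) : Nonempty c.pt.Presentation := by
  let ι : Type v := Σ a, (p a).relations.I
  let σ : Type v := Σ a, (p a).generators.I
  let fa : ∀ a, SheafOfModules.free (R := R) (p a).relations.I ⟶ SheafOfModules.free (p a).generators.I :=
    fun a => ((kernel (p a).generators.π).freeHomEquiv).symm (p a).relations.s ≫ kernel.ι _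
  have hfa : ∀ a, fa a ≫ (p a).generators.π = 0 := fun a => by simp [fa]
  let f : SheafOfModules.free (R := R) ι ⟶ SheafOfModules.free σ :=
    (SheafOfModules.free σ).freeHomEquiv.symm fun k =>
      (SheafOfModules.free σ).freeHomEquiv (fa k.1 ≫ SheafOfModules.freeMap fun i => (⟨k.1, i⟩ : σ)) k.2
  let g : SheafOfModules.free (R := R) σ ⟶ c.pt :=
    c.pt.freeHomEquiv.symm fun i => c.pt.freeHomEquiv ((p i.1).generators.π ≫ c.inj i.1) i.2
  have hιf : ∀ (a) (k : (p a).relations.I), SheafOfModules.ιFree (R := R) (⟨a, k⟩ : ι) ≫ f =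
      SheafOfModules.ιFree k ≫ fa a ≫ SheafOfModules.freeMap fun i => (⟨a, i⟩ : σ) := fun a k => by
    rw [← SheafOfModules.unitHomEquiv_symm_freeHomEquiv_apply, ← SheafOfModules.unitHomEquiv_symm_freeHomEquiv_apply]
    refine congrArg _ ?_
    exact congrFun (Equiv.apply_symm_apply _ _) (⟨a, k⟩ : ι)
  have hιg : ∀ (a) (i : (p a).generators.I), SheafOfModules.ιFree (R := R) (⟨a, i⟩ : σ) ≫ g =
      SheafOfModules.ιFree i ≫ (p a).generators.π ≫ c.inj a := fun a i => by
    rw [← SheafOfModules.unitHomEquiv_symm_freeHomEquiv_apply, ← SheafOfModules.unitHomEquiv_symm_freeHomEquiv_apply]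
    refine congrArg _ ?_
    exact congrFun (Equiv.apply_symm_apply _ _) (⟨a, i⟩ : σ)
  have hmg : ∀ a, (SheafOfModules.freeMap (R := R) fun i => (⟨a, i⟩ : σ)) ≫ g =
      (p a).generators.π ≫ c.inj a := fun a =>
    Cofan.IsColimit.hom_ext (SheafOfModules.isColimitFreeCofan _) _ _ fun i => by
      simp [hιg]
  have hfg : f ≫ g = 0 := Cofan.IsColimit.hom_ext (SheafOfModules.isColimitFreeCofan ι) _ _ fun k => by
    obtain ⟨a, k⟩ := k
    rw [SheafOfModules.freeCofan_inj, ← Category.assoc, hιf, Category.assoc, Category.assoc, hmg,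
      ← Category.assoc (fa a), hfa, zero_comp, comp_zero, comp_zero]
  have hepi : Epi g := ⟨fun x y hxy => Cofan.IsColimit.hom_ext hc _ _ fun a => by
    haveI : Epi (p a).generators.π := inferInstance
    rw [← cancel_epi (p a).generators.π, ← Category.assoc, ← Category.assoc, ← hmg, Category.assoc,
      Category.assoc, hxy]⟩
  have key : ∀ {W : SheafOfModules.{v} R} (h : SheafOfModules.free (R := R) σ ⟶ W), f ≫ h = 0 →
      ∃ l : c.pt ⟶ W, g ≫ l = h := by
    intro W h hh
    have h0 : ∀ a, fa a ≫ ((SheafOfModules.freeMap (R := R) fun i => (⟨a, i⟩ : σ)) ≫ h) = 0 := fun a =>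
      Cofan.IsColimit.hom_ext (SheafOfModules.isColimitFreeCofan _) _ _ fun k => by
        rw [SheafOfModules.freeCofan_inj, comp_zero, ← Category.assoc (fa a), ← Category.assoc,
          ← hιf a k, Category.assoc, hh, comp_zero]
    refine ⟨Cofan.IsColimit.desc hc fun a => ((p a).isColimit.desc (CokernelCofork.ofπ _ (h0 a))),
      Cofan.IsColimit.hom_ext (SheafOfModules.isColimitFreeCofan σ) _ _ fun i => ?_⟩
    obtain ⟨a, i⟩ := i
    have e : (p a).generators.π ≫ (p a).isColimit.desc (CokernelCofork.ofπ _ (h0 a)) =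
        (SheafOfModules.freeMap (R := R) fun i => (⟨a, i⟩ : σ)) ≫ h :=
      (p a).isColimit.fac (CokernelCofork.ofπ _ (h0 a)) WalkingParallelPair.one
    rw [SheafOfModules.freeCofan_inj, ← Category.assoc, hιg, Category.assoc, Category.assoc,
      Cofan.IsColimit.fac, e, SheafOfModules.ιFree_freeMap_assoc]
  choose l hl using fun (W : SheafOfModules.{v} R) (h : SheafOfModules.free (R := R) σ ⟶ W) =>
    key (W := W) h
  exact ⟨SheafOfModules.presentationOfIsCokernelFree f g hfg
    (CokernelCofork.IsColimit.ofπ g hfg (fun h hh => l _ h hh) (fun h hh => hl _ h hh)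
      fun h hh m hm => by rw [← cancel_epi g, hl]; exact hm)⟩

end Sigma

variable {S : Scheme.{u}} {X : Sp S}

/-- A module presented over every affine object is quasi-coherent. -/
theorem isQuasicoherent_of_presentations {M : ModEt X}
    (h : ∀ V : EtOver X, IsAffine V.obj.left.left → Nonempty (M.over V).Presentation) : M.IsQuasicoherent := by
  let P : EtOver X → Prop := fun V => IsAffine V.obj.left.left
  have key : ∀ V : @Subtype.{u + 2} (EtOver X) P, ∃ _ : (M.over V.1).Presentation, True := fun V =>
    let ⟨p⟩ := h V.1 V.2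
    ⟨p, trivial⟩
  choose p _ using key
  exact SheafOfModules.QuasicoherentData.isQuasicoherent (M := M)
    { I := @Subtype.{u + 2} (EtOver X) P
      X := fun V => V.1
      coversTop := coversTop_pred P fun E hE => cover_self P hE
      presentation := p }

theorem exists_presentation_of_bcAll {M : ModEt X} (h : BCAll M) (E : EtOver X) [IsAffine E.obj.left.left] :
    Nonempty (M.over E).Presentation := by
  obtain ⟨p, -, -⟩ := exists_presentation (h E ‹_›) (id : sectModEt M E → sectModEt M E)
    (eq_top_iff.2 fun s _ => Submodule.subset_span ⟨s, rfl⟩)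
    (Subtype.val : LinearMap.ker (Finsupp.linearCombination (Fn E) (id : sectModEt M E → _)) → _)
    (span_ker_eq _ _ Subtype.range_coe)
  exact ⟨p⟩

/-- Coproducts of quasi-coherent modules are quasi-coherent. -/
theorem isQuasicoherent_cofan {J : Type (u + 1)} (A : J → ModEt X) (h : ∀ a, BCAll (A a)) (c : Cofan A)
    (hc : IsColimit c) : c.pt.IsQuasicoherent := by
  refine isQuasicoherent_of_presentations fun E hE => ?_
  haveI := hE
  let F := SheafOfModules.overFunctor.{u + 1} (OEtRing X) E
  haveI : PreservesColimit (Discrete.functor A) F := inferInstance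
  exact exists_presentation_cofan (fun a => F.obj (A a)) (fun a => (exists_presentation_of_bcAll (h a) E).some)
    (Cofan.mk (F.obj c.pt) fun a => F.map (c.inj a)) (isColimitCofanMkObjOfIsColimit F _ _ hc)

theorem hasCoproductsOfShape_modEt (J : Type (u + 1)) : HasColimitsOfShape (Discrete J) (ModEt X) := by
  infer_instance

/-- Colimits of quasi-coherent modules are quasi-coherent. -/
theorem bcAll_colimit {J : Type u} [SmallCategory J] (D : J ⥤ ModEt X) [HasColimit D] (h : ∀ j, BCAll (D.obj j)) :
    BCAll (colimit D) := by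
  haveI := hasCoproductsOfShape_modEt (X := X) (ULift.{u + 1} J)
  haveI := hasCoproductsOfShape_modEt (X := X) (ULift.{u + 1} (Σ j k : J, j ⟶ k))
  let A := ∐ fun j : ULift.{u + 1} J => D.obj j.down
  let B := ∐ fun e : ULift.{u + 1} (Σ j k : J, j ⟶ k) => D.obj e.down.1
  haveI hA : A.IsQuasicoherent :=
    isQuasicoherent_cofan (fun j : ULift.{u + 1} J => D.obj j.down) (fun j => h j.down) _ (coproductIsCoproduct _)
  haveI hB : B.IsQuasicoherent :=
    isQuasicoherent_cofan (fun e : ULift.{u + 1} (Σ j k : J, j ⟶ k) => D.obj e.down.1) (fun e => h e.down.1) _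
      (coproductIsCoproduct _)
  let σ : ∀ j : J, D.obj j ⟶ A := fun j => Sigma.ι (fun j : ULift.{u + 1} J => D.obj j.down) ⟨j⟩
  let d : B ⟶ A := Sigma.desc fun e => σ e.down.1 - D.map e.down.2.2 ≫ σ e.down.2.1
  have hd : ∀ {j k : J} (f : j ⟶ k), D.map f ≫ σ k ≫ cokernel.π d =
      σ j ≫ cokernel.π d := fun {j k} f => by
    have h1 : Sigma.ι (fun e : ULift.{u + 1} (Σ j k : J, j ⟶ k) => D.obj e.down.1) ⟨⟨j, k, f⟩⟩ ≫ d ≫ cokernel.π d = 0 := by
      rw [cokernel.condition, comp_zero]
    rw [← Category.assoc, Sigma.ι_desc, Preadditive.sub_comp, sub_eq_zero, Category.assoc] at h1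
    exact h1.symm
  let e : colimit D ≅ cokernel d :=
    { hom := colimit.desc D
        { pt := cokernel d
          ι := { app := fun j => σ j ≫ cokernel.π d
                 naturality := fun j k f => (hd f).trans (Category.comp_id _).symm } }
      inv := cokernel.desc d (Sigma.desc fun j => colimit.ι D j.down) (Sigma.hom_ext _ _ fun e => by
        simp [d, σ, A])
      hom_inv_id := colimit.hom_ext fun j => by simp [σ, A]
      inv_hom_id := by
        rw [← cancel_epi (cokernel.π d)]
        exact Sigma.hom_ext _ _ fun j => by simp [σ, A] }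
  have hc := bcAll_cokernel d (bcAll_of_isQuasicoherent B) (bcAll_of_isQuasicoherent A)
  haveI := hc.isQuasicoherent
  haveI : (colimit D).IsQuasicoherent :=
    ObjectProperty.prop_of_iso (SheafOfModules.isQuasicoherent.{u + 1} (OEtRing X)) e.symm ‹_›
  exact bcAll_of_isQuasicoherent _

end Groth.Agent.EtQC
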