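import Groth.Agent.EtQC.PresBC
import Groth.Agent.QCoh.ToSheaf

/-!
# Quasi-coherent modules have base change on affine objects
-/

set_option autoImplicit false
set_option backward.isDefEq.respectTransparency false
set_option backward.isDefEq.respectTransparency.types false

universe u

set_option maxHeartbeats 800000

open CategoryTheory CategoryTheory.Limits AlgebraicGeometry Opposite AlgSp
open scoped TensorProduct

namespace Groth.Agent.EtQC

variable {S : Scheme.{u}} {X : Sp S} {E : EtOver X}

/-- A coefficient vector as a section of the free presheaf. -/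
noncomputable def toPF {I : Type (u + 1)} {V : EtOver X} (g : V ⟶ E) (t : I →₀ Fn V) : PF I g :=
  (t.mapRange (fun a => upΓ V a) (map_zero _) : I →₀ ((OEtRing X).obj.obj (op V) : Type (u + 1)))

theorem toPF_surjective {I : Type (u + 1)} {V : EtOver X} (g : V ⟶ E) : Function.Surjective (toPF (I := I) g) :=
  fun t => ⟨(show I →₀ ((OEtRing X).obj.obj (op V) : Type (u + 1)) from t).mapRange ULift.down rfl,
    Finsupp.ext fun i => by
      show (Finsupp.mapRange (fun a => upΓ V a) (map_zero _)
        (Finsupp.mapRange ULift.down rfl (show I →₀ ((OEtRing X).obj.obj (op V) : Type (u + 1)) from t))) i = _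
      rw [Finsupp.mapRange_apply, Finsupp.mapRange_apply]
      rfl⟩

theorem toPF_injective {I : Type (u + 1)} {V : EtOver X} (g : V ⟶ E) : Function.Injective (toPF (I := I) g) :=
  Finsupp.mapRange_injective _ (map_zero _) (fun _ _ h => congrArg ULift.down h)

theorem toPF_map {I : Type (u + 1)} {V V' : EtOver X} (k : V' ⟶ V) {g : V ⟶ E} {g' : V' ⟶ E} (hk : k ≫ g = g')
    (t : I →₀ Fn V) :
    (FreeLoc.pfree (ROn E) I).map (sMap k hk) (toPF g t) = toPF g' (t.mapRange (fmap k) (map_zero _)) := by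
  refine coef_ext fun i => ?_
  rw [coef_map]
  show res (unitModEt X) k ((Finsupp.mapRange (fun a => upΓ V a) (map_zero _) t) i) =
    (Finsupp.mapRange (fun a => upΓ V' a) (map_zero _) (Finsupp.mapRange (fmap k) (map_zero _) t)) i
  rw [Finsupp.mapRange_apply, Finsupp.mapRange_apply, Finsupp.mapRange_apply]
  rfl

theorem app_toPF {I : Type (u + 1)} {G : PresheafOfModules.{u + 1} (ROn E).obj} (ψ : FreeLoc.pfree (ROn E) I ⟶ G)
    {V : EtOver X} (g : V ⟶ E) (t : I →₀ Fn V) :
    ψ.app (sObj g) (toPF g t) =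
      t.sum fun i a => (upΓ V a : (ROn E).obj.obj (sObj g)) •
        ψ.app (sObj g) (ModuleCat.freeMk (R := (ROn E).obj.obj (sObj g)) (X := I) i) := by
  induction t using Finsupp.induction_linear with
  | zero =>
    rw [Finsupp.sum_zero_index]
    refine Eq.trans (congrArg (ψ.app (sObj g)) ?_) (map_zero _)
    exact Finsupp.mapRange_zero
  | add x y hx hy =>
    rw [Finsupp.sum_add_index' (fun i => ?_) (fun i a b => ?_), ← hx, ← hy]
    · refine Eq.trans (congrArg (ψ.app (sObj g)) ?_) (map_add _ _ _)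
      exact Finsupp.mapRange_add (map_add _) x y
    · rw [map_zero]; exact zero_smul _ _
    · rw [map_add]; exact add_smul _ _ _
  | single i a =>
    rw [Finsupp.sum_single_index (by rw [map_zero]; exact zero_smul _ _), ← map_smul]
    refine congrArg (ψ.app (sObj g)) ?_
    show Finsupp.mapRange (fun a => upΓ V a) (map_zero _) (Finsupp.single i a) = _
    rw [Finsupp.mapRange_single]
    exact (Finsupp.smul_single_one i _).symm

/-- The morphism from the identity. -/
def topMap (W : (Over E)ᵒᵖ) : sObj (𝟙 E) ⟶ W :=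
  (Over.homMk (U := W.unop) (V := Over.mk (𝟙 E)) W.unop.hom (Category.comp_id _)).op

theorem map_topMap {I : Type (u + 1)} {W W' : (Over E)ᵒᵖ} (f : W ⟶ W') (z : PF I (𝟙 E)) :
    (FreeLoc.pfree (ROn E) I).map f ((FreeLoc.pfree (ROn E) I).map (topMap W) z) =
      (FreeLoc.pfree (ROn E) I).map (topMap W') z := by
  have e : topMap W ≫ f = topMap W' := Quiver.Hom.unop_inj (Over.OverMorphism.ext (Over.w f.unop))
  rw [← e]
  exact (PresheafOfModules.map_comp_apply (FreeLoc.pfree (ROn E) I) (topMap W) f z).symm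

/-- Sections of the free presheaf from their values at the identity. -/
noncomputable def secOfTop {I : Type (u + 1)} (c : I →₀ Fn E) : (FreeLoc.pfree (ROn E) I).sections where
  val W := (FreeLoc.pfree (ROn E) I).map (topMap W) (toPF (𝟙 E) c)
  property {W W'} f := map_topMap f (toPF (𝟙 E) c)

theorem pdesc_comp_η₀ {I K : Type (u + 1)} (N : SheafOfModules.{u + 1} (ROn E))
    (ι : N ⟶ SheafOfModules.free (R := ROn E) I) (s : K → N.sections) (c : K → I →₀ Fn E)
    (hc : ∀ k, (FreeLoc.η₀ (ROn E) I).app (sObj (𝟙 E)) (toPF (𝟙 E) (c k)) =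
      ι.val.app (sObj (𝟙 E)) ((s k).1 (sObj (𝟙 E)))) :
    FreeLoc.pdesc (fun k => secOfTop (c k)) ≫ FreeLoc.η₀ (ROn E) I =
      (FreeLoc.η₀ (ROn E) K ≫ (N.freeHomEquiv.symm s).val) ≫ ι.val := by
  refine FreeLoc.pfree_hom_ext fun W k => ?_
  let f : sObj (𝟙 E) ⟶ W := topMap W
  have a1 : (FreeLoc.pdesc (fun k => secOfTop (c k)) ≫ FreeLoc.η₀ (ROn E) I).app W
      (ModuleCat.freeMk (R := (ROn E).obj.obj W) (X := K) k) =
      (FreeLoc.η₀ (ROn E) I).app W ((FreeLoc.pfree (ROn E) I).map f (toPF (𝟙 E) (c k))) :=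
    congrArg ((FreeLoc.η₀ (ROn E) I).app W) (FreeLoc.pdesc_mk _ W k)
  have a2 := PresheafOfModules.naturality_apply (FreeLoc.η₀ (ROn E) I) f (toPF (𝟙 E) (c k))
  have a3 : ((FreeLoc.η₀ (ROn E) K ≫ (N.freeHomEquiv.symm s).val) ≫ ι.val).app W
      (ModuleCat.freeMk (R := (ROn E).obj.obj W) (X := K) k) = ι.val.app W ((s k).1 W) :=
    congrArg (ι.val.app W) ((congrArg ((N.freeHomEquiv.symm s).val.app W) (FreeLoc.pdesc_mk _ W k)).trans
      (congrArg (fun t => t.1 W) (SheafOfModules.sectionsMap_freeHomEquiv_symm_freeSection (M := N) s k)))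
  have a4 : (s k).1 W = N.val.map f ((s k).1 (sObj (𝟙 E))) := ((s k).2 f).symm
  rw [a1, a2, a3, a4, hc, PresheafOfModules.naturality_apply]

theorem toPF_smul_map {I : Type (u + 1)} {V : EtOver X} (g : V ⟶ E) (a : Fn V) (c : I →₀ Fn E) :
    toPF g (a • c.mapRange (fmap g) (map_zero _)) = (upΓ V a : (ROn E).obj.obj (sObj g)) •
      ((FreeLoc.pfree (ROn E) I).map (sMap g (g := 𝟙 E) (Category.comp_id _)) (toPF (𝟙 E) c)) := by
  rw [toPF_map]
  exact Finsupp.ext fun i => map_mul (upΓ V) a _

theorem pdesc_toPF {I K : Type (u + 1)} {V : EtOver X} (g : V ⟶ E) (c : K → I →₀ Fn E) (v : K →₀ Fn V) :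
    (FreeLoc.pdesc (fun k => secOfTop (c k))).app (sObj g) (toPF g v) =
      toPF g (v.sum fun k a => a • (c k).mapRange (fmap g) (map_zero _)) := by
  let L : (I →₀ Fn V) →+ PF I g := AddMonoidHom.mk' (toPF g) fun x y => Finsupp.mapRange_add (map_add _) x y
  show _ = L _
  rw [app_toPF, map_finsuppSum]
  refine Finsupp.sum_congr fun k _ => ?_
  rw [FreeLoc.pdesc_mk]
  exact (toPF_smul_map g (v k) (c k)).symm

variable [IsAffine E.obj.left.left] {M : ModEt X}

/-- A presentation over an affine object, with its index types. -/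
theorem exists_locPres' (p : (M.over E).Presentation) :
    ∃ P : LocPres M E, P.I = p.generators.I ∧ P.K = p.relations.I := by
  let I := p.generators.I
  let K := p.relations.I
  let π := p.generators.π
  let κ := p.relations.π
  let ψ : FreeLoc.pfree (ROn E) I ⟶ (M.over E).val := FreeLoc.η₀ (ROn E) I ≫ π.val
  let ρ : FreeLoc.pfree (ROn E) K ⟶ (kernel π).val := FreeLoc.η₀ (ROn E) K ≫ κ.val
  let e : I → sectModEt M E := fun i => (p.generators.s i).1 (sObj (𝟙 E))
  have hψ : ∀ {V : EtOver X} (g : V ⟶ E) (t : I →₀ Fn V),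
      ψ.app (sObj g) (toPF g t) = t.sum fun i a => a • res M g (e i) := by
    intro V g t
    rw [app_toPF]
    refine Finsupp.sum_congr fun i _ => congrArg ((upΓ V (t i) : (ROn E).obj.obj (sObj g)) • ·) ?_
    show π.val.app (sObj g) ((FreeLoc.η₀ (ROn E) I).app (sObj g) (ModuleCat.freeMk i)) = _
    rw [FreeLoc.η₀, FreeLoc.pdesc_mk]
    refine (congrArg (fun s => s.1 (sObj g))
      (SheafOfModules.sectionsMap_freeHomEquiv_symm_freeSection (M := M.over E) p.generators.s i)).trans ?_
    exact ((p.generators.s i).2 (sMap g (Category.comp_id g))).symm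
  have hψsurj : Presheaf.IsLocallySurjective ((etTop X).over E) ((PresheafOfModules.toPresheaf _).map ψ) := by
    haveI := (FreeLoc.isLocallyBijective_η₀ (R := ROn E) I).2
    haveI : Sheaf.IsLocallySurjective ((SheafOfModules.toSheaf _).map π) :=
      (Sheaf.isLocallySurjective_iff_epi' _ _).2 inferInstance
    rw [Functor.map_comp]
    exact Presheaf.isLocallySurjective_comp ((etTop X).over E)
      ((PresheafOfModules.toPresheaf _).map (FreeLoc.η₀ (ROn E) I))
      ((SheafOfModules.toSheaf _).map π).hom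
  have hρsurj : Presheaf.IsLocallySurjective ((etTop X).over E) ((PresheafOfModules.toPresheaf _).map ρ) := by
    haveI := (FreeLoc.isLocallyBijective_η₀ (R := ROn E) K).2
    haveI : Sheaf.IsLocallySurjective ((SheafOfModules.toSheaf _).map κ) :=
      (Sheaf.isLocallySurjective_iff_epi' _ _).2 inferInstance
    rw [Functor.map_comp]
    exact Presheaf.isLocallySurjective_comp ((etTop X).over E)
      ((PresheafOfModules.toPresheaf _).map (FreeLoc.η₀ (ROn E) K))
      ((SheafOfModules.toSheaf _).map κ).hom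
  have hcond : ∀ (W : (Over E)ᵒᵖ) (z), π.val.app W ((kernel.ι π).val.app W z) = 0 := fun W z =>
    congrArg (fun φ : kernel π ⟶ M.over E => φ.val.app W z) (kernel.condition π)
  choose c hc using fun k : K =>
    ((bijective_η₀ (I := I) (𝟙 E)).2.comp (toPF_surjective (I := I) (𝟙 E)))
      ((kernel.ι π).val.app (sObj (𝟙 E)) ((p.relations.s k).1 (sObj (𝟙 E))))
  refine ⟨{ I := I, K := K, e := e, c := c, rel := fun k => ?_, surj := fun V g hV s => ?_,
            exact := fun V g hV t ht => ?_ }, rfl, rfl⟩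
  · have h := hψ (𝟙 E) (c k)
    simp only [res_id] at h
    rw [← h]
    show π.val.app _ ((FreeLoc.η₀ (ROn E) I).app _ (toPF (𝟙 E) (c k))) = 0
    exact (congrArg _ (hc k)).trans (hcond _ _)
  · haveI := hV
    haveI := hψsurj
    obtain ⟨n, W, h, hW, hh, hcov⟩ := exists_slice_refinement g (Presheaf.imageSieve_mem ((etTop X).over E)
      ((PresheafOfModules.toPresheaf _).map ψ) (U := sObj g) s)
    refine ⟨n, W, h, hW, hcov, fun m => ?_⟩
    obtain ⟨t', ht'⟩ := hh m
    obtain ⟨t, rfl⟩ := toPF_surjective (h m ≫ g) t'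
    exact ⟨t, (hψ (h m ≫ g) t).symm.trans ht'⟩
  · haveI := hV
    haveI := hρsurj
    obtain ⟨z, hz⟩ : ∃ z, (kernel.ι π).val.app (sObj g) z = (FreeLoc.η₀ (ROn E) I).app (sObj g) (toPF g t) := by
      let F := SheafOfModules.evaluation (ROn E) (sObj g)
      haveI : PreservesFiniteLimits F := inferInstance
      have hex : (ShortComplex.mk (kernel.ι π) π (kernel.condition π)).Exact :=
        ShortComplex.exact_of_f_is_kernel _ (kernelIsKernel π)
      refine (ShortComplex.moduleCat_exact_iff _).1 (hex.map_of_mono_of_preservesKernel F inferInstance inferInstance) _ ?_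
      exact (hψ g t).trans ht
    obtain ⟨n, W, h, hW, hh, hcov⟩ := exists_slice_refinement g (Presheaf.imageSieve_mem ((etTop X).over E)
      ((PresheafOfModules.toPresheaf _).map ρ) (U := sObj g) z)
    refine ⟨n, W, h, hW, hcov, fun m => ?_⟩
    haveI := hW m
    obtain ⟨v', hv'⟩ := hh m
    obtain ⟨v, rfl⟩ := toPF_surjective (h m ≫ g) v'
    refine ⟨v, toPF_injective (h m ≫ g) ((bijective_η₀ (I := I) (h m ≫ g)).1 ?_)⟩
    have hσ := pdesc_comp_η₀ (kernel π) (kernel.ι π) p.relations.s c hc
    have a1 := congrArg (fun φ => PresheafOfModules.Hom.app φ (sObj (h m ≫ g)) (toPF (h m ≫ g) v)) hσ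
    rw [← toPF_map (h m) (g := g) rfl, ← pdesc_toPF (h m ≫ g) c v]
    refine Eq.trans ?_ a1.symm
    have a2 : (FreeLoc.η₀ (ROn E) I).app (sObj (h m ≫ g))
        ((FreeLoc.pfree (ROn E) I).map (sMap (h m) (g := g) rfl) (toPF g t)) =
        (kernel.ι π).val.app (sObj (h m ≫ g)) ((kernel π).val.map (sMap (h m) (g := g) rfl) z) := by
      have b1 := PresheafOfModules.naturality_apply (FreeLoc.η₀ (ROn E) I) (sMap (h m) (g := g) rfl) (toPF g t)
      have b2 := PresheafOfModules.naturality_apply (kernel.ι π).val (sMap (h m) (g := g) rfl) z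
      refine b1.trans (Eq.trans ?_ b2.symm)
      exact congrArg ((SheafOfModules.free (R := ROn E) I).val.map (sMap (h m) (g := g) rfl)) hz.symm
    exact a2.trans (congrArg ((kernel.ι π).val.app (sObj (h m ≫ g))) hv').symm

/-- A presentation over an affine object. -/
theorem exists_locPres (p : (M.over E).Presentation) : Nonempty (LocPres M E) :=
  ⟨(exists_locPres' p).choose⟩

/-- Base change holds over every affine object. -/
theorem bc_of_isQuasicoherent (M : ModEt X) [M.IsQuasicoherent] (E : EtOver X) [IsAffine E.obj.left.left] :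
    BC M E := by
  obtain ⟨q⟩ := SheafOfModules.IsQuasicoherent.nonempty_quasicoherentData (M := M)
  obtain ⟨n, V, h, hV, hR, hc⟩ := exists_affine_refinement (q.coversTop E)
  haveI := hV
  refine BC.of_cover V h hc fun i => ?_
  obtain ⟨j, ⟨a⟩⟩ := hR i
  haveI := hV i
  let F := SheafOfModules.overMap.{u + 1} (OEtRing X) a
  exact LocPres.bc (exists_locPres ((q.presentation j).map F
    (SheafOfModules.overMapUnitIso (R := OEtRing X) a).symm |>.ofIsIso ((SheafOfModules.overFunctorMap (OEtRing X) a).app M).hom)).some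

end Groth.Agent.EtQC
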