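import Groth.Agent.EtQC.WeakAss
import Groth.Agent.EtQC.FromPres

/-!
# Short exact sequences and sections on affine objects
-/

set_option autoImplicit false
set_option backward.isDefEq.respectTransparency false
set_option backward.isDefEq.respectTransparency.types false

universe u

set_option maxHeartbeats 1600000

open CategoryTheory CategoryTheory.Limits AlgebraicGeometry Opposite AlgSp
open scoped TensorProduct

namespace Groth.Agent.EtQC

variable {S : Scheme.{u}} {X : Sp S}

section App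

variable {M N : ModEt X} (φ : M ⟶ N)

/-- A morphism of modules on sections, additively. -/
noncomputable def appH (E : EtOver X) : sectModEt M E →+ sectModEt N E := (φ.val.app (op E)).hom.toAddMonoidHom

/-- A morphism of modules on sections. -/
noncomputable def app (E : EtOver X) : sectModEt M E →ₗ[Fn E] sectModEt N E where
  toFun := appH φ E
  map_add' := map_add _
  map_smul' a s := map_smul (φ.val.app (op E)).hom (upΓ E a) s

theorem appH_res {E E' : EtOver X} (g : E' ⟶ E) (s : sectModEt M E) :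
    appH φ E' (res M g s) = res N g (appH φ E s) :=
  PresheafOfModules.naturality_apply φ.val g.op s

theorem app_res {E E' : EtOver X} (g : E' ⟶ E) (s : sectModEt M E) :
    app φ E' (res M g s) = res N g (app φ E s) := by
  exact appH_res φ g s

theorem gam_app {E E' : EtOver X} (g : E' ⟶ E) :
    letI := (fmap g).toAlgebra
    ∀ z : Fn E' ⊗[Fn E] sectModEt M E, gam (RingHom.id (Fn E')) (res N g) (res_smul' N g) ((app φ E).lTensor (Fn E') z) =
      app φ E' (gam (RingHom.id (Fn E')) (res M g) (res_smul' M g) z) := by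
  letI := (fmap g).toAlgebra
  intro z
  induction z using TensorProduct.induction_on with
  | zero => simp
  | add x y hx hy => rw [map_add, map_add, map_add, map_add, hx, hy]
  | tmul b s =>
    rw [LinearMap.lTensor_tmul, gam_tmul, gam_tmul, map_smul, app_res]

theorem app_injective [Mono φ] (E : EtOver X) : Function.Injective (app φ E) := by
  let F := SheafOfModules.evaluation (OEtRing X) (op E)
  haveI : PreservesFiniteLimits F := inferInstance
  have h : Function.Injective (φ.val.app (op E)) :=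
    (ModuleCat.mono_iff_injective (φ.val.app (op E))).1 (inferInstanceAs (Mono (F.map φ)))
  exact h

/-- An epimorphism lifts sections on an affine covering. -/
theorem exists_local_lift [Epi φ] {E : EtOver X} [IsAffine E.obj.left.left] (t : sectModEt N E) :
    ∃ (n : ℕ) (W : Fin n → EtOver X) (h : ∀ i, W i ⟶ E), (∀ i, IsAffine (W i).obj.left.left) ∧
      (∀ x : ↥E.obj.left.left, ∃ i, x ∈ Set.range (h i).hom.left.left) ∧
      ∀ i, ∃ s : sectModEt M (W i), app φ (W i) s = res N (h i) t := by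
  haveI : Sheaf.IsLocallySurjective ((SheafOfModules.toSheaf (OEtRing X)).map φ) :=
    (Sheaf.isLocallySurjective_iff_epi' _ _).2 inferInstance
  obtain ⟨n, W, h, hW, hR, hc⟩ := exists_affine_refinement (Presheaf.imageSieve_mem (etTop X)
    ((SheafOfModules.toSheaf (OEtRing X)).map φ).hom (U := op E) t)
  exact ⟨n, W, h, hW, hc, fun i => hR i⟩

end App

section Sequence

variable {T : ShortComplex (ModEt X)}

/-- Sections are left exact. -/
theorem app_exact (hT : T.Exact) [Mono T.f] (E : EtOver X) : Function.Exact (app T.f E) (app T.g E) := by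
  let F := SheafOfModules.evaluation.{u + 1} (OEtRing X) (op E)
  haveI : PreservesFiniteLimits F := inferInstance
  haveI : F.Additive :=
    inferInstanceAs (SheafOfModules.forget.{u + 1} (OEtRing X) ⋙ PresheafOfModules.evaluation _ (op E)).Additive
  have h : Function.Exact (T.f.val.app (op E)) (T.g.val.app (op E)) :=
    (ShortComplex.ShortExact.moduleCat_exact_iff_function_exact _).1
      (hT.map_of_mono_of_preservesKernel F inferInstance inferInstance)
  exact h

theorem bc_left_at (hT : T.Exact) [Mono T.f] {E E' : EtOver X} (g : E' ⟶ E) [IsAffine E.obj.left.left]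
    [IsAffine E'.obj.left.left] (h₂ : BCAt T.X₂ g) (h₃ : BCAt T.X₃ g) : BCAt T.X₁ g := by
  letI := (fmap g).toAlgebra
  haveI : Module.Flat (Fn E) (Fn E') := flat_fmap g
  refine ⟨fun z z' hz => ?_, fun y => ?_⟩
  · refine Module.Flat.lTensor_preserves_injective_linearMap (M := Fn E') (app T.f E) (app_injective T.f E) (h₂.1 ?_)
    rw [gam_app, gam_app, hz]
  · obtain ⟨w, hw⟩ := h₂.2 (app T.f E' y)
    have h0 : (app T.g E).lTensor (Fn E') w = 0 := h₃.1 (by
      rw [gam_app, hw, map_zero]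
      exact (app_exact hT E').apply_apply_eq_zero y)
    obtain ⟨z, hz⟩ := (Module.Flat.lTensor_exact (Fn E') (app_exact hT E) w).1 h0
    refine ⟨z, app_injective T.f E' ?_⟩
    rw [← gam_app, hz, hw]

theorem bc_left (hT : T.Exact) [Mono T.f] {E : EtOver X} [IsAffine E.obj.left.left] (h₂ : BC T.X₂ E) (h₃ : BC T.X₃ E) :
    BC T.X₁ E := fun E' g hE' =>
  haveI := hE'
  bc_left_at hT g (h₂ E' g hE') (h₃ E' g hE')

theorem bc_middle_at (hT : T.Exact) [Mono T.f] {E E' : EtOver X} (g : E' ⟶ E) [IsAffine E.obj.left.left]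
    [IsAffine E'.obj.left.left] (hs : Function.Surjective (app T.g E))
    (h₁ : BCAt T.X₁ g) (h₃ : BCAt T.X₃ g) : BCAt T.X₂ g := by
  letI := (fmap g).toAlgebra
  haveI : Module.Flat (Fn E) (Fn E') := flat_fmap g
  refine ⟨(injective_iff_map_eq_zero _).2 fun z hz => ?_, fun y => ?_⟩
  · have h0 : (app T.g E).lTensor (Fn E') z = 0 := h₃.1 (by rw [gam_app, hz, map_zero, map_zero])
    obtain ⟨w, rfl⟩ := (Module.Flat.lTensor_exact (Fn E') (app_exact hT E) z).1 h0
    rw [gam_app, ← map_zero (app T.f E')] at hz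
    rw [h₁.1 ((app_injective T.f E' hz).trans (map_zero _).symm), map_zero]
  · obtain ⟨w, hw⟩ := h₃.2 (app T.g E' y)
    obtain ⟨v, rfl⟩ := LinearMap.lTensor_surjective (Fn E') hs w
    rw [gam_app] at hw
    obtain ⟨x, hx⟩ := (app_exact hT E' _).1 (show app T.g E' (y - gam (RingHom.id (Fn E')) (res T.X₂ g)
      (res_smul' T.X₂ g) v) = 0 by rw [map_sub, hw, sub_self])
    obtain ⟨u, rfl⟩ := h₁.2 x
    refine ⟨v + (app T.f E).lTensor (Fn E') u, ?_⟩
    rw [map_add, gam_app, hx, add_sub_cancel]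

theorem bc_right_at (hT : T.Exact) [Mono T.f] {E E' : EtOver X} (g : E' ⟶ E)
    (hs : Function.Surjective (app T.g E)) (hs' : Function.Surjective (app T.g E'))
    (h₁ : BCAt T.X₁ g) (h₂ : BCAt T.X₂ g) : BCAt T.X₃ g := by
  letI := (fmap g).toAlgebra
  refine ⟨(injective_iff_map_eq_zero _).2 fun z hz => ?_, fun y => ?_⟩
  · obtain ⟨w, rfl⟩ := LinearMap.lTensor_surjective (Fn E') hs z
    rw [gam_app] at hz
    obtain ⟨x, hx⟩ := (app_exact hT E' _).1 hz
    obtain ⟨v, rfl⟩ := h₁.2 x
    rw [← gam_app] at hx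
    have h0 : app T.g E ∘ₗ app T.f E = 0 := LinearMap.ext fun s => (app_exact hT E).apply_apply_eq_zero s
    rw [← h₂.1 hx, ← LinearMap.comp_apply, ← LinearMap.lTensor_comp, h0, LinearMap.lTensor_zero, LinearMap.zero_apply]
  · obtain ⟨s, rfl⟩ := hs' y
    obtain ⟨w, rfl⟩ := h₂.2 s
    exact ⟨_, gam_app T.g g w⟩

theorem piRight_eq_lTensor_proj {R : Type u} [CommRing R] {B : Type u} [AddCommGroup B] [Module R B] {ι : Type}
    [Fintype ι] [DecidableEq ι] {P : ι → Type (u + 1)} [∀ k, AddCommGroup (P k)] [∀ k, Module R (P k)]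
    (x : B ⊗[R] (∀ k, P k)) (k : ι) :
    TensorProduct.piRight R R B P x k = (LinearMap.proj (R := R) (φ := P) k).lTensor B x := by
  induction x using TensorProduct.induction_on with
  | zero => simp
  | add x y hx hy => simp only [map_add, Pi.add_apply, hx, hy]
  | tmul b p => simp

/-- The computation of a coboundary after tensoring. -/
theorem coboundary_lTensor {R : Type u} [CommRing R] {B : Type u} [AddCommGroup B] [Module R B] [One B] {n : ℕ}
    {P : Fin n → Type (u + 1)} [∀ i, AddCommGroup (P i)] [∀ i, Module R (P i)]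
    {Q : Fin n × Fin n → Type (u + 1)} [∀ k, AddCommGroup (Q k)] [∀ k, Module R (Q k)]
    (f : (∀ i, P i) →ₗ[R] ∀ k, Q k) (d₁ : ∀ k : Fin n × Fin n, P k.1 →ₗ[R] Q k)
    (d₂ : ∀ k : Fin n × Fin n, P k.2 →ₗ[R] Q k)
    (hf : ∀ k, LinearMap.proj k ∘ₗ f = d₁ k ∘ₗ LinearMap.proj k.1 - d₂ k ∘ₗ LinearMap.proj k.2)
    (z : ∀ k, Q k) {C : Fin n × Fin n → Type (u + 1)} [∀ k, AddCommGroup (C k)]
    (γ : ∀ k, B ⊗[R] Q k →+ C k) (hγ : ∀ k, Function.Injective (γ k)) (v : ∀ i, B ⊗[R] P i)
    (hv : ∀ k, γ k ((d₁ k).lTensor B (v k.1)) - γ k ((d₂ k).lTensor B (v k.2)) = γ k ((1 : B) ⊗ₜ[R] z k)) :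
    (1 : B) ⊗ₜ[R] z ∈ LinearMap.range (f.lTensor B) := by
  refine ⟨(TensorProduct.piRight R R B P).symm v, (TensorProduct.piRight R R B Q).injective (funext fun k => hγ k ?_)⟩
  rw [piRight_eq_lTensor_proj, ← LinearMap.comp_apply, ← LinearMap.lTensor_comp, hf, LinearMap.lTensor_sub,
    LinearMap.sub_apply, LinearMap.lTensor_comp, LinearMap.lTensor_comp, LinearMap.comp_apply, LinearMap.comp_apply,
    ← piRight_eq_lTensor_proj, ← piRight_eq_lTensor_proj, LinearEquiv.apply_symm_apply, map_sub, hv,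
    piRight_eq_lTensor_proj, LinearMap.lTensor_tmul, LinearMap.proj_apply]

/-- A cochain which becomes a coboundary on the members of an affine covering is a coboundary. -/
theorem exists_coboundary (A : ModEt X) {E : EtOver X} [IsAffine E.obj.left.left] {n : ℕ} (V : Fin n → EtOver X)
    [∀ i, IsAffine (V i).obj.left.left] (h : ∀ i, V i ⟶ E)
    (hc : ∀ x : ↥E.obj.left.left, ∃ i, x ∈ Set.range (h i).hom.left.left)
    (hA : ∀ (V : EtOver X), IsAffine V.obj.left.left → BC A V)
    (z : ∀ k : Fin n × Fin n, sectModEt A (EtOver.pullbackObj (h k.1) (h k.2)))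
    (hz : ∀ m, ∃ y : ∀ i, sectModEt A (EtOver.pullbackObj (h m) (h i)), ∀ (k : Fin n × Fin n) (Z : EtOver X)
      (u₁ : Z ⟶ EtOver.pullbackObj (h m) (h k.1)) (u₂ : Z ⟶ EtOver.pullbackObj (h m) (h k.2))
      (w : Z ⟶ EtOver.pullbackObj (h k.1) (h k.2)),
      u₁ ≫ EtOver.pullbackFst _ _ = u₂ ≫ EtOver.pullbackFst _ _ →
      u₁ ≫ EtOver.pullbackSnd _ _ = w ≫ EtOver.pullbackFst _ _ →
      u₂ ≫ EtOver.pullbackSnd _ _ = w ≫ EtOver.pullbackSnd _ _ →
        res A u₁ (y k.1) - res A u₂ (y k.2) = res A w (z k)) :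
    ∃ d : ∀ i, sectModEt A (V i), ∀ k : Fin n × Fin n,
      res A (EtOver.pullbackFst (h k.1) (h k.2)) (d k.1) - res A (EtOver.pullbackSnd (h k.1) (h k.2)) (d k.2) =
        z k := by
  classical
  let F : Fin n × Fin n → EtOver X := fun k => EtOver.pullbackObj (h k.1) (h k.2)
  let p₁ : ∀ k, F k ⟶ V k.1 := fun k => EtOver.pullbackFst _ _
  let p₂ : ∀ k, F k ⟶ V k.2 := fun k => EtOver.pullbackSnd _ _
  let q : ∀ k, F k ⟶ E := fun k => p₁ k ≫ h k.1
  have hq : ∀ k, p₂ k ≫ h k.2 = q k := fun k => (EtOver.pullback_condition _ _).symm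
  haveI : ∀ k, IsAffine (F k).obj.left.left := fun k => inferInstance
  letI : ∀ i, Module (Fn E) (sectModEt A (V i)) := fun i => modRes A (h i)
  letI : ∀ k, Module (Fn E) (sectModEt A (F k)) := fun k => modRes A (q k)
  let d₁ : ∀ k : Fin n × Fin n, sectModEt A (V k.1) →ₗ[Fn E] sectModEt A (F k) := fun k =>
    { toFun := res A (p₁ k)
      map_add' := map_add _
      map_smul' := fun c x => by
        show res A (p₁ k) (fmap (h k.1) c • x) = fmap (q k) c • res A (p₁ k) x
        rw [res_smul, ← fmap_comp] }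
  let d₂ : ∀ k : Fin n × Fin n, sectModEt A (V k.2) →ₗ[Fn E] sectModEt A (F k) := fun k =>
    { toFun := res A (p₂ k)
      map_add' := map_add _
      map_smul' := fun c x => by
        show res A (p₂ k) (fmap (h k.2) c • x) = fmap (q k) c • res A (p₂ k) x
        rw [res_smul, ← fmap_comp, hq] }
  let f : (∀ i, sectModEt A (V i)) →ₗ[Fn E] ∀ k, sectModEt A (F k) := LinearMap.pi fun k =>
    d₁ k ∘ₗ LinearMap.proj k.1 - d₂ k ∘ₗ LinearMap.proj k.2
  obtain ⟨d, hd⟩ : z ∈ LinearMap.range f := by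
    letI : ∀ m, Algebra (Fn E) (Fn (V m)) := fun m => (fmap (h m)).toAlgebra
    haveI : ∀ m, Module.Flat (Fn E) (Fn (V m)) := fun m => flat_fmap (h m)
    refine mem_range_of_forall_flat (fun m => Fn (V m)) (fun p hp => LocPres.exists_prime_over V h hc p hp) f z
      fun m => ?_
    let g := h m
    let W : Fin n → EtOver X := fun i => EtOver.pullbackObj g (h i)
    let a : ∀ i, W i ⟶ V m := fun i => EtOver.pullbackFst _ _
    let b : ∀ i, W i ⟶ V i := fun i => EtOver.pullbackSnd _ _
    let G : Fin n × Fin n → EtOver X := fun k => EtOver.pullbackObj g (q k)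
    let ak : ∀ k, G k ⟶ V m := fun k => EtOver.pullbackFst _ _
    let bk : ∀ k, G k ⟶ F k := fun k => EtOver.pullbackSnd _ _
    have wk : ∀ k, ak k ≫ g = bk k ≫ q k := fun k => EtOver.pullback_condition _ _
    let u₁ : ∀ k, G k ⟶ W k.1 := fun k =>
      (EtOver.isPullback g (h k.1)).lift (ak k) (bk k ≫ p₁ k) (by rw [wk, Category.assoc])
    let u₂ : ∀ k, G k ⟶ W k.2 := fun k =>
      (EtOver.isPullback g (h k.2)).lift (ak k) (bk k ≫ p₂ k) (by rw [wk, Category.assoc, hq])
    have hu₁a : ∀ k, u₁ k ≫ a k.1 = ak k := fun k => (EtOver.isPullback g (h k.1)).lift_fst _ _ _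
    have hu₁b : ∀ k, u₁ k ≫ b k.1 = bk k ≫ p₁ k := fun k => (EtOver.isPullback g (h k.1)).lift_snd _ _ _
    have hu₂a : ∀ k, u₂ k ≫ a k.2 = ak k := fun k => (EtOver.isPullback g (h k.2)).lift_fst _ _ _
    have hu₂b : ∀ k, u₂ k ≫ b k.2 = bk k ≫ p₂ k := fun k => (EtOver.isPullback g (h k.2)).lift_snd _ _ _
    have hr : ∀ i (c : Fn E) (x : sectModEt A (V i)),
        res A (b i) (c • x) = fmap (a i) (algebraMap (Fn E) (Fn (V m)) c) • res A (b i) x := fun i c x => by
      show res A (b i) (fmap (h i) c • x) = fmap (a i) (fmap g c) • _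
      rw [res_smul, ← fmap_comp, ← fmap_comp, ← EtOver.pullback_condition]
    have hrk : ∀ k (c : Fn E) (x : sectModEt A (F k)),
        res A (bk k) (c • x) = fmap (ak k) (algebraMap (Fn E) (Fn (V m)) c) • res A (bk k) x := fun k c x => by
      show res A (bk k) (fmap (q k) c • x) = fmap (ak k) (fmap g c) • _
      rw [res_smul, ← fmap_comp, ← fmap_comp, wk]
    let γ := fun i => gam (fmap (a i)) (res A (b i)) (hr i)
    let γk := fun k => gam (fmap (ak k)) (res A (bk k)) (hrk k)
    have hγ : ∀ i, Function.Bijective (γ i) := fun i =>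
      bijective_gam_of_square A (hA _ inferInstance) g (h i) (a i) (b i) (isPushout_fn g (h i)) (hr i)
    have hγk : ∀ k, Function.Bijective (γk k) := fun k =>
      bijective_gam_of_square A (hA _ inferInstance) g (q k) (ak k) (bk k) (isPushout_fn g (q k)) (hrk k)
    have hn₁ : ∀ k x, γk k ((d₁ k).lTensor (Fn (V m)) x) = res A (u₁ k) (γ k.1 x) := fun k x => by
      induction x using TensorProduct.induction_on with
      | zero => simp only [map_zero]
      | add x y hx hy => simp only [map_add, hx, hy]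
      | tmul c x =>
        show fmap (ak k) c • res A (bk k) (res A (p₁ k) x) = res A (u₁ k) (fmap (a k.1) c • res A (b k.1) x)
        rw [res_smul, ← res_comp, ← res_comp, ← fmap_comp, hu₁a, hu₁b]
    have hn₂ : ∀ k x, γk k ((d₂ k).lTensor (Fn (V m)) x) = res A (u₂ k) (γ k.2 x) := fun k x => by
      induction x using TensorProduct.induction_on with
      | zero => simp only [map_zero]
      | add x y hx hy => simp only [map_add, hx, hy]
      | tmul c x =>
        show fmap (ak k) c • res A (bk k) (res A (p₂ k) x) = res A (u₂ k) (fmap (a k.2) c • res A (b k.2) x)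
        rw [res_smul, ← res_comp, ← res_comp, ← fmap_comp, hu₂a, hu₂b]
    obtain ⟨y, hy⟩ := hz m
    choose v hv using fun i => (hγ i).2 (y i)
    exact coboundary_lTensor f d₁ d₂ (fun k => rfl) z γk (fun k => (hγk k).1) v fun k => by
      rw [hn₁, hn₂, hv, hv]
      refine (hy k (G k) (u₁ k) (u₂ k) (bk k) ((hu₁a k).trans (hu₂a k).symm) (hu₁b k) (hu₂b k)).trans ?_
      show _ = fmap (ak k) 1 • res A (bk k) (z k)
      rw [map_one, one_smul]
  exact ⟨d, fun k => congrFun hd k⟩

/-- Sections over affine objects of an extension of a module with base change surject onto the quotient. -/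
theorem app_surjective (hT : T.Exact) [Mono T.f] [Epi T.g] {E : EtOver X} [IsAffine E.obj.left.left]
    (h₁ : ∀ (V : EtOver X), IsAffine V.obj.left.left → BC T.X₁ V) : Function.Surjective (app T.g E) := by
  intro t
  obtain ⟨n, V, h, hV, hc, hlift⟩ := exists_local_lift T.g t
  haveI := hV
  choose s hs using hlift
  have hz0 : ∀ k : Fin n × Fin n, app T.g _ (res T.X₂ (EtOver.pullbackFst (h k.1) (h k.2)) (s k.1) -
      res T.X₂ (EtOver.pullbackSnd (h k.1) (h k.2)) (s k.2)) = 0 := fun k => by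
    rw [map_sub, app_res, app_res, hs, hs, ← res_comp, ← res_comp, EtOver.pullback_condition, sub_self]
  choose z hz using fun k => (app_exact hT _ _).1 (hz0 k)
  have hcob : ∀ m, ∃ y : ∀ i, sectModEt T.X₁ (EtOver.pullbackObj (h m) (h i)), ∀ (k : Fin n × Fin n) (Z : EtOver X)
      (u₁ : Z ⟶ EtOver.pullbackObj (h m) (h k.1)) (u₂ : Z ⟶ EtOver.pullbackObj (h m) (h k.2))
      (w : Z ⟶ EtOver.pullbackObj (h k.1) (h k.2)),
      u₁ ≫ EtOver.pullbackFst _ _ = u₂ ≫ EtOver.pullbackFst _ _ →
      u₁ ≫ EtOver.pullbackSnd _ _ = w ≫ EtOver.pullbackFst _ _ →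
      u₂ ≫ EtOver.pullbackSnd _ _ = w ≫ EtOver.pullbackSnd _ _ →
        res T.X₁ u₁ (y k.1) - res T.X₁ u₂ (y k.2) = res T.X₁ w (z k) := fun m => by
    have hy0 : ∀ i, app T.g _ (res T.X₂ (EtOver.pullbackSnd (h m) (h i)) (s i) -
        res T.X₂ (EtOver.pullbackFst (h m) (h i)) (s m)) = 0 := fun i => by
      rw [map_sub, app_res, app_res, hs, hs, ← res_comp, ← res_comp, EtOver.pullback_condition, sub_self]
    choose y hy using fun i => (app_exact hT _ _).1 (hy0 i)
    refine ⟨y, fun k Z u₁ u₂ w e₁ e₂ e₃ => app_injective T.f Z ?_⟩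
    rw [map_sub, app_res, app_res, app_res, hy, hy, hz, map_sub, map_sub, map_sub, ← res_comp, ← res_comp,
      ← res_comp, ← res_comp, ← res_comp, ← res_comp, e₁, e₂, e₃, sub_sub_sub_cancel_right]
  obtain ⟨d, hd⟩ := exists_coboundary T.X₁ V h hc h₁ z hcob
  obtain ⟨u, hu⟩ := exists_glue T.X₂ (ι := ULift.{u + 1} (Fin n)) (fun i => V i.down) (fun i => h i.down)
    (fun x => by obtain ⟨i, hi⟩ := hc x; exact ⟨⟨i⟩, hi⟩) (fun i => s i.down - app T.f (V i.down) (d i.down))
    (fun i j => by
      have e := congrArg (app T.f _) (hd (i.down, j.down))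
      rw [map_sub, app_res, app_res, hz] at e
      rw [map_sub, map_sub, sub_eq_sub_iff_sub_eq_sub]
      exact e.symm)
  refine ⟨u, ext_of_cover T.X₃ V h hc fun i => ?_⟩
  rw [← app_res, hu ⟨i⟩, map_sub, (app_exact hT (V i)).apply_apply_eq_zero, sub_zero, hs]

end Sequence

section Short

variable {T : ShortComplex (ModEt X)} (hT : T.ShortExact)

include hT

theorem bc_middle (h₁ : ∀ (V : EtOver X), IsAffine V.obj.left.left → BC T.X₁ V) {E : EtOver X}
    [IsAffine E.obj.left.left] (h₃ : BC T.X₃ E) : BC T.X₂ E := fun E' g hE' => by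
  haveI := hE'; haveI := hT.mono_f; haveI := hT.epi_g
  exact bc_middle_at hT.exact g (app_surjective hT.exact h₁) (h₁ E ‹_› E' g hE') (h₃ E' g hE')

theorem bc_right (h₁ : ∀ (V : EtOver X), IsAffine V.obj.left.left → BC T.X₁ V) {E : EtOver X}
    [IsAffine E.obj.left.left] (h₂ : BC T.X₂ E) : BC T.X₃ E := fun E' g hE' => by
  haveI := hE'; haveI := hT.mono_f; haveI := hT.epi_g
  exact bc_right_at hT.exact g (app_surjective hT.exact h₁) (app_surjective hT.exact h₁)
    (h₁ E ‹_› E' g hE') (h₂ E' g hE')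

end Short

end Groth.Agent.EtQC
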