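import Groth.Agent.EtQC.Coh
import Groth.Agent.AlgSpDec.EtPullRestrict

/-!
# Pullback along an etale morphism
-/

set_option autoImplicit false
set_option backward.isDefEq.respectTransparency false
set_option backward.isDefEq.respectTransparency.types false

universe u

set_option maxHeartbeats 1600000

open CategoryTheory CategoryTheory.Limits AlgebraicGeometry Opposite AlgSp
open scoped TensorProduct

namespace Groth.Agent.EtQC

variable {S : Scheme.{u}} {X Y : Sp S} {f : X ⟶ Y}

/-- Restriction along an etale morphism keeps base change. -/
theorem bcAll_restrict (hf : IsEtaleMor f) {M : ModEt Y} (h : BCAll M) :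
    haveI := AlgSpDec.PostcompSite.isContinuous f hf
    BCAll ((SheafOfModules.pushforward.{u + 1} (AlgSpDec.EtPullRestrict.φ hf)).obj M) := by
  haveI := AlgSpDec.PostcompSite.isContinuous f hf
  intro W hW W' g hW'
  exact h ((EtOver.postcomp f hf).obj W) hW ((EtOver.postcomp f hf).obj W') ((EtOver.postcomp f hf).map g) hW'

/-- Pullback along an etale morphism keeps quasi-coherence. -/
theorem isQuasicoherent_pull (hrep : Representable f) (hf : IsEtaleMor f)
    [(SheafOfModules.pushforward.{u + 1} (bcRingHom hrep)).IsRightAdjoint] {M : ModEt Y} (h : BCAll M) :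
    ((pullModEt hrep).obj M).IsQuasicoherent := by
  haveI := AlgSpDec.PostcompSite.isContinuous f hf
  exact ObjectProperty.prop_of_iso (SheafOfModules.isQuasicoherent.{u + 1} (OEtRing X))
    (((AlgSpDec.EtPullRestrict.modAdj hrep hf).leftAdjointUniq (pullPushAdjModEt hrep)).app M)
    (bcAll_restrict hf h).isQuasicoherent

end Groth.Agent.EtQC
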