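import Groth.Agent.EtQC.Push
import Groth.Agent.AlgSpQMod.Push

/-!
# Direct images along quasi-compact quasi-separated morphisms
-/

set_option autoImplicit false
set_option backward.isDefEq.respectTransparency false
set_option backward.isDefEq.respectTransparency.types false

universe u

set_option maxHeartbeats 1600000

open CategoryTheory CategoryTheory.Limits AlgebraicGeometry Opposite AlgSp
open scoped TensorProduct

namespace Groth.Agent.EtQC

variable {S : Scheme.{u}} {X Y : Sp S} {f : X ⟶ Y}

/-- A compact object has a finite affine covering. -/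
theorem exists_finite_affine (B : EtOver X) [CompactSpace ↥B.obj.left.left] :
    ∃ (n : ℕ) (V : Fin n → EtOver X) (h : ∀ i, V i ⟶ B), (∀ i, IsAffine (V i).obj.left.left) ∧
      (∀ i, IsOpenImmersion (h i).hom.left.left) ∧
      ∀ x : ↥B.obj.left.left, ∃ i, x ∈ Set.range (h i).hom.left.left := by
  choose O hO hxO _ using fun x : ↥B.obj.left.left =>
    exists_isAffineOpen_mem_and_subset (x := x) (U := (⊤ : B.obj.left.left.Opens)) trivial
  obtain ⟨T, hT⟩ := isCompact_univ.elim_finite_subcover (fun x => (O x : Set ↥B.obj.left.left))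
    (fun x => (O x).isOpen) fun x _ => Set.mem_iUnion.2 ⟨x, hxO x⟩
  refine ⟨T.card, fun i => AlgSpDec.etOpen B (O (T.equivFin.symm i).1), fun i => AlgSpDec.etOpenι _ _,
    fun i => hO _, fun i => inferInstanceAs (IsOpenImmersion (O (T.equivFin.symm i).1).ι), fun x => ?_⟩
  obtain ⟨y, hyT, hy⟩ := Set.mem_iUnion₂.1 (hT (Set.mem_univ x))
  have key : ∀ z : T, z = ⟨y, hyT⟩ → x ∈ Set.range (O z.1).ι := by
    rintro _ rfl
    exact ⟨⟨x, hy⟩, rfl⟩
  exact ⟨T.equivFin ⟨y, hyT⟩, key _ (T.equivFin.symm_apply_apply _)⟩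

variable (hf : Representable f)

/-- Functions on an object over a base change, as an algebra over the functions of the base. -/
noncomputable def baseFun {E : EtOver Y} {V : EtOver X} (h : V ⟶ EtOver.bcObj hf E) : Fn E →+* Fn V :=
  (fmap h).comp (bcFun hf E)

theorem baseFun_comp {E : EtOver Y} {V V' : EtOver X} (h : V ⟶ EtOver.bcObj hf E) (k : V' ⟶ V) (a : Fn E) :
    fmap k (baseFun hf h a) = baseFun hf (k ≫ h) a :=
  (fmap_comp h k (bcFun hf E a)).symm

theorem bcFun_bcMap {E E' : EtOver Y} (g : E' ⟶ E) (a : Fn E) :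
    fmap (EtOver.bcMap hf g) (bcFun hf E a) = bcFun hf E' (fmap g a) := by
  have h := (EtOver.isPullback_bcMap_left hf g).w
  exact congrArg (fun φ : Γ(E.obj.left.left, ⊤) ⟶ Γ((EtOver.bcObj hf E').obj.left.left, ⊤) => φ.hom a)
    ((Scheme.Hom.comp_appTop _ _).symm.trans ((congrArg Scheme.Hom.appTop h).trans (Scheme.Hom.comp_appTop _ _)))

/-- The fibre product of an affine piece of a base change. -/
theorem isPullback_piece {E E' : EtOver Y} (g : E' ⟶ E) {V : EtOver X} (h : V ⟶ EtOver.bcObj hf E) :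
    IsPullback (EtOver.pullbackSnd (EtOver.bcMap hf g) h).hom.left.left
      ((EtOver.pullbackFst (EtOver.bcMap hf g) h).hom.left.left ≫ (EtOver.bcπ hf E').left)
      (h.hom.left.left ≫ (EtOver.bcπ hf E).left) g.hom.left.left :=
  (isPullback_left (EtOver.bcMap hf g) h).flip.paste_vert (EtOver.isPullback_bcMap_left hf g)

theorem isAffine_piece {E E' : EtOver Y} (g : E' ⟶ E) {V : EtOver X} (h : V ⟶ EtOver.bcObj hf E)
    [IsAffine E.obj.left.left] [IsAffine E'.obj.left.left] [IsAffine V.obj.left.left] :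
    IsAffine (EtOver.pullbackObj (EtOver.bcMap hf g) h).obj.left.left :=
  IsAffine.of_isIso (isPullback_piece hf g h).isoPullback.hom

/-- Base change on an affine piece. -/
theorem bijective_piece {M : ModEt X} {E E' : EtOver Y} (g : E' ⟶ E) {V : EtOver X} (h : V ⟶ EtOver.bcObj hf E)
    [IsAffine E.obj.left.left] [IsAffine E'.obj.left.left] [IsAffine V.obj.left.left] (hM : BC M V)
    (hr : letI := (fmap g).toAlgebra; letI := Module.compHom (sectModEt M V) (baseFun hf h)
      ∀ (c : Fn E) (s : sectModEt M V), res M (EtOver.pullbackSnd (EtOver.bcMap hf g) h) (c • s) =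
        baseFun hf (EtOver.pullbackFst (EtOver.bcMap hf g) h) (algebraMap (Fn E) (Fn E') c) •
          res M (EtOver.pullbackSnd (EtOver.bcMap hf g) h) s) :
    letI := (fmap g).toAlgebra; letI := Module.compHom (sectModEt M V) (baseFun hf h)
    Function.Bijective (gam (baseFun hf (EtOver.pullbackFst (EtOver.bcMap hf g) h))
      (res M (EtOver.pullbackSnd (EtOver.bcMap hf g) h)) hr) := by
  haveI := isAffine_piece hf g h
  letI := (fmap g).toAlgebra
  letI := (baseFun hf h).toAlgebra
  letI := Module.compHom (sectModEt M V) (baseFun hf h)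
  haveI : IsScalarTower (Fn E) (Fn V) (sectModEt M V) := IsScalarTower.of_algebraMap_smul fun _ _ => rfl
  have sq := (isPullback_piece hf g h).flip
  have po := (isIso_pushoutSection_iff sq (US := ⊤) (UT := ⊤) (UX := ⊤) (UY := ⊤) (by simp) (by simp)
    (by simp)).mp (isIso_pushoutSection_of_isAffineOpen sq _ _ _
      (isAffineOpen_top _) (isAffineOpen_top _) (isAffineOpen_top _))
  simp only [Scheme.Hom.appLE, TopologicalSpace.Opens.map_top, homOfLE_refl, op_id, CategoryTheory.Functor.map_id,
    Category.comp_id] at po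
  have hp : IsPushout (CommRingCat.ofHom (algebraMap (Fn E) (Fn E'))) (CommRingCat.ofHom (algebraMap (Fn E) (Fn V)))
      (CommRingCat.ofHom (baseFun hf (EtOver.pullbackFst (EtOver.bcMap hf g) h)))
      (CommRingCat.ofHom (fmap (EtOver.pullbackSnd (EtOver.bcMap hf g) h))) := by
    exact po
  exact (gam_bijective_iff_of_isPushout _ (fmap (EtOver.pullbackSnd (EtOver.bcMap hf g) h)) hp _ hr
    (res_smul' M _)).2 (hM _ _ inferInstance)

/-- Base change for the direct image over an affine object whose base change is quasi-compact and quasi-separated. -/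
theorem bcAt_push {M : ModEt X} (hM : BCAll M) {E E' : EtOver Y} (g : E' ⟶ E) [IsAffine E.obj.left.left]
    [IsAffine E'.obj.left.left] [CompactSpace ↥(EtOver.bcObj hf E).obj.left.left]
    [QuasiSeparatedSpace ↥(EtOver.bcObj hf E).obj.left.left] : BCAt ((pushModEt hf).obj M) g := by
  classical
  letI := (fmap g).toAlgebra
  haveI : Module.Flat (Fn E) (Fn E') := flat_fmap g
  obtain ⟨n, V, h, hV, hι, hc⟩ := exists_finite_affine (EtOver.bcObj hf E)
  haveI := hV
  haveI : ∀ i j, CompactSpace ↥(EtOver.pullbackObj (h i) (h j)).obj.left.left := fun i j => by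
    haveI := hι j
    haveI : QuasiCompact (h j).hom.left.left := quasiCompact_of_compactSpace _
    haveI : QuasiCompact (EtOver.pullbackFst (h i) (h j)).hom.left.left :=
      MorphismProperty.of_isPullback (isPullback_left (h i) (h j)).flip ‹_›
    exact QuasiCompact.compactSpace_of_compactSpace (EtOver.pullbackFst (h i) (h j)).hom.left.left
  choose m U k hU _ hd using fun p : Fin n × Fin n => exists_finite_affine (EtOver.pullbackObj (h p.1) (h p.2))
  let K : Type := Σ p : Fin n × Fin n, Fin (m p)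
  let F : K → EtOver X := fun x => U x.1 x.2
  haveI : ∀ x, IsAffine (F x).obj.left.left := fun x => hU x.1 x.2
  let p₁ : ∀ x : K, F x ⟶ V x.1.1 := fun x => k x.1 x.2 ≫ EtOver.pullbackFst _ _
  let p₂ : ∀ x : K, F x ⟶ V x.1.2 := fun x => k x.1 x.2 ≫ EtOver.pullbackSnd _ _
  let q : ∀ x, F x ⟶ EtOver.bcObj hf E := fun x => p₁ x ≫ h x.1.1
  have hq : ∀ x, p₂ x ≫ h x.1.2 = q x := fun x => by
    show (k x.1 x.2 ≫ EtOver.pullbackSnd _ _) ≫ _ = (k x.1 x.2 ≫ EtOver.pullbackFst _ _) ≫ _
    rw [Category.assoc, Category.assoc, EtOver.pullback_condition]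
  let gB := EtOver.bcMap hf g
  let W : Fin n → EtOver X := fun i => EtOver.pullbackObj gB (h i)
  let a : ∀ i, W i ⟶ EtOver.bcObj hf E' := fun i => EtOver.pullbackFst _ _
  let b : ∀ i, W i ⟶ V i := fun i => EtOver.pullbackSnd _ _
  let G : K → EtOver X := fun x => EtOver.pullbackObj gB (q x)
  let ak : ∀ x, G x ⟶ EtOver.bcObj hf E' := fun x => EtOver.pullbackFst _ _
  let bk : ∀ x, G x ⟶ F x := fun x => EtOver.pullbackSnd _ _
  have wk : ∀ x, ak x ≫ gB = bk x ≫ q x := fun x => EtOver.pullback_condition _ _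
  let u₁ : ∀ x, G x ⟶ W x.1.1 := fun x =>
    (EtOver.isPullback gB (h x.1.1)).lift (ak x) (bk x ≫ p₁ x) (by rw [wk, Category.assoc])
  let u₂ : ∀ x, G x ⟶ W x.1.2 := fun x =>
    (EtOver.isPullback gB (h x.1.2)).lift (ak x) (bk x ≫ p₂ x) (by rw [wk, Category.assoc, hq])
  have hu₁a : ∀ x, u₁ x ≫ a x.1.1 = ak x := fun x => (EtOver.isPullback gB (h x.1.1)).lift_fst _ _ _
  have hu₁b : ∀ x, u₁ x ≫ b x.1.1 = bk x ≫ p₁ x := fun x => (EtOver.isPullback gB (h x.1.1)).lift_snd _ _ _
  have hu₂a : ∀ x, u₂ x ≫ a x.1.2 = ak x := fun x => (EtOver.isPullback gB (h x.1.2)).lift_fst _ _ _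
  have hu₂b : ∀ x, u₂ x ≫ b x.1.2 = bk x ≫ p₂ x := fun x => (EtOver.isPullback gB (h x.1.2)).lift_snd _ _ _
  letI : ∀ i, Module (Fn E) (sectModEt M (V i)) := fun i => Module.compHom _ (baseFun hf (h i))
  letI : ∀ x, Module (Fn E) (sectModEt M (F x)) := fun x => Module.compHom _ (baseFun hf (q x))
  let fm : sectModEt ((pushModEt hf).obj M) E →ₗ[Fn E] ∀ i, sectModEt M (V i) := LinearMap.pi fun i =>
    { toFun := fun s => res M (h i) s
      map_add' := fun s t => map_add _ _ _
      map_smul' := fun c s => res_smul M (h i) (bcFun hf E c) s }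
  let dm : (∀ i, sectModEt M (V i)) →ₗ[Fn E] ∀ x, sectModEt M (F x) := LinearMap.pi fun x =>
    { toFun := fun s => res M (p₁ x) (s x.1.1) - res M (p₂ x) (s x.1.2)
      map_add' := fun s t => by
        rw [Pi.add_apply, Pi.add_apply, map_add, map_add, add_sub_add_comm]
      map_smul' := fun c s => by
        show res M (p₁ x) (baseFun hf (h x.1.1) c • s x.1.1) - res M (p₂ x) (baseFun hf (h x.1.2) c • s x.1.2) =
          baseFun hf (q x) c • (res M (p₁ x) (s x.1.1) - res M (p₂ x) (s x.1.2))
        rw [res_smul, res_smul, baseFun_comp, baseFun_comp, hq, smul_sub] }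
  have hr : ∀ i (c : Fn E) (s : sectModEt M (V i)),
      res M (b i) (c • s) = baseFun hf (a i) (algebraMap (Fn E) (Fn E') c) • res M (b i) s := fun i c s => by
    show res M (b i) (baseFun hf (h i) c • s) = fmap (a i) (bcFun hf E' (fmap g c)) • _
    rw [res_smul, baseFun_comp, ← bcFun_bcMap, ← fmap_comp, EtOver.pullback_condition]
    rfl
  have hrk : ∀ x (c : Fn E) (s : sectModEt M (F x)),
      res M (bk x) (c • s) = baseFun hf (ak x) (algebraMap (Fn E) (Fn E') c) • res M (bk x) s := fun x c s => by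
    show res M (bk x) (baseFun hf (q x) c • s) = fmap (ak x) (bcFun hf E' (fmap g c)) • _
    rw [res_smul, baseFun_comp, ← bcFun_bcMap, ← fmap_comp, wk]
    rfl
  let r' : sectModEt ((pushModEt hf).obj M) E' →+ ∀ i, sectModEt M (W i) :=
    AddMonoidHom.mk' (fun s i => res M (a i) s) fun s t => funext fun i => map_add _ _ _
  let d' : (∀ i, sectModEt M (W i)) →+ ∀ x, sectModEt M (G x) :=
    AddMonoidHom.mk' (fun s x => res M (u₁ x) (s x.1.1) - res M (u₂ x) (s x.1.2))
      fun s t => funext fun x => by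
        show res M (u₁ x) (s x.1.1 + t x.1.1) - res M (u₂ x) (s x.1.2 + t x.1.2) =
          (res M (u₁ x) (s x.1.1) - res M (u₂ x) (s x.1.2)) + (res M (u₁ x) (t x.1.1) - res M (u₂ x) (t x.1.2))
        rw [map_add, map_add, add_sub_add_comm]
  refine bijective_of_equalizer fm dm ?_ ?_ _ r' ?_ d' ?_
    (fun i => gam (baseFun hf (a i)) (res M (b i)) (hr i)) (fun i => ?_)
    (fun x => gam (baseFun hf (ak x)) (res M (bk x)) (hrk x)) (fun x => ?_) ?_ ?_
  · exact fun s t hst => ext_of_cover M V h hc fun i => congrFun hst i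
  · intro s
    refine ⟨fun hs => ?_, ?_⟩
    · obtain ⟨t, ht⟩ := exists_glue M (ι := ULift.{u + 1} (Fin n)) (fun i => V i.down) (fun i => h i.down)
        (fun x => by obtain ⟨i, hi⟩ := hc x; exact ⟨⟨i⟩, hi⟩) (fun i => s i.down) fun i j =>
          ext_of_cover M (U (i.down, j.down)) (k (i.down, j.down)) (hd (i.down, j.down)) fun l => by
            rw [← res_comp, ← res_comp]
            exact sub_eq_zero.1 (congrFun hs ⟨(i.down, j.down), l⟩)
      exact ⟨t, funext fun i => ht ⟨i⟩⟩
    · rintro ⟨t, rfl⟩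
      refine funext fun x => ?_
      show res M (p₁ x) (res M (h x.1.1) t) - res M (p₂ x) (res M (h x.1.2) t) = 0
      rw [← res_comp, ← res_comp, hq, sub_self]
  · refine fun s t hst => ext_of_cover M W a (fun x => ?_) fun i => congrFun hst i
    obtain ⟨i, y, hy⟩ := hc (gB.hom.left.left x)
    obtain ⟨z, hz, -⟩ := Scheme.Pullback.exists_preimage_pullback
      (f := gB.hom.left.left) (g := (h i).hom.left.left) x y hy.symm
    refine ⟨i, (isPullback_left gB (h i)).isoPullback.inv z, ?_⟩
    rw [← Scheme.Hom.comp_apply, (isPullback_left gB (h i)).isoPullback_inv_fst]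
    exact hz
  · refine fun s => funext fun x => ?_
    show res M (u₁ x) (res M (a x.1.1) s) - res M (u₂ x) (res M (a x.1.2) s) = 0
    rw [← res_comp, ← res_comp, hu₁a, hu₂a, sub_self]
  · exact bijective_piece hf g (h i) (hM _ (hV i)) (hr i)
  · exact (bijective_piece hf g (q x) (hM _ inferInstance) (hrk x)).1
  · intro t i
    induction t using TensorProduct.induction_on with
    | zero => simp only [map_zero]; rfl
    | add x y hx hy => simp only [map_add, Pi.add_apply, hx, hy]
    | tmul c s =>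
      show res M (a i) (bcFun hf E' c • res M gB s) = fmap (a i) (bcFun hf E' c) • res M (b i) (res M (h i) s)
      rw [res_smul, ← res_comp, ← res_comp, EtOver.pullback_condition]
  · intro z x
    induction z using TensorProduct.induction_on with
    | zero => simp only [map_zero]; exact (congrFun (map_zero d') x).symm
    | add z w hz hw =>
      simp only [map_add, hz, hw]
      exact (congrFun (map_add d' _ _) x).symm
    | tmul c s =>
      show baseFun hf (ak x) c • res M (bk x) (res M (p₁ x) (s x.1.1) - res M (p₂ x) (s x.1.2)) =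
        res M (u₁ x) (baseFun hf (a x.1.1) c • res M (b x.1.1) (s x.1.1)) -
          res M (u₂ x) (baseFun hf (a x.1.2) c • res M (b x.1.2) (s x.1.2))
      rw [map_sub, smul_sub, res_smul, res_smul, baseFun_comp, baseFun_comp, ← res_comp, ← res_comp, ← res_comp,
        ← res_comp, hu₁a, hu₁b, hu₂a, hu₂b]

/-- Base change holds for direct images along quasi-compact quasi-separated morphisms. -/
theorem bcAll_push_qcqs (hqc : IsQuasiCompactMor f) (hqs : IsQuasiSeparatedMor f) {M : ModEt X} (hM : BCAll M) :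
    BCAll ((pushModEt hf).obj M) := by
  intro E hE E' g hE'
  haveI := hE
  haveI := hE'
  have hP : IsQuasiCompactSp ((yon S).obj (hf.pullback E.obj.hom)) :=
    hqc (IsAlgSpace.yon_obj E.obj.left) (AlgSpLib.isQuasiCompactSp_yon E.obj.left) E.obj.hom
      (hf.fst E.obj.hom) ((yon S).map (hf.snd E.obj.hom)) (hf.isPullback E.obj.hom)
  haveI : CompactSpace ↥(EtOver.bcObj hf E).obj.left.left := (AlgSpPts.isQuasiCompactSp_yon_iff _).1 hP
  haveI : QuasiSeparated (EtOver.bcπ hf E).left :=
    (isQuasiSeparatedMor_yon_map_iff _).1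
      (AlgSpPts.isQuasiSeparatedMor_of_isPullback (hf.isPullback E.obj.hom) hqs)
  haveI : QuasiSeparatedSpace ↥(EtOver.bcObj hf E).obj.left.left :=
    quasiSeparatedSpace_of_quasiSeparated (EtOver.bcπ hf E).left
  exact bcAt_push hf hM g

end Groth.Agent.EtQC
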