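import Groth.Agent.EtQC.FTUnion
import Groth.Agent.EtQC.Pull
import Groth.Agent.EtQC.PushQcqs
import Groth.Agent.AlgSpDec.LimDescentDiag
import Groth.Agent.AlgSpPts.OpenSub
import Groth.Agent.AlgSpDec.ElemDistInduction

/-!
# Extending finite type submodules from quasi-compact open subspaces
-/

set_option autoImplicit false
set_option backward.isDefEq.respectTransparency false
set_option backward.isDefEq.respectTransparency.types false

universe u

set_option maxHeartbeats 800000

open CategoryTheory CategoryTheory.Limits AlgebraicGeometry Opposite AlgSp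
open scoped TensorProduct

namespace Groth.Agent.EtQC.OpenExt

/-- A linear map takes values in the range of another when it does so on generators. -/
theorem mem_range_of_gens {R A B M : Type*} [Semiring R] [AddCommMonoid A] [Module R A] [AddCommMonoid B]
    [Module R B] [AddCommMonoid M] [Module R M] (φ : A →ₗ[R] M) (ψ : B →ₗ[R] M) (T : Set B)
    (hT : Submodule.span R T = ⊤) (h : ∀ x ∈ T, ψ x ∈ Set.range φ) (s : B) : ψ s ∈ Set.range φ := by
  have : (LinearMap.range φ).comap ψ = ⊤ := top_le_iff.1 (hT.symm.le.trans (Submodule.span_le.2 h))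
  exact (this.symm ▸ Submodule.mem_top : s ∈ (LinearMap.range φ).comap ψ)

variable {S : Scheme.{u}} {X Y : Sp S} {f : Y ⟶ X} (hrep : Representable f) (hf : IsEtaleMor f)

/-- Restriction along an etale morphism. -/
noncomputable abbrev restr : ModEt X ⥤ ModEt Y :=
  haveI := AlgSpDec.PostcompSite.isContinuous f hf
  SheafOfModules.pushforward.{u + 1} (AlgSpDec.EtPullRestrict.φ hf)

/-- The counit of the adjunction of objects. -/
noncomputable abbrev eps (W : EtOver X) : (EtOver.postcomp f hf).obj (EtOver.bcObj hrep W) ⟶ W :=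
  (AlgSpDec.EtPullRestrict.adj hrep hf).counit.app W

/-- The action of a map out of the restriction on sections of the module. -/
noncomputable def rap {F : ModEt X} {C : ModEt Y} (π : (restr hf).obj F ⟶ C) (E : EtOver Y) :
    sectModEt F ((EtOver.postcomp f hf).obj E) →+ sectModEt C E :=
  (app π E).toAddMonoidHom

theorem rap_res {F : ModEt X} {C : ModEt Y} (π : (restr hf).obj F ⟶ C) {E E' : EtOver Y} (l : E' ⟶ E)
    (s : sectModEt F ((EtOver.postcomp f hf).obj E)) :
    rap hf π E' (res F ((EtOver.postcomp f hf).map l) s) = res C l (rap hf π E s) :=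
  app_res π l (show sectModEt ((restr hf).obj F) E from s)

theorem restr_smul {F : ModEt X} (E : EtOver Y) (a : Fn E) (s : sectModEt F ((EtOver.postcomp f hf).obj E)) :
    (show sectModEt F ((EtOver.postcomp f hf).obj E) from
      a • (show sectModEt ((restr hf).obj F) E from s)) = (show Fn ((EtOver.postcomp f hf).obj E) from a) • s := rfl

theorem rap_smul {F : ModEt X} {C : ModEt Y} (π : (restr hf).obj F ⟶ C) (E : EtOver Y) (a : Fn E)
    (s : sectModEt F ((EtOver.postcomp f hf).obj E)) :
    rap hf π E ((show Fn ((EtOver.postcomp f hf).obj E) from a) • s) = a • rap hf π E s :=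
  map_smul (app π E) a (show sectModEt ((restr hf).obj F) E from s)

/-- The values of the morphism to the direct image. -/
noncomputable def psiFun {F : ModEt X} {C : ModEt Y} (π : (restr hf).obj F ⟶ C) (W : EtOver X) :
    sectModEt F W →+ sectModEt ((pushModEt hrep).obj C) W :=
  AddMonoidHom.mk' (fun s => (show sectModEt ((pushModEt hrep).obj C) W from
      rap hf π (EtOver.bcObj hrep W) (res F (eps hrep hf W) s)))
    fun s t => ((congrArg (rap hf π (EtOver.bcObj hrep W)) (map_add (res F (eps hrep hf W)) s t)).trans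
      (map_add (rap hf π (EtOver.bcObj hrep W)) _ _) :)

theorem psiFun_res {F : ModEt X} {C : ModEt Y} (π : (restr hf).obj F ⟶ C) {W W' : EtOver X} (l : W' ⟶ W)
    (s : sectModEt F W) :
    psiFun hrep hf π W' (res F l s) = res ((pushModEt hrep).obj C) l (psiFun hrep hf π W s) := by
  show rap hf π (EtOver.bcObj hrep W') (res F (eps hrep hf W') (res F l s)) =
    res C (EtOver.bcMap hrep l) (rap hf π (EtOver.bcObj hrep W) (res F (eps hrep hf W) s))
  rw [← rap_res, ← res_comp, ← res_comp]
  exact congrArg (fun g => rap hf π (EtOver.bcObj hrep W') (res F g s))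
    ((AlgSpDec.EtPullRestrict.adj hrep hf).counit.naturality l).symm

theorem psiFun_smul {F : ModEt X} {C : ModEt Y} (π : (restr hf).obj F ⟶ C) (W : EtOver X) (a : Fn W)
    (s : sectModEt F W) : psiFun hrep hf π W (a • s) = a • psiFun hrep hf π W s :=
  ((congrArg (rap hf π (EtOver.bcObj hrep W)) (res_smul F (eps hrep hf W) a s)).trans
    (rap_smul hf π (EtOver.bcObj hrep W) (bcFun hrep W a) _)).trans
    (push_smul hrep C W a (rap hf π (EtOver.bcObj hrep W) (res F (eps hrep hf W) s))).symm

/-- The sections of a quotient of the restriction, as a morphism to a direct image. -/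
noncomputable def psi {F : ModEt X} {C : ModEt Y} (π : (restr hf).obj F ⟶ C) : F ⟶ (pushModEt hrep).obj C :=
  ⟨PresheafOfModules.homMk
    { app := fun W => AddCommGrpCat.ofHom (psiFun hrep hf π W.unop)
      naturality := fun W W' l => AddCommGrpCat.hom_ext (AddMonoidHom.ext fun s => psiFun_res hrep hf π l.unop s) }
    fun W d s => by
      obtain ⟨d', rfl⟩ : ∃ d' : Fn W.unop, upΓ W.unop d' = d := ⟨d.down, rfl⟩
      exact psiFun_smul hrep hf π W.unop d' s⟩

theorem app_psi {F : ModEt X} {C : ModEt Y} (π : (restr hf).obj F ⟶ C) (W : EtOver X) (s : sectModEt F W) :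
    app (psi hrep hf π) W s = (show sectModEt ((pushModEt hrep).obj C) W from
      app π (EtOver.bcObj hrep W) (res F (eps hrep hf W) s)) := rfl

/-- On objects over the source the morphism is the quotient. -/
theorem app_psi_eq_zero_iff [Mono f] {F : ModEt X} {C : ModEt Y} (π : (restr hf).obj F ⟶ C) (T : EtOver Y)
    (s : sectModEt F ((EtOver.postcomp f hf).obj T)) :
    app (psi hrep hf π) ((EtOver.postcomp f hf).obj T) s = 0 ↔ app π T s = 0 := by
  let W := (EtOver.postcomp f hf).obj T
  let ad := AlgSpDec.EtPullRestrict.adj hrep hf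
  let u₀ : T ⟶ EtOver.bcObj hrep W := ad.unit.app T
  have hu : (EtOver.postcomp f hf).map u₀ ≫ eps hrep hf W = 𝟙 W := ad.left_triangle_components T
  let h : EtOver.bcObj hrep W ⟶ T := EtOver.homMk (eps hrep hf W).hom.left ((cancel_mono f).1 (by
    rw [Category.assoc]
    exact EtOver.w (eps hrep hf W)))
  have hh : (EtOver.postcomp f hf).map h = eps hrep hf W := EtOver.hom_ext _ _ rfl
  refine ⟨fun h0 => ?_, fun h0 => ?_⟩
  · have h1 : res C u₀ (app π (EtOver.bcObj hrep W) (res F (eps hrep hf W) s)) = 0 := by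
      rw [show app π (EtOver.bcObj hrep W) (res F (eps hrep hf W) s) = (0 : sectModEt C (EtOver.bcObj hrep W)) from h0,
        map_zero]
    rw [← app_res] at h1
    refine Eq.trans (congrArg (app π T) ?_) h1
    show s = res F ((EtOver.postcomp f hf).map u₀) (res F (eps hrep hf W) s)
    rw [← res_comp, hu, res_id]
  · show app π (EtOver.bcObj hrep W) (res F (eps hrep hf W) s) = 0
    rw [← hh]
    show app π (EtOver.bcObj hrep W) (res ((restr hf).obj F) h s) = 0
    rw [app_res, h0, map_zero]

theorem app_restr_map {H F : ModEt X} (g' : H ⟶ F) (E : EtOver Y)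
    (r : sectModEt H ((EtOver.postcomp f hf).obj E)) :
    app ((restr hf).map g') E r = (show sectModEt ((restr hf).obj F) E from app g' ((EtOver.postcomp f hf).obj E) r) := rfl

theorem exists_restr_map {H K F : ModEt X} (ι₁ : H ⟶ K) (ι₂ : K ⟶ F) (E : EtOver Y)
    (x : sectModEt ((restr hf).obj F) E) (t : sectModEt K ((EtOver.postcomp f hf).obj E))
    (r : sectModEt H ((EtOver.postcomp f hf).obj E)) (hr : app ι₁ ((EtOver.postcomp f hf).obj E) r = t)
    (ht : app ι₂ ((EtOver.postcomp f hf).obj E) t = (show sectModEt F ((EtOver.postcomp f hf).obj E) from x)) :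
    ∃ r' : sectModEt ((restr hf).obj H) E, app ((restr hf).map (ι₁ ≫ ι₂)) E r' = x := by
  refine ⟨(show sectModEt ((restr hf).obj H) E from r), ?_⟩
  subst hr
  exact ht

/-- A morphism factors through a monomorphism when it does so on a chain. -/
theorem exists_lift_of_chain [QuasiSeparatedSpace ↥S] {H K M : ModEt Y} (hH : BCAll H) (C : Chain Y)
    (φ : H ⟶ M) (ι : K ⟶ M) [Mono ι] (h : ∀ j t, app φ (C.W j) t ∈ Set.range (app ι (C.W j))) :
    ∃ ψ : H ⟶ K, ψ ≫ ι = φ := by
  refine exists_factor ι φ fun W hW s => ?_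
  haveI := hW
  let T₀ := ShortComplex.mk ι (cokernel.π ι) (cokernel.condition ι)
  have hT₀ : T₀.Exact := ShortComplex.exact_of_g_is_cokernel _ (cokernelIsCokernel _)
  haveI : Mono T₀.f := ‹Mono ι›
  refine (app_exact hT₀ W _).1 ?_
  choose j hj using fun x : ↥W.obj.left.left => C.surj (Glob.pt W x)
  choose T k c hT hk using fun x => exists_lift_nbhd (U := C.W (j x)) x (hj x)
  refine ext_of_cover _ T k (fun x => ⟨x, hk x⟩) fun x => ?_
  rw [map_zero, ← app_res, ← app_res]
  letI := (fmap (c x)).toAlgebra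
  obtain ⟨z, hz⟩ := (hH _ (C.aff (j x)) (T x) (c x) (hT x)).2 (res H (k x) s)
  rw [← hz]
  clear hz
  induction z using TensorProduct.induction_on with
  | zero => simp
  | add a b ha hb => simp only [map_add, ha, hb, add_zero]
  | tmul a m =>
    rw [gam_tmul, RingHom.id_apply, map_smul, map_smul, app_res, app_res]
    obtain ⟨r, hr⟩ := h (j x) m
    rw [← hr, (app_exact hT₀ (C.W (j x))).apply_apply_eq_zero r, map_zero, smul_zero]

include hrep in
theorem exists_ext [QuasiSeparatedSpace ↥S] (hA : IsAlgSpace X) (hqc : IsQuasiCompactSp X)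
    (hqs : IsQuasiSeparatedSp X) (hY : IsAlgSpace Y) (hYqc : IsQuasiCompactSp Y) (hYqs : IsQuasiSeparatedSp Y)
    [Mono f] {F : ModEt X} (hF : BCAll F) {G : ModEt Y} (hG : BCAll G) (hGft : FT G)
    (g : G ⟶ (restr hf).obj F) [Mono g] :
    ∃ (G' : ModEt X) (g' : G' ⟶ F), Mono g' ∧ BCAll G' ∧ FT G' ∧
      ∃ e : (restr hf).obj G' ≅ G, e.hom ≫ g = (restr hf).map g' := by
  classical
  haveI := AlgSpDec.PostcompSite.isContinuous f hf
  have hRF : BCAll ((restr hf).obj F) := bcAll_restrict hf hF
  let π := cokernel.π g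
  have hC : BCAll (cokernel g) := bcAll_cokernel g hG hRF
  let ψ := psi hrep hf π
  have hP : BCAll ((pushModEt hrep).obj (cokernel g)) := bcAll_push_qcqs hrep
    (AlgSpPts.isQuasiCompactMor_of_qc_qs hY hA hYqc hqs f) (AlgSpDec.isQuasiSeparatedMor_of_sp f hYqs hqs) hC
  have hK : BCAll (kernel ψ) := bcAll_kernel ψ hF hP
  let T₀ := ShortComplex.mk g π (cokernel.condition g)
  have hT₀ : T₀.Exact := ShortComplex.exact_of_g_is_cokernel _ (cokernelIsCokernel _)
  haveI : Mono T₀.f := ‹Mono g›
  let T₁ := ShortComplex.mk (kernel.ι ψ) ψ (kernel.condition ψ)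
  have hT₁ : T₁.Exact := ShortComplex.exact_of_f_is_kernel _ (kernelIsKernel ψ)
  haveI : Mono T₁.f := inferInstanceAs (Mono (kernel.ι ψ))
  obtain ⟨C⟩ := exists_chain hY hYqc hYqs
  choose Tg hTg using fun j : Fin C.n => (hGft.finite hG (C.W j)).fg_top
  let I := Σ j : Fin C.n, {x // x ∈ Tg j}
  let e : Fin (Fintype.card I) ≃ I := (Fintype.equivFin I).symm
  let U : Fin (Fintype.card I) → EtOver X := fun i => (EtOver.postcomp f hf).obj (C.W (e i).1)
  have hex : ∀ i, ∃ t : sectModEt (kernel ψ) (U i), app (kernel.ι ψ) (U i) t = app g (C.W (e i).1) (e i).2.1 :=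
    fun i => (app_exact hT₁ (U i) _).1 ((app_psi_eq_zero_iff hrep hf π (C.W (e i).1) _).2
      ((app_exact hT₀ (C.W (e i).1)).apply_apply_eq_zero (e i).2.1))
  choose t ht using hex
  obtain ⟨G₁, hG₁, hG₁ft, hmem⟩ := exists_ft_sub hK hA hqc hqs U (fun i => C.aff _) t
  let g' : G₁.mod ⟶ F := G₁.ι ≫ kernel.ι ψ
  haveI : Mono g' := mono_comp _ _
  haveI : Mono ((restr hf).map g') := by
    haveI := AlgSpDec.EtPullRestrict.preservesFiniteLimits_restrict hf
    exact (restr hf).map_mono g'
  have h1 : ∀ (j : Fin C.n) s, app ((restr hf).map g') (C.W j) s ∈ Set.range (app g (C.W j)) := fun j s =>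
    (app_exact hT₀ (C.W j) _).1 ((app_psi_eq_zero_iff hrep hf π (C.W j) _).1
      ((app_exact hT₁ ((EtOver.postcomp f hf).obj (C.W j))).apply_apply_eq_zero
        (app G₁.ι ((EtOver.postcomp f hf).obj (C.W j)) s)))
  have key : ∀ p : I, ∃ r, app ((restr hf).map g') (C.W p.1) r = app g (C.W p.1) p.2.1 := fun p => by
    obtain ⟨i, rfl⟩ := e.surjective p
    obtain ⟨r, hr⟩ := (Set.ext_iff.1 (G₁.range_ι (U i) (C.aff _)) (t i)).2 (hmem i)
    exact exists_restr_map hf G₁.ι (kernel.ι ψ) (C.W (e i).1) (app g (C.W (e i).1) (e i).2.1) (t i) r hr (ht i)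
  have h2 : ∀ (j : Fin C.n) s, app g (C.W j) s ∈ Set.range (app ((restr hf).map g') (C.W j)) := fun j s =>
    mem_range_of_gens (app ((restr hf).map g') (C.W j)) (app g (C.W j)) _ (hTg j) (fun x hx => key ⟨j, x, hx⟩) s
  obtain ⟨a, ha⟩ := exists_lift_of_chain (bcAll_restrict hf hG₁) C ((restr hf).map g') g h1
  obtain ⟨b, hb⟩ := exists_lift_of_chain hG C g ((restr hf).map g') h2
  have h3 : a ≫ b = 𝟙 _ := (cancel_mono ((restr hf).map g')).1
    ((Category.assoc a b _).trans (((congrArg (a ≫ ·) hb).trans ha).trans (Category.id_comp _).symm))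
  have h4 : b ≫ a = 𝟙 _ := (cancel_mono g).1
    ((Category.assoc b a _).trans (((congrArg (b ≫ ·) ha).trans hb).trans (Category.id_comp _).symm))
  let e' : (restr hf).obj G₁.mod ≅ G := Iso.mk a b h3 h4
  exact ⟨G₁.mod, g', inferInstance, hG₁, hG₁ft, e', ha⟩

end Groth.Agent.EtQC.OpenExt
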