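import Groth.Agent.EtQC.Push

/-!
# Modules of finite type and finite direct images
-/

set_option autoImplicit false
set_option backward.isDefEq.respectTransparency false
set_option backward.isDefEq.respectTransparency.types false

universe u

set_option maxHeartbeats 1600000

open CategoryTheory CategoryTheory.Limits AlgebraicGeometry Opposite AlgSp
open scoped TensorProduct

namespace Groth.Agent.EtQC

variable {S : Scheme.{u}} {X Y : Sp S}

theorem exists_finite_generators {M : ModEt X} {V : EtOver X} [IsAffine V.obj.left.left] (hbc : BC M V)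
    [hfin : Module.Finite (Fn V) (sectModEt M V)] :
    ∃ G : (M.over V).GeneratingSections, G.IsFiniteType := by
  obtain ⟨T, hT⟩ := hfin.fg_top
  let e : ULift.{u + 1} ↥T → sectModEt M V := fun i => i.down.1
  have he : Submodule.span (Fn V) (Set.range e) = ⊤ := by
    rw [show Set.range e = (T : Set _) from Set.ext fun x =>
      ⟨fun ⟨i, hi⟩ => hi ▸ i.down.2, fun hx => ⟨⟨⟨x, hx⟩⟩, rfl⟩⟩]
    exact hT
  obtain ⟨p, hI, -⟩ := exists_presentation hbc e he
    (Subtype.val : LinearMap.ker (Finsupp.linearCombination (Fn V) e) → _) (span_ker_eq _ _ Subtype.range_coe)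
  exact ⟨p.generators, ⟨hI ▸ inferInstance⟩⟩

/-- A module with base change and finitely generated sections on an affine covering is of finite type. -/
theorem isFiniteType_of_ft {M : ModEt X} (h : BCAll M) (h' : FT M) : M.IsFiniteType := by
  let P : EtOver X → Prop := fun V => IsAffine V.obj.left.left ∧ Module.Finite (Fn V) (sectModEt M V)
  have key : ∀ V : @Subtype.{u + 2} (EtOver X) P, ∃ G : (M.over V.1).GeneratingSections, G.IsFiniteType := fun V =>
    haveI : IsAffine V.1.obj.left.left := V.2.1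
    haveI : Module.Finite (Fn V.1) (sectModEt M V.1) := V.2.2
    exists_finite_generators (h V.1 V.2.1)
  choose G hG using key
  refine SheafOfModules.IsFiniteType.mk (M := M)
    ⟨{ I := @Subtype.{u + 2} (EtOver X) P, X := fun V => V.1, coversTop := coversTop_pred P h', generators := G }, ?_⟩
  exact { isFiniteType := hG }

/-- Two objects through one point have a common affine object over them. -/
theorem exists_common_affine (V W : EtOver X) {v : V.obj.left.left} {w : W.obj.left.left}
    (e : Points.ofPt W.obj.hom w = Points.ofPt V.obj.hom v) :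
    ∃ (Q : EtOver X) (q : Q ⟶ V) (_ : Q ⟶ W), IsAffine Q.obj.left.left ∧ v ∈ Set.range q.hom.left.left := by
  obtain ⟨y, hy₁, hy₂⟩ := AlgSpLib.exists_ofPt_of_eq (W.property.rep.isPullback' V.obj.hom) (u := w) (v := v) e
  let Q : EtOver X := EtOver.mk ((yon S).map (W.property.rep.snd V.obj.hom) ≫ V.obj.hom)
    (AlgSpLib.repWith_comp ((repWith_yon_map_iff _ _).2 (W.property.property_snd V.obj.hom)) V.property)
  let q : Q ⟶ V := EtOver.homMk (W.property.rep.snd V.obj.hom) rfl
  let q₀ : Q ⟶ W := EtOver.homMk (W.property.rep.fst' V.obj.hom) (W.property.rep.isPullback' V.obj.hom).w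
  obtain ⟨O, hO, hyO, -⟩ := exists_isAffineOpen_mem_and_subset (x := y) (U := (⊤ : Q.obj.left.left.Opens)) trivial
  refine ⟨AlgSpDec.etOpen Q O, AlgSpDec.etOpenι Q O ≫ q, AlgSpDec.etOpenι Q O ≫ q₀, hO, ⟨⟨y, hyO⟩, ?_⟩⟩
  exact hy₂

variable {f : X ⟶ Y}

theorem isAffineMor_of_finite (hfin : IsFiniteMor f) : IsAffineMor f := fun Z hZ g => by
  obtain ⟨W, i, fst, sq, hW, -⟩ := hfin hZ g
  exact ⟨W, i, fst, sq, hW⟩

/-- Objects of the source are covered by affine objects over base changes of affine objects of the target. -/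
theorem exists_cover_bc (hY : IsAlgSpace Y) (hf : Representable f) (haff : IsAffineMor f) (P : EtOver X → Prop)
    (hP : ∀ (Q : EtOver X) (E : EtOver Y), (Q ⟶ EtOver.bcObj hf E) → IsAffine Q.obj.left.left →
      IsAffine E.obj.left.left → IsAffine (EtOver.bcObj hf E).obj.left.left → P Q)
    (W : EtOver X) [IsAffine W.obj.left.left] : ∃ (n : ℕ) (V : Fin n → EtOver X) (g : ∀ i, V i ⟶ W),
      (∀ i, P (V i)) ∧ ∀ x : ↥W.obj.left.left, ∃ i, x ∈ Set.range (g i).hom.left.left := by
  have key : ∀ w : ↥W.obj.left.left, ∃ (Q : EtOver X) (q : Q ⟶ W), P Q ∧ w ∈ Set.range q.hom.left.left := fun w => by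
    obtain ⟨E, hE, v, hv⟩ := exists_affine_chart hY (Points.map f (Points.ofPt W.obj.hom w))
    obtain ⟨z, hz, -⟩ := AlgSpPts.exists_lift (EtOver.isPullback_bcObj hf E) hv.symm
    obtain ⟨Q, q, q₀, hQ, hwq⟩ := exists_common_affine W (EtOver.bcObj hf E) hz
    exact ⟨Q, q, hP Q E q₀ hQ hE (WeakAssEtLib.isAffine_bcObj hf haff E hE), hwq⟩
  choose Q q hQ hw using key
  have hopen : ∀ w, IsOpen (Set.range (q w).hom.left.left) := fun w => by
    haveI := EtOver.etale_left (q w)
    exact (q w).hom.left.left.isOpenMap.isOpen_range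
  obtain ⟨T, hT⟩ := isCompact_univ.elim_finite_subcover _ hopen fun w _ => Set.mem_iUnion.2 ⟨w, hw w⟩
  refine ⟨T.card, fun i => Q (T.equivFin.symm i).1, fun i => q _, fun i => hQ _, fun x => ?_⟩
  obtain ⟨y, hyT, hy⟩ := Set.mem_iUnion₂.1 (hT (Set.mem_univ x))
  have key : ∀ z : T, z = ⟨y, hyT⟩ → x ∈ Set.range (q z.1).hom.left.left := by
    rintro _ rfl
    exact hy
  exact ⟨T.equivFin ⟨y, hyT⟩, key _ (T.equivFin.symm_apply_apply _)⟩

/-- Finiteness of a module from finiteness of its direct image along a finite morphism. -/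
theorem ft_of_push (hY : IsAlgSpace Y) (hf : Representable f) (hfin : IsFiniteMor f) {M : ModEt X} (hM : BCAll M)
    (h : FT ((pushModEt hf).obj M)) : FT M := by
  intro W hW
  haveI := hW
  have hP := bcAll_push hf (isAffineMor_of_finite hfin) hM
  refine exists_cover_bc hY hf (isAffineMor_of_finite hfin)
    (fun Q => IsAffine Q.obj.left.left ∧ Module.Finite (Fn Q) (sectModEt M Q))
    (fun Q E q hQ hE hB => ⟨hQ, ?_⟩) W
  haveI := hE
  haveI := hQ
  haveI := hB
  haveI : Module.Finite (Fn E) (sectModEt ((pushModEt hf).obj M) E) := h.finite hP E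
  letI : Algebra (Fn E) (Fn (EtOver.bcObj hf E)) := (bcFun hf E).toAlgebra
  letI : Module (Fn E) (sectModEt M (EtOver.bcObj hf E)) := Module.compHom _ (bcFun hf E)
  haveI : IsScalarTower (Fn E) (Fn (EtOver.bcObj hf E)) (sectModEt M (EtOver.bcObj hf E)) :=
    IsScalarTower.of_algebraMap_smul fun _ _ => rfl
  haveI : Module.Finite (Fn E) (sectModEt M (EtOver.bcObj hf E)) :=
    (‹Module.Finite (Fn E) (sectModEt ((pushModEt hf).obj M) E)› :)
  haveI : Module.Finite (Fn (EtOver.bcObj hf E)) (sectModEt M (EtOver.bcObj hf E)) :=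
    Module.Finite.of_restrictScalars_finite (Fn E) _ _
  exact finite_of_hom q (hM _ hB)

theorem isFiniteType_iff_push (hY : IsAlgSpace Y) (hf : Representable f) (hfin : IsFiniteMor f) (M : ModEt X)
    [M.IsQuasicoherent] : M.IsFiniteType ↔ ((pushModEt hf).obj M).IsFiniteType := by
  have hM := bcAll_of_isQuasicoherent M
  have hP := bcAll_push hf (isAffineMor_of_finite hfin) hM
  refine ⟨fun _ => isFiniteType_of_ft hP fun E hE => ?_, fun _ => isFiniteType_of_ft hM ?_⟩
  · haveI := hE
    exact cover_self (fun V => IsAffine V.obj.left.left ∧ Module.Finite (Fn V)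
      (sectModEt ((pushModEt hf).obj M) V)) ⟨hE, finite_push hf hfin hM (ft_of_isFiniteType M) E⟩
  · haveI := hP.isQuasicoherent
    exact ft_of_push hY hf hfin hM (ft_of_isFiniteType _)

end Groth.Agent.EtQC
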