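import Groth.Agent.EtQC.FTExt
import Groth.Agent.EtQC.FinType

/-!
# A quasi-coherent module is the directed union of its finite type submodules
-/

set_option autoImplicit false
set_option backward.isDefEq.respectTransparency false
set_option backward.isDefEq.respectTransparency.types false

universe u

set_option maxHeartbeats 800000

open CategoryTheory CategoryTheory.Limits AlgebraicGeometry Opposite AlgSp
open scoped TensorProduct

namespace Groth.Agent.EtQC

variable {S : Scheme.{u}} [QuasiSeparatedSpace ↥S] {X : Sp S} {M : ModEt X}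

/-- A map lands in a submodule if it does on a chain, up to generators. -/
theorem exists_factor_of_gens (hM : BCAll M) (C : Chain X) (G : AffSub M) {H : ModEt X} (hH : BCAll H) (φ : H ⟶ M)
    (h : ∀ j t, app φ (C.W j) t ∈ G.P (C.W j) (C.aff j)) : ∃ ψ : H ⟶ G.mod, ψ ≫ G.ι = φ := by
  refine exists_factor G.ι φ fun W hW s => (Set.ext_iff.1 (G.range_ι W hW) _).2 ?_
  haveI := hW
  choose j hj using fun x : ↥W.obj.left.left => C.surj (Glob.pt W x)
  choose T k c hT hk using fun x => exists_lift_nbhd (U := C.W (j x)) x (hj x)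
  obtain ⟨n, V, g, hV, hR, hc⟩ := exists_affine_refinement (AlgSpDec.ofArrows_mem_etTop T k fun x => ⟨x, hk x⟩)
  refine G.loc W hW n V g hV hc _ fun i => ?_
  obtain ⟨x, l, -⟩ := (Sieve.mem_ofArrows_iff _ _ (g i)).1 (hR i)
  letI := (fmap (l ≫ c x)).toAlgebra
  obtain ⟨z, hz⟩ := (hH _ (C.aff (j x)) (V i) (l ≫ c x) (hV i)).2 (res H (g i) s)
  rw [← app_res, ← hz]
  clear hz
  induction z using TensorProduct.induction_on with
  | zero => rw [map_zero, map_zero]; exact zero_mem _
  | add a b ha hb => rw [map_add, map_add]; exact add_mem ha hb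
  | tmul a m =>
    rw [gam_tmul, RingHom.id_apply, map_smul, app_res]
    exact Submodule.smul_mem _ _ (G.map _ (C.aff (j x)) (hV i) _ (h (j x) m))

/-- Two finite type modules mapping to a quasi-coherent one land in a common finite type submodule. -/
theorem exists_common_ft (hM : BCAll M) (hA : IsAlgSpace X) (hqc : IsQuasiCompactSp X) (hqs : IsQuasiSeparatedSp X)
    {H₁ H₂ : ModEt X} (φ₁ : H₁ ⟶ M) (φ₂ : H₂ ⟶ M) (h₁ : BCAll H₁) (h₂ : BCAll H₂) (f₁ : FT H₁) (f₂ : FT H₂) :
    ∃ G : AffSub M, BCAll G.mod ∧ FT G.mod ∧ (∃ ψ : H₁ ⟶ G.mod, ψ ≫ G.ι = φ₁) ∧ ∃ ψ : H₂ ⟶ G.mod, ψ ≫ G.ι = φ₂ := by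
  classical
  obtain ⟨C⟩ := exists_chain hA hqc hqs
  choose T₁ hT₁ using fun j : Fin C.n => (f₁.finite h₁ (C.W j)).fg_top
  choose T₂ hT₂ using fun j : Fin C.n => (f₂.finite h₂ (C.W j)).fg_top
  let I := Σ j : Fin C.n, {x // x ∈ T₁ j} ⊕ {x // x ∈ T₂ j}
  let e : Fin (Fintype.card I) ≃ I := (Fintype.equivFin I).symm
  obtain ⟨G, hG, hFT, hs⟩ := exists_ft_sub hM hA hqc hqs (fun i => C.W (e i).1) (fun i => C.aff _) fun i =>
    Sum.elim (fun x => app φ₁ (C.W (e i).1) x.1) (fun x => app φ₂ (C.W (e i).1) x.1) (e i).2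
  have hmem : ∀ p : I, Sum.elim (fun x => app φ₁ (C.W p.1) x.1) (fun x => app φ₂ (C.W p.1) x.1) p.2 ∈
      G.P (C.W p.1) (C.aff _) := fun p => by
    obtain ⟨i, rfl⟩ := e.surjective p
    exact hs i
  refine ⟨G, hG, hFT, exists_factor_of_gens hM C G h₁ φ₁ fun j t => ?_, exists_factor_of_gens hM C G h₂ φ₂ fun j t => ?_⟩
  · have ht : t ∈ Submodule.span (Fn (C.W j)) (T₁ j : Set (sectModEt H₁ (C.W j))) := hT₁ j ▸ Submodule.mem_top
    induction ht using Submodule.span_induction with
    | mem t ht => exact hmem ⟨j, Sum.inl ⟨t, ht⟩⟩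
    | zero => rw [map_zero]; exact zero_mem _
    | add a b _ _ ha hb => rw [map_add]; exact add_mem ha hb
    | smul c a _ ha => rw [map_smul]; exact Submodule.smul_mem _ _ ha
  · have ht : t ∈ Submodule.span (Fn (C.W j)) (T₂ j : Set (sectModEt H₂ (C.W j))) := hT₂ j ▸ Submodule.mem_top
    induction ht using Submodule.span_induction with
    | mem t ht => exact hmem ⟨j, Sum.inr ⟨t, ht⟩⟩
    | zero => rw [map_zero]; exact zero_mem _
    | add a b _ _ ha hb => rw [map_add]; exact add_mem ha hb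
    | smul c a _ ha => rw [map_smul]; exact Submodule.smul_mem _ _ ha

end Groth.Agent.EtQC
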