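import Mathlib.Algebra.Category.ModuleCat.Presheaf.Free
import Mathlib.Algebra.Category.ModuleCat.Sheaf.Quasicoherent
import Mathlib.CategoryTheory.Sites.EpiMono

/-!
# The presheaf free module maps locally bijectively to the free sheaf of modules
-/

set_option autoImplicit false
set_option backward.isDefEq.respectTransparency false
set_option backward.isDefEq.respectTransparency.types false

universe u v₁ u₁

open CategoryTheory CategoryTheory.Limits Opposite

namespace Groth.Agent.EtQC.FreeLoc

variable {C : Type u₁} [Category.{v₁} C] {J : GrothendieckTopology C} {R : Sheaf J RingCat.{u}}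
  [HasSheafify J AddCommGrpCat.{u}] [J.WEqualsLocallyBijective AddCommGrpCat.{u}]

variable (R) in
/-- The free presheaf of modules on a type. -/
noncomputable abbrev pfree (I : Type u) : PresheafOfModules.{u} R.obj :=
  PresheafOfModules.freeObj ((CategoryTheory.Functor.const Cᵒᵖ).obj I)

/-- The map from the free presheaf given by sections. -/
noncomputable def pdesc {I : Type u} {G : PresheafOfModules.{u} R.obj} (s : I → G.sections) : pfree R I ⟶ G :=
  PresheafOfModules.freeObjDesc
    { app := fun W => ↾fun i => (s i).1 W
      naturality := fun W W' f => by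
        ext i
        exact ((s i).2 f).symm }

theorem pdesc_mk {I : Type u} {G : PresheafOfModules.{u} R.obj} (s : I → G.sections) (W : Cᵒᵖ) (i : I) :
    (pdesc s).app W (ModuleCat.freeMk (R := R.obj.obj W) (X := I) i) = (s i).1 W :=
  ModuleCat.freeDesc_apply _ _

theorem pfree_hom_ext {I : Type u} {G : PresheafOfModules.{u} R.obj} {f g : pfree R I ⟶ G}
    (h : ∀ (W : Cᵒᵖ) (i : I), f.app W (ModuleCat.freeMk (R := R.obj.obj W) (X := I) i) =
      g.app W (ModuleCat.freeMk (R := R.obj.obj W) (X := I) i)) : f = g :=
  PresheafOfModules.hom_ext fun W => ModuleCat.free_hom_ext (fun i => h W i)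

variable (R) in
/-- The comparison of the free presheaf with the free sheaf. -/
noncomputable def η₀ (I : Type u) : pfree R I ⟶ (SheafOfModules.free (R := R) I).val :=
  pdesc fun i => SheafOfModules.freeSection i

variable (R) in
/-- The sheafified free presheaf. -/
noncomputable abbrev shfree (I : Type u) : SheafOfModules.{u} R :=
  (PresheafOfModules.sheafification (𝟙 R.obj)).obj (pfree R I)

variable (R) in
noncomputable def uη (I : Type u) : pfree R I ⟶ (shfree R I).val :=
  (PresheafOfModules.sheafificationAdjunction (𝟙 R.obj)).unit.app (pfree R I)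

variable (R) in
noncomputable def χ' (I : Type u) : shfree R I ⟶ SheafOfModules.free (R := R) I :=
  (PresheafOfModules.sheafificationHomEquiv (𝟙 R.obj)).symm (η₀ R I)

theorem uη_χ' (I : Type u) : uη R I ≫ (χ' R I).val = η₀ R I := by
  apply (PresheafOfModules.toPresheaf R.obj).map_injective
  rw [Functor.map_comp]
  exact (PresheafOfModules.toPresheaf_map_sheafificationHomEquiv_def (𝟙 R.obj) (χ' R I)).symm.trans
    (congrArg (PresheafOfModules.toPresheaf R.obj).map (Equiv.apply_symm_apply _ _))

theorem shfree_hom_ext {I : Type u} {N : SheafOfModules.{u} R} {f g : shfree R I ⟶ N}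
    (h : uη R I ≫ f.val = uη R I ≫ g.val) : f = g := by
  apply (PresheafOfModules.sheafificationHomEquiv (𝟙 R.obj)).injective
  apply (PresheafOfModules.toPresheaf R.obj).map_injective
  refine (PresheafOfModules.toPresheaf_map_sheafificationHomEquiv_def _ f).trans
    (Eq.trans ?_ (PresheafOfModules.toPresheaf_map_sheafificationHomEquiv_def _ g).symm)
  exact congrArg (PresheafOfModules.toPresheaf R.obj).map h

variable (R) in
noncomputable def χ (I : Type u) : SheafOfModules.free (R := R) I ⟶ shfree R I :=
  (shfree R I).freeHomEquiv.symm fun i =>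
    PresheafOfModules.sectionsMk (fun W => (uη R I).app W (ModuleCat.freeMk (R := R.obj.obj W) (X := I) i))
      fun W W' f => by
        have h := PresheafOfModules.naturality_apply (uη R I) f (ModuleCat.freeMk (R := R.obj.obj W) (X := I) i)
        refine h.symm.trans (congrArg ((uη R I).app W') ?_)
        exact ModuleCat.freeDesc_apply _ _

theorem χ_section {I : Type u} (W : Cᵒᵖ) (i : I) :
    (χ R I).val.app W ((SheafOfModules.freeSection (R := R) i).1 W) =
      (uη R I).app W (ModuleCat.freeMk (R := R.obj.obj W) (X := I) i) :=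
  congrArg (fun t => t.1 W) (SheafOfModules.sectionsMap_freeHomEquiv_symm_freeSection (M := shfree R I) _ i)

theorem uη_χ'_mk {I : Type u} (W : Cᵒᵖ) (i : I) :
    (χ' R I).val.app W ((uη R I).app W (ModuleCat.freeMk (R := R.obj.obj W) (X := I) i)) =
      (SheafOfModules.freeSection (R := R) i).1 W := by
  have h := congr($(uη_χ' (R := R) I).app W (ModuleCat.freeMk (R := R.obj.obj W) (X := I) i))
  exact h.trans (pdesc_mk _ W i)

instance isIso_χ' (I : Type u) : IsIso (χ' R I) := by
  refine ⟨χ R I, shfree_hom_ext (pfree_hom_ext fun W i => ?_),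
    (SheafOfModules.freeHomEquiv _).injective (funext fun i => Subtype.ext (funext fun W => ?_))⟩
  · show (χ R I).val.app W ((χ' R I).val.app W ((uη R I).app W (ModuleCat.freeMk i))) =
      (uη R I).app W (ModuleCat.freeMk i)
    rw [uη_χ'_mk, χ_section]
  · rw [SheafOfModules.freeHomEquiv_apply, SheafOfModules.freeHomEquiv_apply]
    show (χ' R I).val.app W ((χ R I).val.app W ((SheafOfModules.freeSection i).1 W)) = _
    rw [χ_section, uη_χ'_mk]
    rfl

theorem η₀_eq (I : Type u) : (PresheafOfModules.toPresheaf R.obj).map (η₀ R I) =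
    toSheafify J (pfree R I).presheaf ≫ (PresheafOfModules.toPresheaf R.obj).map (χ' R I).val := by
  rw [← uη_χ', Functor.map_comp]
  rfl

instance isIso_map_χ' (I : Type u) : IsIso ((PresheafOfModules.toPresheaf R.obj).map (χ' R I).val) :=
  inferInstanceAs (IsIso ((SheafOfModules.forget R ⋙ PresheafOfModules.toPresheaf R.obj).map (χ' R I)))

theorem isLocallyBijective_η₀ (I : Type u) :
    Presheaf.IsLocallyInjective J ((PresheafOfModules.toPresheaf R.obj).map (η₀ R I)) ∧
      Presheaf.IsLocallySurjective J ((PresheafOfModules.toPresheaf R.obj).map (η₀ R I)) := by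
  rw [η₀_eq, ← J.W_iff_isLocallyBijective]
  exact MorphismProperty.comp_mem _ _ _ (J.W_toSheafify _)
    (MorphismProperty.of_isIso (P := J.W) ((PresheafOfModules.toPresheaf R.obj).map (χ' R I).val))

end Groth.Agent.EtQC.FreeLoc
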