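import Groth.Agent.AlgSpDec.EtSite
import Groth.Prelude.Def_AlgSpModX
import Mathlib.RingTheory.IsTensorProduct

/-!
# Sections of modules on the small etale site over affine objects
-/

set_option autoImplicit false
set_option backward.isDefEq.respectTransparency false
set_option backward.isDefEq.respectTransparency.types false

universe u

open CategoryTheory CategoryTheory.Limits AlgebraicGeometry Opposite AlgSp
open scoped TensorProduct

namespace Groth.Agent.EtQC

variable {S : Scheme.{u}} {X : Sp S}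

/-- The ring of global functions of an object. -/
abbrev Fn (E : EtOver X) : Type u := Γ(E.obj.left.left, ⊤)

noncomputable instance modFn (M : ModEt X) (E : EtOver X) : Module (Fn E) (sectModEt M E) := Module.compHom _ (upΓ E)

theorem smul_def (M : ModEt X) {E : EtOver X} (a : Fn E) (s : sectModEt M E) : a • s = upΓ E a • s := rfl

/-- Pullback of functions. -/
noncomputable def fmap {E E' : EtOver X} (g : E' ⟶ E) : Fn E →+* Fn E' := g.hom.left.left.appTop.hom

theorem fmap_comp {E E' E'' : EtOver X} (g : E' ⟶ E) (h : E'' ⟶ E') (a : Fn E) :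
    fmap (h ≫ g) a = fmap h (fmap g a) :=
  congrArg (fun φ : Γ(E.obj.left.left, ⊤) ⟶ Γ(E''.obj.left.left, ⊤) => φ.hom a)
    (Scheme.Hom.comp_appTop h.hom.left.left g.hom.left.left)

variable (M : ModEt X)

/-- Restriction of sections. -/
noncomputable def res {E E' : EtOver X} (g : E' ⟶ E) : sectModEt M E →+ sectModEt M E' :=
  (M.val.map g.op).hom.toAddMonoidHom

theorem res_smul {E E' : EtOver X} (g : E' ⟶ E) (a : Fn E) (s : sectModEt M E) :
    res M g (a • s) = fmap g a • res M g s :=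
  PresheafOfModules.map_smul M.val g.op (upΓ E a) s

theorem res_comp {E E' E'' : EtOver X} (g : E' ⟶ E) (h : E'' ⟶ E') (s : sectModEt M E) :
    res M (h ≫ g) s = res M h (res M g s) :=
  PresheafOfModules.map_comp_apply M.val g.op h.op s

theorem res_id {E : EtOver X} (s : sectModEt M E) : res M (𝟙 E) s = s :=
  PresheafOfModules.congr_map_apply (M := M.val) (op_id (X := E)) s |>.trans (by simp)

/-- Sections are determined on a jointly surjective family. -/
theorem ext_of_cover {E : EtOver X} {ι : Type*} (V : ι → EtOver X) (h : ∀ i, V i ⟶ E)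
    (hc : ∀ x : ↥E.obj.left.left, ∃ i, x ∈ Set.range (h i).hom.left.left) {s t : sectModEt M E}
    (hst : ∀ i, res M (h i) s = res M (h i) t) : s = t := by
  have hsh := (isSheaf_iff_isSheaf_of_type _ _).1
    ((Presheaf.isSheaf_iff_isSheaf_forget (etTop X) M.val.presheaf (forget AddCommGrpCat.{u + 1})).1 M.isSheaf)
  refine (hsh.isSeparated _ (AlgSpDec.ofArrows_mem_etTop V h hc)).ext ?_
  rintro W _ ⟨_, k, _, ⟨i⟩, rfl⟩
  show res M (k ≫ h i) s = res M (k ≫ h i) t
  rw [res_comp, res_comp, hst]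

/-- Sections glue along a jointly surjective family. -/
theorem exists_glue {E : EtOver X} {ι : Type (u + 1)} (V : ι → EtOver X) (h : ∀ i, V i ⟶ E)
    (hc : ∀ x : ↥E.obj.left.left, ∃ i, x ∈ Set.range (h i).hom.left.left) (s : ∀ i, sectModEt M (V i))
    (hs : ∀ i j, res M (EtOver.pullbackFst (h i) (h j)) (s i) = res M (EtOver.pullbackSnd (h i) (h j)) (s j)) :
    ∃ t : sectModEt M E, ∀ i, res M (h i) t = s i := by
  have hsh := (isSheaf_iff_isSheaf_of_type _ _).1
    ((Presheaf.isSheaf_iff_isSheaf_forget (etTop X) M.val.presheaf (forget AddCommGrpCat.{u + 1})).1 M.isSheaf)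
  have h2 := (Presieve.isSheafFor_iff_generate _).2 (hsh _ (AlgSpDec.ofArrows_mem_etTop V h hc))
  obtain ⟨t, ht, -⟩ := (Presieve.isSheafFor_arrows_iff _ _).1 h2 s fun i j W a b hab => by
    obtain ⟨l, rfl, rfl⟩ : ∃ l, l ≫ EtOver.pullbackFst (h i) (h j) = a ∧ l ≫ EtOver.pullbackSnd (h i) (h j) = b :=
      ⟨_, (EtOver.isPullback (h i) (h j)).lift_fst a b hab, (EtOver.isPullback (h i) (h j)).lift_snd a b hab⟩
    show res M _ (s i) = res M _ (s j)
    rw [res_comp, res_comp, hs]
  exact ⟨t, ht⟩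

theorem exists_arrow_of_mem {E : EtOver X} (R : Sieve E) (hR : R ∈ etTop X E) (x : ↥E.obj.left.left) :
    ∃ (Y : EtOver X) (g : Y ⟶ E), R g ∧ x ∈ Set.range g.hom.left.left := by
  obtain ⟨P, hP, hPR⟩ := (etPre X).mem_toGrothendieck_iff_of_isStableUnderComposition.1 hR
  obtain ⟨ι, Y, g, rfl⟩ := P.exists_eq_ofArrows
  obtain ⟨j, hj⟩ := (ofArrows_mem_etPre_iff Y g).1 hP x
  exact ⟨Y j, g j, hPR _ _ (Presieve.ofArrows.mk j), hj⟩

/-- A covering sieve of an affine object contains finitely many affine objects covering it. -/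
theorem exists_affine_refinement {E : EtOver X} [IsAffine E.obj.left.left] {R : Sieve E} (hR : R ∈ etTop X E) :
    ∃ (n : ℕ) (V : Fin n → EtOver X) (h : ∀ i, V i ⟶ E), (∀ i, IsAffine (V i).obj.left.left) ∧ (∀ i, R (h i)) ∧
      ∀ x : ↥E.obj.left.left, ∃ i, x ∈ Set.range (h i).hom.left.left := by
  choose W g hg hx using fun x : ↥E.obj.left.left => exists_arrow_of_mem R hR x
  choose w hw using fun x => hx x
  choose O hO hwO hle using fun x : ↥E.obj.left.left =>
    exists_isAffineOpen_mem_and_subset (x := w x) (U := (⊤ : (W x).obj.left.left.Opens)) trivial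
  let U : ↥E.obj.left.left → Set ↥E.obj.left.left := fun x =>
    Set.range (AlgSpDec.etOpenι (W x) (O x) ≫ g x).hom.left.left
  have hopen : ∀ x, IsOpen (U x) := fun x => by
    haveI := EtOver.etale_left (AlgSpDec.etOpenι (W x) (O x) ≫ g x)
    exact (AlgSpDec.etOpenι (W x) (O x) ≫ g x).hom.left.left.isOpenMap.isOpen_range
  have hmem : ∀ x, x ∈ U x := fun x => ⟨⟨w x, hwO x⟩, hw x⟩
  obtain ⟨T, hT⟩ := isCompact_univ.elim_finite_subcover U hopen fun x _ => Set.mem_iUnion.2 ⟨x, hmem x⟩
  refine ⟨T.card, fun i => AlgSpDec.etOpen (W (T.equivFin.symm i).1) (O (T.equivFin.symm i).1),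
    fun i => AlgSpDec.etOpenι _ _ ≫ g _, fun i => hO _, fun i => R.downward_closed (hg _) _, fun x => ?_⟩
  obtain ⟨y, hyT, hy⟩ := Set.mem_iUnion₂.1 (hT (Set.mem_univ x))
  have key : ∀ z : T, z = ⟨y, hyT⟩ → x ∈ Set.range (AlgSpDec.etOpenι (W z.1) (O z.1) ≫ g z.1).hom.left.left := by
    rintro _ rfl
    exact hy
  exact ⟨T.equivFin ⟨y, hyT⟩, key _ (T.equivFin.symm_apply_apply _)⟩

instance isAffine_pullbackObj {E₁ E₂ E₀ : EtOver X} (g₁ : E₁ ⟶ E₀) (g₂ : E₂ ⟶ E₀) [IsAffine E₁.obj.left.left]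
    [IsAffine E₂.obj.left.left] [IsAffine E₀.obj.left.left] :
    IsAffine (EtOver.pullbackObj g₁ g₂).obj.left.left := by
  haveI : IsAffine ((Over.forget S).obj E₀.obj.left) := ‹_›
  have h := ((IsPullback.of_hasPullback g₁.hom.left g₂.hom.left).map (Over.forget S))
  haveI : IsAffine ((Over.forget S).obj E₁.obj.left) := inferInstanceAs (IsAffine E₁.obj.left.left)
  haveI : IsAffine ((Over.forget S).obj E₂.obj.left) := inferInstanceAs (IsAffine E₂.obj.left.left)
  exact IsAffine.of_isIso h.isoPullback.hom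

theorem isPullback_left {E₁ E₂ E₀ : EtOver X} (g₁ : E₁ ⟶ E₀) (g₂ : E₂ ⟶ E₀) :
    IsPullback (EtOver.pullbackFst g₁ g₂).hom.left.left (EtOver.pullbackSnd g₁ g₂).hom.left.left
      g₁.hom.left.left g₂.hom.left.left :=
  (IsPullback.of_hasPullback g₁.hom.left g₂.hom.left).map (Over.forget S)

/-- Functions on an affine fibre product form the pushout. -/
theorem isPushout_fn {E₁ E₂ E₀ : EtOver X} (g₁ : E₁ ⟶ E₀) (g₂ : E₂ ⟶ E₀) [IsAffine E₁.obj.left.left]
    [IsAffine E₂.obj.left.left] [IsAffine E₀.obj.left.left] :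
    IsPushout g₁.hom.left.left.appTop g₂.hom.left.left.appTop
      (EtOver.pullbackFst g₁ g₂).hom.left.left.appTop (EtOver.pullbackSnd g₁ g₂).hom.left.left.appTop := by
  have sq := isPullback_left g₁ g₂
  have po := (isIso_pushoutSection_iff sq (US := ⊤) (UT := ⊤) (UX := ⊤) (UY := ⊤) (by simp) (by simp)
    (by simp)).mp (isIso_pushoutSection_of_isAffineOpen sq _ _ _
      (isAffineOpen_top _) (isAffineOpen_top _) (isAffineOpen_top _))
  simp only [Scheme.Hom.appLE, TopologicalSpace.Opens.map_top, homOfLE_refl, op_id, CategoryTheory.Functor.map_id,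
    Category.comp_id] at po
  exact po

end Groth.Agent.EtQC
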