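import Groth.Agent.EtQC.Largest
import Groth.Agent.EtQC.FinPres
import Groth.Agent.EtQC.Glob.Site

/-!
# On a Noetherian space quasi-coherent modules are unions of coherent submodules

For a finitely generated module of sections `N₀` on an affine atlas `V` the sections whose pullback to the
product with `V` is generated by `N₀` form a quasi-coherent submodule with values inside `N₀` on `V`.
-/

set_option autoImplicit false
set_option backward.isDefEq.respectTransparency false
set_option backward.isDefEq.respectTransparency.types false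

universe u

set_option maxHeartbeats 1600000

open CategoryTheory CategoryTheory.Limits AlgebraicGeometry Opposite AlgSp
open scoped TensorProduct

namespace Groth.Agent.EtQC

variable {S : Scheme.{u}} {X : Sp S} {M : ModEt X}

theorem res_mem_span {W T T' : EtOver X} (b : T ⟶ W) (l : T' ⟶ T) {N : Set (sectModEt M W)} {y : sectModEt M T}
    (hy : y ∈ Submodule.span (Fn T) (res M b '' N)) : res M l y ∈ Submodule.span (Fn T') (res M (l ≫ b) '' N) := by
  induction hy using Submodule.span_induction with
  | mem y hy =>
    obtain ⟨n, hn, rfl⟩ := hy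
    exact Submodule.subset_span ⟨n, hn, res_comp M b l n⟩
  | zero => rw [map_zero]; exact zero_mem _
  | add a c _ _ ha hc => rw [map_add]; exact add_mem ha hc
  | smul c a _ ha => rw [res_smul]; exact Submodule.smul_mem _ _ ha

/-- Membership in a submodule of sections is local. -/
theorem mem_of_cover {W : EtOver X} [IsAffine W.obj.left.left] (hM : BC M W) (L : Submodule (Fn W) (sectModEt M W))
    {ι : Type} [Finite ι] (U : ι → EtOver X) [∀ i, IsAffine (U i).obj.left.left] (g : ∀ i, U i ⟶ W)
    (hc : ∀ x : ↥W.obj.left.left, ∃ i, x ∈ Set.range (g i).hom.left.left) (s : sectModEt M W)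
    (hs : ∀ i, res M (g i) s ∈ Submodule.span (Fn (U i)) (res M (g i) '' (L : Set (sectModEt M W)))) : s ∈ L := by
  letI : ∀ i, Algebra (Fn W) (Fn (U i)) := fun i => (fmap (g i)).toAlgebra
  haveI : ∀ i, Module.Flat (Fn W) (Fn (U i)) := fun i => flat_fmap (g i)
  cases nonempty_fintype ι
  let e := Fintype.equivFin ι
  have hmem : s ∈ LinearMap.range L.subtype := mem_range_of_forall_flat (fun i => Fn (U (e.symm i)))
    (fun p hp => LocPres.exists_prime_over (fun i => U (e.symm i)) (fun i => g (e.symm i)) (fun x => by
      obtain ⟨i, hi⟩ := hc x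
      refine ⟨e i, ?_⟩
      rw [e.symm_apply_apply]
      exact hi) p hp) _ s fun i => by
      suffices key : ∀ y ∈ Submodule.span (Fn (U (e.symm i))) (res M (g (e.symm i)) '' (L : Set (sectModEt M W))),
          ∃ z, gam (RingHom.id (Fn (U (e.symm i)))) (res M (g (e.symm i))) (res_smul' M (g (e.symm i)))
            (L.subtype.lTensor (Fn (U (e.symm i))) z) = y by
        obtain ⟨z, hz⟩ := key _ (hs (e.symm i))
        refine ⟨z, (hM (U (e.symm i)) (g (e.symm i)) inferInstance).1 (hz.trans ?_)⟩
        rw [gam_tmul, RingHom.id_apply, one_smul]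
      intro y hy
      induction hy using Submodule.span_induction with
      | mem y hy =>
        obtain ⟨t, ht, rfl⟩ := hy
        exact ⟨(1 : Fn (U (e.symm i))) ⊗ₜ ⟨t, ht⟩, by
          rw [LinearMap.lTensor_tmul, gam_tmul, RingHom.id_apply, one_smul]; rfl⟩
      | zero => exact ⟨0, by rw [map_zero, map_zero]⟩
      | add a b _ _ ha hb =>
        obtain ⟨za, rfl⟩ := ha
        obtain ⟨zb, rfl⟩ := hb
        exact ⟨za + zb, by rw [map_add, map_add]⟩
      | smul c a _ ha =>
        obtain ⟨za, rfl⟩ := ha
        refine ⟨c • za, ?_⟩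
        clear * - za c
        induction za using TensorProduct.induction_on with
        | zero => simp
        | add x y hx hy => simp only [smul_add, map_add, hx, hy]
        | tmul b t =>
          rw [TensorProduct.smul_tmul', LinearMap.lTensor_tmul, LinearMap.lTensor_tmul, gam_tmul, gam_tmul]
          exact mul_smul c b _
  rwa [Submodule.range_subtype] at hmem

variable (V : EtOver X)

/-- Finitely many affine pieces covering the product with `V`. -/
theorem exists_pieces [QuasiSeparatedSpace ↥S] (hqs : IsQuasiSeparatedSp X) [IsAffine V.obj.left.left]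
    (W : EtOver X) [IsAffine W.obj.left.left] :
    ∃ (n : ℕ) (P : Fin n → EtOver X) (a : ∀ i, P i ⟶ W) (b : ∀ i, P i ⟶ V), (∀ i, IsAffine (P i).obj.left.left) ∧
      (∀ (T : EtOver X), IsAffine T.obj.left.left → ∀ (a' : T ⟶ W) (b' : T ⟶ V),
        ∃ (m : ℕ) (U : Fin m → EtOver X) (h : ∀ j, U j ⟶ T), (∀ j, IsAffine (U j).obj.left.left) ∧
          (∀ x : ↥T.obj.left.left, ∃ j, x ∈ Set.range (h j).hom.left.left) ∧
          ∀ j, ∃ (i : Fin n) (l : U j ⟶ P i), l ≫ a i = h j ≫ a' ∧ l ≫ b i = h j ≫ b') ∧
      (RepWith @Surjective V.obj.hom → ∀ x : ↥W.obj.left.left, ∃ i, x ∈ Set.range (a i).hom.left.left) := by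
  haveI := (Glob.qcqs_prodObj hqs W V (Glob.qcqs_of_isAffine W) (Glob.qcqs_of_isAffine V)).1
  obtain ⟨n, P, p, hP, -, hp⟩ := Glob.exists_affine_refinement ((etTop X).top_mem (EtOver.prodObj W V))
  refine ⟨n, P, fun i => p i ≫ EtOver.prodFst W V, fun i => p i ≫ EtOver.prodSnd W V, hP,
    fun T hT a' b' => ?_, fun hs x => ?_⟩
  · haveI := hT
    obtain ⟨t, ht1, ht2⟩ := BinaryFan.IsLimit.lift' (EtOver.prodIsLimit W V) a' b'
    have ht1' : t ≫ EtOver.prodFst W V = a' := ht1
    have ht2' : t ≫ EtOver.prodSnd W V = b' := ht2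
    obtain ⟨m, U, h, hU, hR, hc⟩ := exists_affine_refinement
      ((etTop X).pullback_stable t (AlgSpDec.ofArrows_mem_etTop P p hp))
    refine ⟨m, U, h, hU, hc, fun j => ?_⟩
    obtain ⟨i, l, hl⟩ := (Sieve.mem_ofArrows_iff _ _ _).1 (hR j)
    refine ⟨i, l, ?_, ?_⟩
    · rw [← Category.assoc, ← hl, Category.assoc, ht1']
    · rw [← Category.assoc, ← hl, Category.assoc, ht2']
  · haveI : Surjective (V.property.1.snd W.obj.hom).left := hs.2 _ _ _ (V.property.1.isPullback W.obj.hom)
    obtain ⟨y, hy⟩ := (V.property.1.snd W.obj.hom).left.surjective x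
    obtain ⟨i, z, hz⟩ := hp y
    refine ⟨i, z, ?_⟩
    show (EtOver.prodFst W V).hom.left.left ((p i).hom.left.left z) = x
    rw [hz]
    exact hy

variable {V} (hM : BCAll M) (N₀ : Submodule (Fn V) (sectModEt M V))

include hM in
/-- The sections generated by `N₀` over the product with `V`. -/
noncomputable def hull : AffSub M where
  P W _ :=
    { carrier := {m | ∀ (T : EtOver X), IsAffine T.obj.left.left → ∀ (a : T ⟶ W) (b : T ⟶ V),
        res M a m ∈ Submodule.span (Fn T) (res M b '' (N₀ : Set (sectModEt M V)))}
      zero_mem' := fun T _ a b => by rw [map_zero]; exact zero_mem _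
      add_mem' := fun {x y} hx hy T hT a b => by rw [map_add]; exact add_mem (hx T hT a b) (hy T hT a b)
      smul_mem' := fun c x hx T hT a b => by rw [res_smul]; exact Submodule.smul_mem _ _ (hx T hT a b) }
  map {W W'} g _ _ s hs T hT a b := by
    rw [← res_comp]
    exact hs T hT (a ≫ g) b
  loc W hW n U g hU hc s hs T hT a b := by
    haveI := hT
    haveI := hW
    haveI := hU
    refine mem_of_cover (hM T hT) _ (fun i => EtOver.pullbackObj a (g i)) (fun i => EtOver.pullbackFst a (g i))
      (fun x => ?_) _ fun i => ?_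
    · obtain ⟨i, y, hy⟩ := hc (a.hom.left.left x)
      obtain ⟨z, hz, -⟩ := Scheme.exists_preimage_of_isPullback (isPullback_left a (g i)) x y hy.symm
      exact ⟨i, z, hz⟩
    · rw [← res_comp, EtOver.pullback_condition, res_comp]
      refine Submodule.span_mono ?_ (hs i _ inferInstance (EtOver.pullbackSnd a (g i))
        (EtOver.pullbackFst a (g i) ≫ b))
      rintro _ ⟨x, hx, rfl⟩
      exact ⟨res M b x, Submodule.subset_span ⟨x, hx, rfl⟩, (res_comp M b _ x).symm⟩

include hM in
theorem mem_hull_of_pieces {W : EtOver X} [IsAffine W.obj.left.left] {n : ℕ} {P : Fin n → EtOver X}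
    {a : ∀ i, P i ⟶ W} {b : ∀ i, P i ⟶ V}
    (hp : ∀ (T : EtOver X), IsAffine T.obj.left.left → ∀ (a' : T ⟶ W) (b' : T ⟶ V),
      ∃ (m : ℕ) (U : Fin m → EtOver X) (h : ∀ j, U j ⟶ T), (∀ j, IsAffine (U j).obj.left.left) ∧
        (∀ x : ↥T.obj.left.left, ∃ j, x ∈ Set.range (h j).hom.left.left) ∧
        ∀ j, ∃ (i : Fin n) (l : U j ⟶ P i), l ≫ a i = h j ≫ a' ∧ l ≫ b i = h j ≫ b')
    {s : sectModEt M W}
    (hs : ∀ i, res M (a i) s ∈ Submodule.span (Fn (P i)) (res M (b i) '' (N₀ : Set (sectModEt M V)))) :
    s ∈ (hull hM N₀).P W ‹_› := by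
  intro T hT a' b'
  haveI := hT
  obtain ⟨m, U, h, hU, hc, hl⟩ := hp T hT a' b'
  haveI := hU
  refine mem_of_cover (hM T hT) _ U h hc _ fun j => ?_
  obtain ⟨i, l, h1, h2⟩ := hl j
  rw [← res_comp, ← h1, res_comp]
  have h3 := res_mem_span (b i) l (hs i)
  rw [h2] at h3
  refine Submodule.span_mono ?_ h3
  rintro _ ⟨x, hx, rfl⟩
  exact ⟨res M b' x, Submodule.subset_span ⟨x, hx, rfl⟩, (res_comp M b' _ x).symm⟩

include hM in
/-- The hull is quasi-coherent. -/
theorem hull_bcAll [QuasiSeparatedSpace ↥S] (hqs : IsQuasiSeparatedSp X) [IsAffine V.obj.left.left] :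
    BCAll (hull hM N₀).mod :=
  (hull hM N₀).bcAll hM fun {W W'} g hW hW' y hy => by
    haveI := hW
    haveI := hW'
    letI := (fmap g).toAlgebra
    haveI : Module.Flat (Fn W) (Fn W') := flat_fmap g
    obtain ⟨n, P, a, b, hP, hp, -⟩ := exists_pieces V hqs W
    haveI := hP
    letI : ∀ i, Module (Fn W) (sectModEt M (P i)) := fun i => modRes M (a i)
    let L : ∀ i, Submodule (Fn W) (sectModEt M (P i)) := fun i =>
      { carrier := Submodule.span (Fn (P i)) (res M (b i) '' (N₀ : Set (sectModEt M V)))
        zero_mem' := zero_mem _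
        add_mem' := fun {x y} hx hy => add_mem (a := x) (b := y) hx hy
        smul_mem' := fun c x hx => Submodule.smul_mem _ (fmap (a i) c) hx }
    let r : ∀ i, sectModEt M W →ₗ[Fn W] sectModEt M (P i) := fun i =>
      { toFun := res M (a i)
        map_add' := map_add _
        map_smul' := fun c s => res_smul M (a i) c s }
    let μ : sectModEt M W →ₗ[Fn W] ∀ i, sectModEt M (P i) ⧸ L i :=
      LinearMap.pi fun i => (L i).mkQ ∘ₗ r i
    have hμ : ∀ s, μ s = 0 → s ∈ (hull hM N₀).P W hW := fun s hs => mem_hull_of_pieces hM N₀ hp fun i =>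
      (Submodule.Quotient.mk_eq_zero (L i)).1 (congrFun hs i)
    obtain ⟨z, rfl⟩ := (hM W hW W' g hW').2 y
    have hz : μ.lTensor (Fn W') z = 0 := by
      refine (TensorProduct.piRight (Fn W) (Fn W) (Fn W') fun i => sectModEt M (P i) ⧸ L i).injective
        (funext fun i => ?_)
      rw [map_zero, Pi.zero_apply]
      let P' := EtOver.pullbackObj g (a i)
      let ga : P' ⟶ W' := EtOver.pullbackFst g (a i)
      let gb : P' ⟶ P i := EtOver.pullbackSnd g (a i)
      have hgab : ga ≫ g = gb ≫ a i := EtOver.pullback_condition g (a i)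
      have hr : ∀ (c : Fn W) (s : sectModEt M (P i)),
          res M gb (c • s) = fmap ga (algebraMap (Fn W) (Fn W') c) • res M gb s := fun c s => by
        show res M gb (fmap (a i) c • s) = fmap ga (fmap g c) • _
        rw [res_smul, ← fmap_comp, ← fmap_comp, hgab]
      have hbij := bijective_gam_of_square M (hM (P i) inferInstance) g (a i) ga gb (isPushout_fn g (a i)) hr
      have e1 : (TensorProduct.piRight (Fn W) (Fn W) (Fn W') fun i => sectModEt M (P i) ⧸ L i)
          (μ.lTensor (Fn W') z) i = (L i).mkQ.lTensor (Fn W') ((r i).lTensor (Fn W') z) := by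
        clear hy
        induction z using TensorProduct.induction_on with
        | zero => simp
        | add x y hx hy => simp only [map_add, Pi.add_apply, hx, hy]
        | tmul c s =>
          rw [LinearMap.lTensor_tmul, TensorProduct.piRight_apply, TensorProduct.piRightHom_tmul,
            LinearMap.lTensor_tmul, LinearMap.lTensor_tmul]
          rfl
      have e2 : gam (fmap ga) (res M gb) hr ((r i).lTensor (Fn W') z) =
          res M ga (gam (RingHom.id (Fn W')) (res M g) (res_smul' M g) z) := by
        clear hy e1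
        induction z using TensorProduct.induction_on with
        | zero => simp
        | add x y hx hy => simp only [map_add, hx, hy]
        | tmul c s =>
          show fmap ga c • res M gb (res M (a i) s) = res M ga (c • res M g s)
          rw [res_smul, ← res_comp, ← res_comp, hgab]
      -- functions on the fibre product act on the image of the generated part
      have hclo : ∀ (c : Fn P') (x : sectModEt M (P i)), x ∈ L i → ∃ w : Fn W' ⊗[Fn W] L i,
          gam (fmap ga) (res M gb) hr ((L i).subtype.lTensor (Fn W') w) = c • res M gb x := by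
        letI : Algebra (Fn W) (Fn (P i)) := (fmap (a i)).toAlgebra
        letI : Algebra (Fn W') (Fn P') := (fmap ga).toAlgebra
        letI : Algebra (Fn (P i)) (Fn P') := (fmap gb).toAlgebra
        letI : Algebra (Fn W) (Fn P') := ((fmap ga).comp (fmap g)).toAlgebra
        haveI : IsScalarTower (Fn W) (Fn W') (Fn P') := IsScalarTower.of_algebraMap_eq fun _ => rfl
        haveI : IsScalarTower (Fn W) (Fn (P i)) (Fn P') := IsScalarTower.of_algebraMap_eq fun c => by
          show fmap ga (fmap g c) = fmap gb (fmap (a i) c)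
          rw [← fmap_comp, ← fmap_comp, hgab]
        haveI : Algebra.IsPushout (Fn W) (Fn W') (Fn (P i)) (Fn P') :=
          CommRingCat.isPushout_iff_isPushout.1 (isPushout_fn g (a i))
        intro c
        induction c using (Algebra.IsPushout.out (R := Fn W) (S := Fn W') (R' := Fn (P i))
          (S' := Fn P')).inductionOn with
        | zero => exact fun x _ => ⟨0, by simp⟩
        | tmul p =>
          intro x hx
          refine ⟨(1 : Fn W') ⊗ₜ ⟨p • x, Submodule.smul_mem _ p hx⟩, ?_⟩
          show fmap ga 1 • res M gb (p • x) = fmap gb p • res M gb x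
          rw [map_one, one_smul, res_smul]
        | smul w c hc =>
          intro x hx
          obtain ⟨t, ht⟩ := hc x hx
          refine ⟨w • t, ?_⟩
          rw [show (w • c) • res M gb x = fmap ga w • c • res M gb x from mul_smul _ _ _, ← ht]
          clear ht
          induction t using TensorProduct.induction_on with
          | zero => simp
          | add x y hx hy => simp only [map_add, smul_add, hx, hy]
          | tmul d t =>
            rw [TensorProduct.smul_tmul', LinearMap.lTensor_tmul, LinearMap.lTensor_tmul, gam_tmul, gam_tmul,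
              smul_eq_mul, map_mul, mul_smul]
        | add c c' hc hc' =>
          intro x hx
          obtain ⟨t, ht⟩ := hc x hx
          obtain ⟨t', ht'⟩ := hc' x hx
          exact ⟨t + t', by rw [map_add, map_add, ht, ht', add_smul]⟩
      have hspan : ∀ v ∈ Submodule.span (Fn P') (res M (gb ≫ b i) '' (N₀ : Set (sectModEt M V))),
          ∃ w : Fn W' ⊗[Fn W] L i, gam (fmap ga) (res M gb) hr ((L i).subtype.lTensor (Fn W') w) = v := by
        intro v hv
        suffices key : ∀ c : Fn P', ∃ w : Fn W' ⊗[Fn W] L i,
            gam (fmap ga) (res M gb) hr ((L i).subtype.lTensor (Fn W') w) = c • v by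
          simpa only [one_smul] using key 1
        induction hv using Submodule.span_induction with
        | mem v hv =>
          obtain ⟨x, hx, rfl⟩ := hv
          intro c
          rw [res_comp]
          exact hclo c _ (Submodule.subset_span ⟨x, hx, rfl⟩)
        | zero => exact fun c => ⟨0, by rw [map_zero, map_zero, smul_zero]⟩
        | add x y _ _ hx hy =>
          intro c
          obtain ⟨t, ht⟩ := hx c
          obtain ⟨t', ht'⟩ := hy c
          exact ⟨t + t', by rw [map_add, map_add, ht, ht', smul_add]⟩
        | smul d x _ hx =>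
          intro c
          rw [smul_smul]
          exact hx (c * d)
      obtain ⟨w, hw⟩ := hspan _ (hy P' inferInstance ga (gb ≫ b i))
      rw [e1, ← hbij.1 (hw.trans e2.symm), ← LinearMap.comp_apply, ← LinearMap.lTensor_comp,
        show (L i).mkQ ∘ₗ (L i).subtype = 0 from LinearMap.ext fun x => (Submodule.Quotient.mk_eq_zero _).2 x.2,
        LinearMap.lTensor_zero, LinearMap.zero_apply]
    obtain ⟨w, rfl⟩ := (Module.Flat.lTensor_exact (Fn W') (LinearMap.exact_subtype_ker_map μ) z).1 hz
    clear hy hz
    induction w using TensorProduct.induction_on with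
    | zero => simp
    | add x y hx hy => rw [map_add, map_add]; exact add_mem hx hy
    | tmul c s =>
      rw [LinearMap.lTensor_tmul, gam_tmul]
      exact Submodule.smul_mem _ _ (Submodule.subset_span ⟨s.1, hμ s.1 (LinearMap.mem_ker.1 s.2), rfl⟩)

end Groth.Agent.EtQC
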