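import Groth.Agent.EtQC.Alg
import Mathlib.RingTheory.Spectrum.Prime.Basic
import Mathlib.RingTheory.Flat.FaithfullyFlat.Algebra

/-!
# Detecting zero and membership in a range on a flat covering
-/

set_option autoImplicit false

universe u v

open TensorProduct CategoryTheory

namespace Groth.Agent.EtQC

section Detect

variable {B : Type u} [CommRing B] {ι : Type} (Bk : ι → Type u) [∀ k, CommRing (Bk k)] [∀ k, Algebra B (Bk k)]
  [∀ k, Module.Flat B (Bk k)]

/-- An element killed by all members of a flat covering is zero. -/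
theorem eq_zero_of_forall_flat
    (hcov : ∀ p : Ideal B, p.IsPrime → ∃ k, ∃ q : Ideal (Bk k), q.IsPrime ∧ q.comap (algebraMap B (Bk k)) = p)
    {W : Type v} [AddCommGroup W] [Module B W] (w : W) (h : ∀ k, (1 : Bk k) ⊗ₜ[B] w = 0) : w = 0 := by
  by_contra hw
  let I := (Submodule.span B {w}).annihilator
  have hI : I ≠ ⊤ := fun hI => hw (by
    have h1 : (1 : B) ∈ I := by rw [hI]; exact Submodule.mem_top
    simpa using (Submodule.mem_annihilator_span_singleton w (1 : B)).1 h1)
  obtain ⟨p, hp, hIp⟩ := Ideal.exists_le_maximal I hI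
  obtain ⟨k, q, hq, hqp⟩ := hcov p hp.isPrime
  let j : B ⧸ I →ₗ[B] W := Submodule.liftQ _ (LinearMap.toSpanSingleton B W w) fun r hr => by
    rw [LinearMap.mem_ker, LinearMap.toSpanSingleton_apply]
    exact (Submodule.mem_annihilator_span_singleton _ _).1 hr
  have hj : Function.Injective j := by
    rw [← LinearMap.ker_eq_bot]
    refine Submodule.ker_liftQ_eq_bot _ _ _ fun r hr => (Submodule.mem_annihilator_span_singleton _ _).2 ?_
    rwa [LinearMap.mem_ker, LinearMap.toSpanSingleton_apply] at hr
  have h1 : (1 : Bk k) ⊗ₜ[B] (Ideal.Quotient.mk I 1) = 0 := by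
    apply Module.Flat.lTensor_preserves_injective_linearMap j hj
    rw [map_zero, LinearMap.lTensor_tmul]
    show (1 : Bk k) ⊗ₜ[B] ((1 : B) • w) = 0
    rw [one_smul, h k]
  have h2 := congrArg (Algebra.TensorProduct.quotIdealMapEquivTensorQuot (Bk k) I).symm h1
  rw [Algebra.TensorProduct.quotIdealMapEquivTensorQuot_symm_tmul, map_zero] at h2
  have h3 : (1 : Bk k) ∈ I.map (algebraMap B (Bk k)) := Ideal.Quotient.eq_zero_iff_mem.1 (by simpa using h2)
  exact hq.ne_top ((Ideal.eq_top_iff_one q).2 (Ideal.map_le_iff_le_comap.2 (hIp.trans hqp.ge) h3))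

/-- An element which lies in a range on all members of a flat covering lies in the range. -/
theorem mem_range_of_forall_flat
    (hcov : ∀ p : Ideal B, p.IsPrime → ∃ k, ∃ q : Ideal (Bk k), q.IsPrime ∧ q.comap (algebraMap B (Bk k)) = p)
    {N P : Type v} [AddCommGroup N] [Module B N] [AddCommGroup P] [Module B P] (f : N →ₗ[B] P) (z : P)
    (h : ∀ k, (1 : Bk k) ⊗ₜ[B] z ∈ LinearMap.range (f.lTensor (Bk k))) : z ∈ LinearMap.range f := by
  rw [← Submodule.Quotient.mk_eq_zero]
  refine eq_zero_of_forall_flat Bk hcov _ fun k => ?_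
  obtain ⟨t, ht⟩ := h k
  rw [← Submodule.mkQ_apply, ← LinearMap.lTensor_tmul, ← ht, ← LinearMap.comp_apply, ← LinearMap.lTensor_comp]
  have : (LinearMap.range f).mkQ ∘ₗ f = 0 :=
    LinearMap.ext fun n => (Submodule.Quotient.mk_eq_zero _).2 (LinearMap.mem_range_self f n)
  rw [this, LinearMap.lTensor_zero, LinearMap.zero_apply]

end Detect

section Push

variable {A B A1 C : Type u} [CommRing A] [CommRing B] [CommRing A1] [CommRing C] [Algebra A B] [Algebra A A1]
  [Algebra A C] [Algebra B A1] [IsScalarTower A B A1]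

/-- Base change of a base change along a pushout of rings. -/
theorem gam_pushout_bijective {B1 : Type u} [CommRing B1] [Algebra B B1] (ψ : B1 →+* C) (χ : A1 →ₐ[A] C)
    (hp : IsPushout (CommRingCat.ofHom (algebraMap B B1)) (CommRingCat.ofHom (algebraMap B A1))
      (CommRingCat.ofHom ψ) (CommRingCat.ofHom χ.toRingHom))
    (N : Type v) [AddCommGroup N] [Module A N]
    (hr : ∀ (b : B) (x : A1 ⊗[A] N), χ.toLinearMap.rTensor N (b • x) =
      ψ (algebraMap B B1 b) • χ.toLinearMap.rTensor N x) :
    Function.Bijective (gam ψ (χ.toLinearMap.rTensor N).toAddMonoidHom hr) := by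
  letI := χ.toRingHom.toAlgebra
  haveI : IsScalarTower A A1 C := IsScalarTower.of_algebraMap_eq fun a => (χ.commutes a).symm
  have hr' : ∀ (a : A1) (x : A1 ⊗[A] N), (χ.toLinearMap.rTensor N).toAddMonoidHom (a • x) =
      RingHom.id C (algebraMap A1 C a) • (χ.toLinearMap.rTensor N).toAddMonoidHom x := by
    intro a x
    induction x using TensorProduct.induction_on with
    | zero => simp
    | add x y hx hy => simp only [smul_add, map_add, hx, hy]
    | tmul c n =>
      show χ.toLinearMap.rTensor N (a • (c ⊗ₜ n)) = χ a • χ.toLinearMap.rTensor N (c ⊗ₜ n)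
      rw [TensorProduct.smul_tmul', LinearMap.rTensor_tmul, LinearMap.rTensor_tmul, AlgHom.toLinearMap_apply,
        AlgHom.toLinearMap_apply, TensorProduct.smul_tmul', smul_eq_mul, smul_eq_mul, map_mul]
  refine (gam_bijective_iff_of_isPushout ψ χ.toRingHom hp _ hr hr').2 ?_
  have key : ∀ z, gam (RingHom.id C) _ hr' z = TensorProduct.AlgebraTensorModule.cancelBaseChange A A1 C C N z := by
    intro z
    induction z using TensorProduct.induction_on with
    | zero => simp
    | add x y hx hy => simp only [map_add, hx, hy]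
    | tmul c x =>
      induction x using TensorProduct.induction_on with
      | zero => simp
      | add x y hx hy => simp only [TensorProduct.tmul_add, map_add, hx, hy]
      | tmul a n =>
        rw [gam_tmul, TensorProduct.AlgebraTensorModule.cancelBaseChange_tmul, RingHom.id_apply]
        show c • χ.toLinearMap.rTensor N (a ⊗ₜ n) = _
        rw [LinearMap.rTensor_tmul, TensorProduct.smul_tmul', AlgHom.toLinearMap_apply, smul_eq_mul, Algebra.smul_def,
          mul_comm]
        rfl
  rw [show (gam (RingHom.id C) _ hr' : _ → _) = TensorProduct.AlgebraTensorModule.cancelBaseChange A A1 C C N from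
    funext key]
  exact LinearEquiv.bijective _

end Push

end Groth.Agent.EtQC

namespace Groth.Agent.EtQC

open TensorProduct in
theorem one_mem_map_of_tmul_eq_zero {A : Type u} {B : Type u} [CommRing A] [CommRing B] [Algebra A B]
    [Module.Flat A B] {W : Type v} [AddCommGroup W] [Module A W] (w : W) (h : (1 : B) ⊗ₜ[A] w = 0) :
    (1 : B) ∈ (Submodule.span A {w}).annihilator.map (algebraMap A B) := by
  let I := (Submodule.span A {w}).annihilator
  let j : A ⧸ I →ₗ[A] W := Submodule.liftQ _ (LinearMap.toSpanSingleton A W w) fun r hr => by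
    rw [LinearMap.mem_ker, LinearMap.toSpanSingleton_apply]
    exact (Submodule.mem_annihilator_span_singleton _ _).1 hr
  have hj : Function.Injective j := by
    rw [← LinearMap.ker_eq_bot]
    refine Submodule.ker_liftQ_eq_bot _ _ _ fun r hr => (Submodule.mem_annihilator_span_singleton _ _).2 ?_
    rwa [LinearMap.mem_ker, LinearMap.toSpanSingleton_apply] at hr
  have h1 : (1 : B) ⊗ₜ[A] (Ideal.Quotient.mk I 1) = 0 := by
    apply Module.Flat.lTensor_preserves_injective_linearMap j hj
    rw [map_zero, LinearMap.lTensor_tmul]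
    show (1 : B) ⊗ₜ[A] ((1 : A) • w) = 0
    rw [one_smul, h]
  have h2 := congrArg (Algebra.TensorProduct.quotIdealMapEquivTensorQuot B I).symm h1
  rw [Algebra.TensorProduct.quotIdealMapEquivTensorQuot_symm_tmul, map_zero] at h2
  exact Ideal.Quotient.eq_zero_iff_mem.1 (by simpa using h2)

end Groth.Agent.EtQC
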