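import Groth.Agent.EtQC.PresData

/-!
# A presented module has base change on affine objects
-/

set_option autoImplicit false
set_option backward.isDefEq.respectTransparency false
set_option backward.isDefEq.respectTransparency.types false

universe u

open CategoryTheory CategoryTheory.Limits AlgebraicGeometry Opposite AlgSp
open scoped TensorProduct

namespace Groth.Agent.EtQC.LocPres

variable {S : Scheme.{u}} {X : Sp S} {M : ModEt X} {E : EtOver X} [IsAffine E.obj.left.left] (P : LocPres M E)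
  {V : EtOver X} (g : V ⟶ E)

theorem exists_push_eq [IsAffine V.obj.left.left] {n : ℕ} (W : Fin n → EtOver X)
    (hW : ∀ i, IsAffine (W i).obj.left.left) (h : ∀ i, W i ⟶ V)
    (hc : ∀ x : ↥V.obj.left.left, ∃ i, x ∈ Set.range (h i).hom.left.left)
    (z : ∀ m, letI := (fmap (h m ≫ g)).toAlgebra; Fn (W m) ⊗[Fn E] P.N)
    (hz : ∀ m l, P.push (EtOver.pullbackFst (h m) (h l)) (g' := EtOver.pullbackFst (h m) (h l) ≫ h m ≫ g) rfl (z m) =
      P.push (EtOver.pullbackSnd (h m) (h l)) (g' := EtOver.pullbackFst (h m) (h l) ≫ h m ≫ g)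
        (by rw [← Category.assoc, ← EtOver.pullback_condition, Category.assoc]) (z l)) :
    ∃ y, ∀ m, P.push (h m) rfl y = z m := by
  classical
  letI := (fmap g).toAlgebra
  letI aV : ∀ m, Algebra (Fn V) (Fn (W m)) := fun m => (fmap (h m)).toAlgebra
  letI aE : ∀ m, Algebra (Fn E) (Fn (W m)) := fun m => (fmap (h m ≫ g)).toAlgebra
  haveI : ∀ m, IsScalarTower (Fn E) (Fn V) (Fn (W m)) := fun m =>
    IsScalarTower.of_algebraMap_eq (fmap_comp g (h m))
  haveI : ∀ m, Module.Flat (Fn V) (Fn (W m)) := fun m => by haveI := hW m; exact flat_fmap (h m)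
  let f₁ : ∀ m, Fn V ⊗[Fn E] P.N →ₗ[Fn V] Fn (W m) ⊗[Fn E] P.N := fun m =>
    { toFun := P.push (h m) rfl
      map_add' := map_add _
      map_smul' := fun b y => by
        induction y using TensorProduct.induction_on with
        | zero => simp
        | add x y hx hy => simp only [smul_add, map_add, hx, hy]
        | tmul c n =>
          rw [TensorProduct.smul_tmul', push_tmul, push_tmul, RingHom.id_apply, TensorProduct.smul_tmul',
            smul_eq_mul, map_mul, Algebra.smul_def]
          rfl }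
  let f := LinearMap.pi f₁
  suffices hmem : z ∈ LinearMap.range f by
    obtain ⟨y, hy⟩ := hmem
    exact ⟨y, fun m => congrFun hy m⟩
  refine mem_range_of_forall_flat (fun m => Fn (W m)) (fun p hp => exists_prime_over W h hc p hp) f z fun m => ?_
  haveI := hW m
  let e := TensorProduct.AlgebraTensorModule.cancelBaseChange (Fn E) (Fn V) (Fn (W m)) (Fn (W m)) P.N
  refine ⟨e.symm (z m), ?_⟩
  have hP : ∀ w w' : Fn (W m) ⊗[Fn V] (∀ l, Fn (W l) ⊗[Fn E] P.N),
      (∀ l, (LinearMap.proj (R := Fn V) (φ := fun l => Fn (W l) ⊗[Fn E] P.N) l).lTensor _ w =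
        (LinearMap.proj l).lTensor _ w') → w = w' := by
    intro w w' hw
    refine (TensorProduct.piRight (Fn V) (Fn V) (Fn (W m)) fun l => Fn (W l) ⊗[Fn E] P.N).injective (funext fun l => ?_)
    have ep : ∀ w, TensorProduct.piRight (Fn V) (Fn V) (Fn (W m)) (fun l => Fn (W l) ⊗[Fn E] P.N) w l =
        (LinearMap.proj l).lTensor _ w := by
      intro w
      induction w using TensorProduct.induction_on with
      | zero => simp
      | add x y hx hy => rw [map_add, Pi.add_apply, hx, hy, map_add]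
      | tmul b p => simp
    rw [ep, ep, hw]
  refine hP _ _ fun l => ?_
  rw [LinearMap.lTensor_tmul, ← LinearMap.comp_apply, ← LinearMap.lTensor_comp]
  show (f₁ l).lTensor _ (e.symm (z m)) = (1 : Fn (W m)) ⊗ₜ[Fn V] z l
  let O := EtOver.pullbackObj (h m) (h l)
  let p₁ : O ⟶ W m := EtOver.pullbackFst (h m) (h l)
  let p₂ : O ⟶ W l := EtOver.pullbackSnd (h m) (h l)
  let o : O ⟶ E := p₁ ≫ h m ≫ g
  have hp₂ : p₂ ≫ h l ≫ g = o := by
    show p₂ ≫ h l ≫ g = p₁ ≫ h m ≫ g
    rw [← Category.assoc, ← EtOver.pullback_condition, Category.assoc]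
  letI : Algebra (Fn E) (Fn O) := (fmap o).toAlgebra
  haveI := hW l
  let χ : Fn (W l) →ₐ[Fn E] Fn O :=
    { toRingHom := fmap p₂, commutes' := fun a => (fmap_comp (h l ≫ g) p₂ a).symm.trans (by rw [hp₂]; rfl) }
  have hrω : ∀ (b : Fn V) (x : Fn (W l) ⊗[Fn E] P.N), χ.toLinearMap.rTensor P.N (b • x) =
      fmap p₁ (algebraMap (Fn V) (Fn (W m)) b) • χ.toLinearMap.rTensor P.N x := by
    intro b x
    induction x using TensorProduct.induction_on with
    | zero => simp
    | add x y hx hy => simp only [smul_add, map_add, hx, hy]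
    | tmul c n =>
      rw [TensorProduct.smul_tmul', LinearMap.rTensor_tmul, LinearMap.rTensor_tmul, TensorProduct.smul_tmul',
        smul_eq_mul, Algebra.smul_def, AlgHom.toLinearMap_apply, AlgHom.toLinearMap_apply, map_mul]
      show (fmap p₂ (fmap (h l) b) * _) ⊗ₜ[Fn E] n = (fmap p₁ (fmap (h m) b) * _) ⊗ₜ[Fn E] n
      rw [← fmap_comp, ← fmap_comp, EtOver.pullback_condition]
  have hω := gam_pushout_bijective (B := Fn V) (fmap p₁) χ (isPushout_fn (h m) (h l)) P.N hrω
  refine hω.1 ?_
  have key : ∀ w : Fn (W m) ⊗[Fn E] P.N,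
      gam (fmap p₁) (χ.toLinearMap.rTensor P.N).toAddMonoidHom hrω ((f₁ l).lTensor _ (e.symm w)) =
        P.push p₁ (g := h m ≫ g) (g' := o) rfl w := by
    intro w
    induction w using TensorProduct.induction_on with
    | zero => simp
    | add x y hx hy => simp only [map_add, hx, hy]
    | tmul b n =>
      rw [TensorProduct.AlgebraTensorModule.cancelBaseChange_symm_tmul, LinearMap.lTensor_tmul, gam_tmul, push_tmul]
      show fmap p₁ b • (fmap p₂ (fmap (h l) 1) ⊗ₜ[Fn E] n) = fmap p₁ b ⊗ₜ[Fn E] n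
      rw [map_one, map_one, TensorProduct.smul_tmul', smul_eq_mul, mul_one]
  rw [key, gam_tmul, map_one, one_smul]
  exact hz m l

theorem θ_bijective [IsAffine V.obj.left.left] : Function.Bijective (P.θ g) := by
  refine ⟨P.θ_injective g, fun s => ?_⟩
  obtain ⟨n, W, h, hW, hc, ht⟩ := P.surj V g ‹_› s
  choose t ht using ht
  obtain ⟨y, hy⟩ := P.exists_push_eq g W hW h hc (fun m => P.Φ (h m ≫ g) (t m)) fun m l => by
    haveI := hW m; haveI := hW l
    refine P.θ_injective _ ?_
    rw [θ_push, θ_push, θ_Φ, θ_Φ, ht, ht, ← res_comp, ← res_comp, EtOver.pullback_condition]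
  refine ⟨y, ext_of_cover M W h hc fun m => ?_⟩
  rw [← θ_push P (h m) rfl, hy, θ_Φ, ht]

/-- Base change holds over an affine object with a presentation. -/
theorem bc (P : LocPres M E) : BC M E := by
  intro V g hV
  haveI := hV
  letI := (fmap g).toAlgebra
  have hφ : Function.Bijective P.φ := by
    have h := P.θ_bijective (𝟙 E)
    letI := (fmap (𝟙 E)).toAlgebra
    have hf : ∀ a : Fn E, fmap (𝟙 E) a = a := fun a => rfl
    have e : ∀ x : Fn E ⊗[Fn E] P.N, ∃ n, x = (1 : Fn E) ⊗ₜ[Fn E] n := by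
      intro x
      induction x using TensorProduct.induction_on with
      | zero => exact ⟨0, (TensorProduct.tmul_zero _ _).symm⟩
      | add x y hx hy =>
        obtain ⟨a, rfl⟩ := hx
        obtain ⟨b, rfl⟩ := hy
        exact ⟨a + b, (TensorProduct.tmul_add _ _ _).symm⟩
      | tmul b n =>
        refine ⟨b • n, ?_⟩
        rw [← TensorProduct.smul_tmul, Algebra.smul_def, mul_one]
        exact congrArg (fun c => c ⊗ₜ[Fn E] n) (hf b).symm
    have h1 : ∀ n, P.θ (𝟙 E) ((1 : Fn E) ⊗ₜ[Fn E] n) = P.φ n := fun n => by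
      show RingHom.id _ (1 : Fn E) • res M (𝟙 E) (P.φ n) = P.φ n
      rw [RingHom.id_apply, one_smul, res_id]
    refine ⟨(injective_iff_map_eq_zero P.φ).2 fun n hn => ?_, fun s => ?_⟩
    · have h2 : (1 : Fn E) ⊗ₜ[Fn E] n = 0 := h.1 (by rw [h1, hn, map_zero])
      let L : Fn E ⊗[Fn E] P.N →+ P.N :=
        gam (RingHom.id (Fn E)) (AddMonoidHom.id P.N) fun a m => by
          show a • m = fmap (𝟙 E) a • m
          rw [hf]
      have h3 := congrArg L h2
      rw [map_zero] at h3
      simpa [L, gam_tmul] using h3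
    · obtain ⟨x, rfl⟩ := h.2 s
      obtain ⟨n, rfl⟩ := e x
      exact ⟨n, (h1 n).symm⟩
  let eφ : P.N ≃ₗ[Fn E] sectModEt M E := LinearEquiv.ofBijective P.φ hφ
  let c := TensorProduct.congr (LinearEquiv.refl (Fn E) (Fn V)) eφ
  have key : ∀ z, gam (RingHom.id (Fn V)) (res M g) (res_smul' M g) (c z) = P.θ g z := by
    intro z
    induction z using TensorProduct.induction_on with
    | zero => simp
    | add x y hx hy => simp only [map_add, hx, hy]
    | tmul b n => rfl
  have : (gam (RingHom.id (Fn V)) (res M g) (res_smul' M g) : _ → _) = P.θ g ∘ c.symm := funext fun z => by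
    rw [Function.comp_apply, ← key, c.apply_symm_apply]
  show Function.Bijective (gam (RingHom.id (Fn V)) (res M g) (res_smul' M g))
  rw [this]
  exact (P.θ_bijective g).comp c.symm.bijective

end Groth.Agent.EtQC.LocPres
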