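import Groth.Agent.EtQC.Slice
import Groth.Agent.EtQC.Base
import Groth.Agent.EtQC.Loc
import Groth.Agent.AlgSpLib.CartierAvoid

/-!
# Generators and relations over an affine object
-/

set_option autoImplicit false
set_option backward.isDefEq.respectTransparency false
set_option backward.isDefEq.respectTransparency.types false

universe u

open CategoryTheory CategoryTheory.Limits AlgebraicGeometry Opposite AlgSp
open scoped TensorProduct

namespace Groth.Agent.EtQC

variable {S : Scheme.{u}} {X : Sp S}

/-- Generators and relations of a module on affine objects over `E`, with their local exactness. -/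
structure LocPres (M : ModEt X) (E : EtOver X) where
  /-- generators -/
  I : Type (u + 1)
  /-- relations -/
  K : Type (u + 1)
  /-- the values of the generators -/
  e : I → sectModEt M E
  /-- the relations -/
  c : K → I →₀ Fn E
  rel : ∀ k, ((c k).sum fun i a => a • e i) = 0
  surj : ∀ (V : EtOver X) (g : V ⟶ E) (_ : IsAffine V.obj.left.left) (s : sectModEt M V),
    ∃ (n : ℕ) (W : Fin n → EtOver X) (h : ∀ i, W i ⟶ V), (∀ i, IsAffine (W i).obj.left.left) ∧
      (∀ x : ↥V.obj.left.left, ∃ i, x ∈ Set.range (h i).hom.left.left) ∧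
      ∀ m, ∃ t : I →₀ Fn (W m), (t.sum fun i a => a • res M (h m ≫ g) (e i)) = res M (h m) s
  exact : ∀ (V : EtOver X) (g : V ⟶ E) (_ : IsAffine V.obj.left.left) (t : I →₀ Fn V),
    (t.sum fun i a => a • res M g (e i)) = 0 →
    ∃ (n : ℕ) (W : Fin n → EtOver X) (h : ∀ i, W i ⟶ V), (∀ i, IsAffine (W i).obj.left.left) ∧
      (∀ x : ↥V.obj.left.left, ∃ i, x ∈ Set.range (h i).hom.left.left) ∧
      ∀ m, ∃ v : K →₀ Fn (W m), t.mapRange (fmap (h m)) (map_zero _) =
        v.sum fun k a => a • (c k).mapRange (fmap (h m ≫ g)) (map_zero _)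

namespace LocPres

variable {M : ModEt X} {E : EtOver X} [IsAffine E.obj.left.left] (P : LocPres M E)

/-- The relation module. -/
noncomputable def R : Submodule (Fn E) (P.I →₀ Fn E) := Submodule.span (Fn E) (Set.range P.c)

/-- The presented module. -/
abbrev N : Type (u + 1) := (P.I →₀ Fn E) ⧸ P.R

/-- The generators in the presented module. -/
noncomputable def gen (i : P.I) : P.N := Submodule.Quotient.mk (Finsupp.single i 1)

/-- The map to the sections. -/
noncomputable def φ : P.N →ₗ[Fn E] sectModEt M E :=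
  P.R.liftQ (Finsupp.linearCombination (Fn E) P.e) (by
    rw [R, Submodule.span_le]
    rintro _ ⟨k, rfl⟩
    exact (Finsupp.linearCombination_apply (Fn E) _).trans (P.rel k))

theorem φ_gen (i : P.I) : P.φ (P.gen i) = P.e i := by
  show Finsupp.linearCombination (Fn E) P.e (Finsupp.single i 1) = _
  rw [Finsupp.linearCombination_single, one_smul]

variable {V : EtOver X} (g : V ⟶ E)

/-- The comparison map. -/
noncomputable def θ : letI := (fmap g).toAlgebra; Fn V ⊗[Fn E] P.N →+ sectModEt M V :=
  letI := (fmap g).toAlgebra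
  gam (RingHom.id (Fn V)) ((res M g).comp P.φ.toAddMonoidHom) fun a n => by
    show res M g (P.φ (a • n)) = _
    rw [map_smul, res_smul]
    rfl

/-- Coefficient vectors give tensors. -/
noncomputable def Φ : letI := (fmap g).toAlgebra; (P.I →₀ Fn V) →ₗ[Fn V] Fn V ⊗[Fn E] P.N :=
  letI := (fmap g).toAlgebra
  Finsupp.linearCombination (Fn V) fun i => (1 : Fn V) ⊗ₜ[Fn E] P.gen i

theorem θ_Φ (t : P.I →₀ Fn V) : P.θ g (P.Φ g t) = t.sum fun i a => a • res M g (P.e i) := by
  letI := (fmap g).toAlgebra
  induction t using Finsupp.induction_linear with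
  | zero => simp
  | add x y hx hy =>
    rw [map_add, map_add, hx, hy, Finsupp.sum_add_index' (by simp) (fun i a b => add_smul a b _)]
  | single i a =>
    rw [Φ, Finsupp.linearCombination_single, Finsupp.sum_single_index (by simp), TensorProduct.smul_tmul',
      smul_eq_mul, mul_one]
    show RingHom.id _ a • res M g (P.φ (P.gen i)) = _
    rw [φ_gen, RingHom.id_apply]

theorem Φ_mapRange (a : P.I →₀ Fn E) :
    letI := (fmap g).toAlgebra
    P.Φ g (a.mapRange (fmap g) (map_zero _)) = (1 : Fn V) ⊗ₜ[Fn E] (Submodule.Quotient.mk a : P.N) := by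
  letI := (fmap g).toAlgebra
  induction a using Finsupp.induction_linear with
  | zero => simp
  | add x y hx hy =>
    rw [Finsupp.mapRange_add (map_add _), map_add, hx, hy, Submodule.Quotient.mk_add, TensorProduct.tmul_add]
  | single i b =>
    rw [Finsupp.mapRange_single, Φ, Finsupp.linearCombination_single,
      show (Finsupp.single i b : P.I →₀ Fn E) = b • Finsupp.single i 1 from (Finsupp.smul_single_one i b).symm,
      Submodule.Quotient.mk_smul, ← TensorProduct.smul_tmul, Algebra.smul_def, mul_one, TensorProduct.smul_tmul',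
      smul_eq_mul, mul_one]
    rfl

theorem Φ_surjective : Function.Surjective (P.Φ g) := by
  letI := (fmap g).toAlgebra
  intro z
  induction z using TensorProduct.induction_on with
  | zero => exact ⟨0, map_zero _⟩
  | add x y hx hy =>
    obtain ⟨a, rfl⟩ := hx
    obtain ⟨b, rfl⟩ := hy
    exact ⟨a + b, map_add _ _ _⟩
  | tmul b n =>
    obtain ⟨a, rfl⟩ := Submodule.Quotient.mk_surjective P.R n
    refine ⟨b • a.mapRange (fmap g) (map_zero _), ?_⟩
    rw [map_smul, Φ_mapRange, TensorProduct.smul_tmul', smul_eq_mul, mul_one]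

variable {g} in
/-- Pushing tensors along a morphism over `E`. -/
noncomputable def push {V' : EtOver X} (k : V' ⟶ V) {g' : V' ⟶ E} (hk : k ≫ g = g') :
    letI := (fmap g).toAlgebra; letI := (fmap g').toAlgebra
    Fn V ⊗[Fn E] P.N →ₗ[Fn E] Fn V' ⊗[Fn E] P.N :=
  letI := (fmap g).toAlgebra; letI := (fmap g').toAlgebra
  ({ toRingHom := fmap k, commutes' := fun a => (fmap_comp g k a).symm.trans (by rw [hk]; rfl) } :
    Fn V →ₐ[Fn E] Fn V').toLinearMap.rTensor P.N

variable {g} in
theorem push_tmul {V' : EtOver X} (k : V' ⟶ V) {g' : V' ⟶ E} (hk : k ≫ g = g') (b : Fn V) (n : P.N) :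
    letI := (fmap g).toAlgebra; letI := (fmap g').toAlgebra
    P.push k hk (b ⊗ₜ[Fn E] n) = fmap k b ⊗ₜ[Fn E] n := rfl

variable {g} in
theorem push_Φ {V' : EtOver X} (k : V' ⟶ V) {g' : V' ⟶ E} (hk : k ≫ g = g') (t : P.I →₀ Fn V) :
    P.push k hk (P.Φ g t) = P.Φ g' (t.mapRange (fmap k) (map_zero _)) := by
  letI := (fmap g).toAlgebra
  letI := (fmap g').toAlgebra
  induction t using Finsupp.induction_linear with
  | zero => simp
  | add x y hx hy => rw [map_add, map_add, hx, hy, Finsupp.mapRange_add (map_add _), map_add]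
  | single i a =>
    rw [Finsupp.mapRange_single, Φ, Φ, Finsupp.linearCombination_single, Finsupp.linearCombination_single,
      TensorProduct.smul_tmul', TensorProduct.smul_tmul', smul_eq_mul, smul_eq_mul, mul_one, mul_one, push_tmul]

variable {g} in
theorem θ_push {V' : EtOver X} (k : V' ⟶ V) {g' : V' ⟶ E} (hk : k ≫ g = g')
    (z : letI := (fmap g).toAlgebra; Fn V ⊗[Fn E] P.N) : P.θ g' (P.push k hk z) = res M k (P.θ g z) := by
  letI := (fmap g).toAlgebra
  letI := (fmap g').toAlgebra
  induction z using TensorProduct.induction_on with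
  | zero => simp
  | add x y hx hy => simp only [map_add, hx, hy]
  | tmul b n =>
    rw [push_tmul]
    show fmap k b • res M g' (P.φ n) = res M k (b • res M g (P.φ n))
    rw [res_smul, ← res_comp, hk]

omit [IsAffine E.obj.left.left] in
theorem exists_prime_over [IsAffine V.obj.left.left] {ι : Type} (W : ι → EtOver X)
    [∀ i, IsAffine (W i).obj.left.left] (h : ∀ i, W i ⟶ V)
    (hc : ∀ x : ↥V.obj.left.left, ∃ i, x ∈ Set.range (h i).hom.left.left) (p : Ideal (Fn V)) (hp : p.IsPrime) :
    ∃ m, ∃ q : Ideal (Fn (W m)), q.IsPrime ∧ q.comap (fmap (h m)) = p := by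
  obtain ⟨x, hx⟩ := AlgSpLib.Cartier.exists_primeAtPt_eq (U := V.obj.left.left) p
  obtain ⟨m, w, hw⟩ := hc x
  refine ⟨m, primeAtPt (W m).obj.left.left w, inferInstance, ?_⟩
  rw [← hx, ← hw]
  ext a
  rw [Ideal.mem_comap]
  simp only [primeAtPt, Ideal.mem_comap, IsLocalRing.mem_maximalIdeal, mem_nonunits_iff]
  rw [← ((W m).obj.left.left.mem_basicOpen_top _ w), ← (V.obj.left.left.mem_basicOpen_top a ((h m).hom.left.left w))]
  show ¬ w ∈ (W m).obj.left.left.basicOpen ((h m).hom.left.left.appTop a) ↔ _
  rw [← Scheme.preimage_basicOpen_top]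
  rfl

theorem θ_injective [IsAffine V.obj.left.left] : Function.Injective (P.θ g) := by
  letI := (fmap g).toAlgebra
  refine (injective_iff_map_eq_zero _).2 fun z hz => ?_
  obtain ⟨t, rfl⟩ := P.Φ_surjective g z
  rw [θ_Φ] at hz
  obtain ⟨n, W, h, hW, hc, hv⟩ := P.exact V g ‹_› t hz
  letI : ∀ m, Algebra (Fn V) (Fn (W m)) := fun m => (fmap (h m)).toAlgebra
  haveI : ∀ m, Module.Flat (Fn V) (Fn (W m)) := fun m => by haveI := hW m; exact flat_fmap (h m)
  refine eq_zero_of_forall_flat (fun m => Fn (W m)) (fun p hp => exists_prime_over W h hc p hp) _ fun m => ?_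
  letI : Algebra (Fn E) (Fn (W m)) := (fmap (h m ≫ g)).toAlgebra
  haveI : IsScalarTower (Fn E) (Fn V) (Fn (W m)) := IsScalarTower.of_algebraMap_eq (fmap_comp g (h m))
  let e := TensorProduct.AlgebraTensorModule.cancelBaseChange (Fn E) (Fn V) (Fn (W m)) (Fn (W m)) P.N
  have he : ∀ y, e ((1 : Fn (W m)) ⊗ₜ[Fn V] y) = P.push (h m) rfl y := by
    intro y
    induction y using TensorProduct.induction_on with
    | zero => simp
    | add x y hx hy => rw [TensorProduct.tmul_add, map_add, hx, hy, map_add]
    | tmul b n =>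
      rw [TensorProduct.AlgebraTensorModule.cancelBaseChange_tmul, push_tmul, Algebra.smul_def, mul_one]
      rfl
  refine e.injective ?_
  obtain ⟨v, hv⟩ := hv m
  rw [he, push_Φ, hv, map_zero, map_finsuppSum]
  refine Finset.sum_eq_zero fun k _ => ?_
  show P.Φ (h m ≫ g) (_ • _) = 0
  rw [map_smul, Φ_mapRange, (Submodule.Quotient.mk_eq_zero P.R).2 (show P.c k ∈ P.R from Submodule.subset_span (Set.mem_range_self k)),
    TensorProduct.tmul_zero, smul_zero]

end LocPres

end Groth.Agent.EtQC
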