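import Groth.Agent.EtQC.Sec
import Groth.Agent.EtQC.FreeLoc

/-!
# Free modules on the slice of the small etale site over an object
-/

set_option autoImplicit false
set_option backward.isDefEq.respectTransparency false
set_option backward.isDefEq.respectTransparency.types false

universe u

open CategoryTheory CategoryTheory.Limits AlgebraicGeometry Opposite AlgSp

namespace Groth.Agent.EtQC

variable {S : Scheme.{u}} {X : Sp S} {E : EtOver X}

/-- The structure sheaf on the slice. -/
noncomputable abbrev ROn (E : EtOver X) := (OEtRing X).over E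

/-- An object over `E` as an object of the slice. -/
abbrev sObj {V : EtOver X} (g : V ⟶ E) : (Over E)ᵒᵖ := op (Over.mk g)

/-- A morphism over `E` as a morphism of the slice. -/
abbrev sMap {V V' : EtOver X} (k : V' ⟶ V) {g : V ⟶ E} {g' : V' ⟶ E} (hk : k ≫ g = g') : sObj g ⟶ sObj g' :=
  (Over.homMk (U := Over.mk g') (V := Over.mk g) k hk).op

variable {I : Type (u + 1)}

/-- Sections of the free presheaf. -/
abbrev PF (I : Type (u + 1)) {V : EtOver X} (g : V ⟶ E) : Type (u + 1) :=
  (FreeLoc.pfree (ROn E) I).obj (sObj g)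

/-- The coefficient of a section of the free presheaf. -/
noncomputable def coef {V : EtOver X} {g : V ⟶ E} (t : PF I g) (i : I) : sectModEt (unitModEt X) V :=
  (show I →₀ ((OEtRing X).obj.obj (op V) : Type (u + 1)) from t) i

theorem coef_ext {V : EtOver X} {g : V ⟶ E} {t t' : PF I g} (h : ∀ i, coef t i = coef t' i) : t = t' :=
  Finsupp.ext h

theorem coef_map {V V' : EtOver X} (k : V' ⟶ V) {g : V ⟶ E} {g' : V' ⟶ E} (hk : k ≫ g = g') (t : PF I g) (i : I) :
    coef ((FreeLoc.pfree (ROn E) I).map (sMap k hk) t) i = res (unitModEt X) k (coef t i) := by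
  classical
  induction t using Finsupp.induction_linear with
  | zero =>
    refine Eq.trans (congrArg (fun z => coef z i) (map_zero _)) ?_
    exact (map_zero (res (unitModEt X) k)).symm
  | add x y hx hy =>
    refine Eq.trans (congrArg (fun z => coef z i) (map_add _ _ _)) ?_
    show coef ((FreeLoc.pfree (ROn E) I).map (sMap k hk) x) i + coef ((FreeLoc.pfree (ROn E) I).map (sMap k hk) y) i = _
    rw [hx, hy]
    exact (map_add (res (unitModEt X) k) _ _).symm
  | single j c =>
    have e : (Finsupp.single j c : PF I g) =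
        c • (ModuleCat.freeMk (R := (ROn E).obj.obj (sObj g)) (X := I) j : PF I g) :=
      (Finsupp.smul_single_one j c).symm
    rw [e]
    refine Eq.trans (congrArg (fun z => coef z i) (PresheafOfModules.map_smul _ _ _ _)) ?_
    have e2 : (FreeLoc.pfree (ROn E) I).map (sMap k hk) (ModuleCat.freeMk j) =
        (ModuleCat.freeMk (R := (ROn E).obj.obj (sObj g')) (X := I) j : PF I g') := ModuleCat.freeDesc_apply _ _
    rw [e2]
    show ((ROn E).obj.map (sMap k hk)) c * (Finsupp.single j (1 : (ROn E).obj.obj (sObj g')) : I →₀ _) i =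
      res (unitModEt X) k (c * (Finsupp.single j (1 : (ROn E).obj.obj (sObj g)) : I →₀ _) i)
    by_cases hij : j = i
    · subst hij
      rw [Finsupp.single_eq_same, Finsupp.single_eq_same, mul_one, mul_one]
      rfl
    · erw [Finsupp.single_eq_of_ne' hij, Finsupp.single_eq_of_ne' hij, mul_zero, mul_zero]
      exact (map_zero (res (unitModEt X) k)).symm

theorem coef_ext_of_cover {V : EtOver X} {g : V ⟶ E} {ι : Type*} (W : ι → EtOver X) (h : ∀ m, W m ⟶ V)
    (hc : ∀ x : ↥V.obj.left.left, ∃ m, x ∈ Set.range (h m).hom.left.left) {t t' : PF I g}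
    (e : ∀ m, (FreeLoc.pfree (ROn E) I).map (sMap (h m) (g := g) rfl) t =
      (FreeLoc.pfree (ROn E) I).map (sMap (h m) (g := g) rfl) t') : t = t' :=
  coef_ext fun i => ext_of_cover (unitModEt X) W h hc fun m => by
    rw [← coef_map (h m) (g := g) rfl, ← coef_map (h m) (g := g) rfl, e]

/-- A covering sieve of the slice yields an affine finite covering. -/
theorem exists_slice_refinement {V : EtOver X} (g : V ⟶ E) [IsAffine V.obj.left.left] {R : Sieve (Over.mk g)}
    (hR : R ∈ (etTop X).over E (Over.mk g)) :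
    ∃ (n : ℕ) (W : Fin n → EtOver X) (h : ∀ i, W i ⟶ V), (∀ i, IsAffine (W i).obj.left.left) ∧
      (∀ i, R (sMap (h i) (g := g) rfl).unop) ∧ ∀ x : ↥V.obj.left.left, ∃ i, x ∈ Set.range (h i).hom.left.left := by
  have hmem : Sieve.overEquiv (Over.mk g) R ∈ etTop X V := ((etTop X).mem_over_iff R).1 hR
  obtain ⟨n, W, h, hW, hh, hc⟩ := exists_affine_refinement (E := V) hmem
  exact ⟨n, W, h, hW, fun i => (Sieve.overEquiv_iff (Y := Over.mk g) R (h i)).1 (hh i), hc⟩

/-- A sheaf of modules on the slice is separated. -/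
theorem slice_ext_of_cover (N : SheafOfModules.{u + 1} (ROn E)) {V : EtOver X} (g : V ⟶ E) {ι : Type*}
    (W : ι → EtOver X) (h : ∀ m, W m ⟶ V) (hc : ∀ x : ↥V.obj.left.left, ∃ m, x ∈ Set.range (h m).hom.left.left)
    {s t : N.val.obj (sObj g)}
    (e : ∀ m, N.val.map (sMap (h m) (g := g) rfl) s = N.val.map (sMap (h m) (g := g) rfl) t) : s = t := by
  have hsh := (isSheaf_iff_isSheaf_of_type _ _).1
    ((Presheaf.isSheaf_iff_isSheaf_forget ((etTop X).over E) N.val.presheaf (forget AddCommGrpCat.{u + 1})).1 N.isSheaf)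
  have hmem : (Sieve.overEquiv (Over.mk g)).symm (Sieve.ofArrows W h) ∈ (etTop X).over E (Over.mk g) :=
    (etTop X).overEquiv_symm_mem_over _ _ (AlgSpDec.ofArrows_mem_etTop W h hc)
  refine (hsh.isSeparated _ hmem).ext ?_
  intro Z f hf
  obtain ⟨V', a, b, hb, hab⟩ := (Sieve.overEquiv_symm_iff _ f).1 hf
  obtain ⟨m⟩ := hb
  let q : Z ⟶ Over.mk (h m ≫ g) := Over.homMk a (by
    show a ≫ h m ≫ g = Z.hom
    rw [← Category.assoc]
    exact (congrArg (· ≫ g) hab).trans (Over.w f))
  have hf' : f.op = sMap (h m) (g := g) rfl ≫ q.op := by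
    refine Quiver.Hom.unop_inj (Over.OverMorphism.ext ?_)
    exact hab.symm
  show N.val.map f.op s = N.val.map f.op t
  rw [hf', PresheafOfModules.map_comp_apply, PresheafOfModules.map_comp_apply, e m]

/-- The free presheaf maps bijectively to the free sheaf on affine objects. -/
theorem bijective_η₀ {V : EtOver X} (g : V ⟶ E) [IsAffine V.obj.left.left] :
    Function.Bijective ((FreeLoc.η₀ (ROn E) I).app (sObj g)) := by
  have inj : ∀ {V : EtOver X} (g : V ⟶ E) [IsAffine V.obj.left.left],
      Function.Injective ((FreeLoc.η₀ (ROn E) I).app (sObj g)) := by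
    intro V g _
    intro t t' e
    haveI := (FreeLoc.isLocallyBijective_η₀ (R := ROn E) I).1
    obtain ⟨n, W, h, hW, hh, hc⟩ := exists_slice_refinement g (Presheaf.equalizerSieve_mem ((etTop X).over E)
      ((PresheafOfModules.toPresheaf _).map (FreeLoc.η₀ (ROn E) I)) t t' e)
    exact coef_ext_of_cover W h hc fun m => hh m
  refine ⟨inj g, fun y => ?_⟩
  classical
  haveI := (FreeLoc.isLocallyBijective_η₀ (R := ROn E) I).2
  obtain ⟨n, W, h, hW, hh, hc⟩ := exists_slice_refinement g (Presheaf.imageSieve_mem ((etTop X).over E)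
      ((PresheafOfModules.toPresheaf _).map (FreeLoc.η₀ (ROn E) I)) y)
  haveI := hW
  choose t ht using hh
  let T : Finset I := Finset.univ.biUnion fun m => Finsupp.support
    (show I →₀ ((OEtRing X).obj.obj (op (W m)) : Type (u + 1)) from t m)
  have hT : ∀ m i, i ∉ T → coef (t m) i = 0 := fun m i hi => Finsupp.notMem_support_iff.1 fun hmem =>
    hi (Finset.mem_biUnion.2 ⟨m, Finset.mem_univ _, hmem⟩)
  have hnat : ∀ {V V' : EtOver X} (k : V' ⟶ V) {g : V ⟶ E} {g' : V' ⟶ E} (hk : k ≫ g = g') (s : PF I g),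
      (FreeLoc.η₀ (ROn E) I).app (sObj g') ((FreeLoc.pfree (ROn E) I).map (sMap k hk) s) =
        (SheafOfModules.free (R := ROn E) I).val.map (sMap k hk) ((FreeLoc.η₀ (ROn E) I).app (sObj g) s) :=
    fun k _ _ hk s => PresheafOfModules.naturality_apply (FreeLoc.η₀ (ROn E) I) (sMap k hk) s
  have hov : ∀ m l i, res (unitModEt X) (EtOver.pullbackFst (h m) (h l)) (coef (t m) i) =
      res (unitModEt X) (EtOver.pullbackSnd (h m) (h l)) (coef (t l) i) := by
    intro m l i
    let o := EtOver.pullbackFst (h m) (h l) ≫ h m ≫ g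
    have h2 : EtOver.pullbackSnd (h m) (h l) ≫ h l ≫ g = o := by
      rw [← Category.assoc, ← EtOver.pullback_condition, Category.assoc]
    rw [← coef_map _ (g' := o) rfl, ← coef_map _ (g' := o) h2]
    refine congrArg (fun z : PF I o => coef z i) (inj o ?_)
    rw [hnat, hnat]
    refine (congrArg _ (ht m)).trans (Eq.trans ?_ (congrArg _ (ht l)).symm)
    let F := (SheafOfModules.free (R := ROn E) I).val
    have e₁ := PresheafOfModules.map_comp_apply F (sMap (h m) (g := g) rfl)
      (sMap (EtOver.pullbackFst (h m) (h l)) (g := h m ≫ g) (g' := o) rfl) y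
    have e₂ := PresheafOfModules.map_comp_apply F (sMap (h l) (g := g) rfl)
      (sMap (EtOver.pullbackSnd (h m) (h l)) (g := h l ≫ g) (g' := o) h2) y
    have e : sMap (h m) (g := g) rfl ≫ sMap (EtOver.pullbackFst (h m) (h l)) (g := h m ≫ g) (g' := o) rfl =
        sMap (h l) (g := g) rfl ≫ sMap (EtOver.pullbackSnd (h m) (h l)) (g := h l ≫ g) (g' := o) h2 :=
      Quiver.Hom.unop_inj (Over.OverMorphism.ext (EtOver.pullback_condition (h m) (h l)))
    exact e₁.symm.trans ((PresheafOfModules.congr_map_apply (M := F) e y).trans e₂)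
  choose a ha using fun i => exists_glue (unitModEt X) (ι := ULift.{u + 1} (Fin n)) (fun m => W m.down)
    (fun m => h m.down) (fun x => by obtain ⟨m, hm⟩ := hc x; exact ⟨⟨m⟩, hm⟩) (fun m => coef (t m.down) i)
    fun m l => hov m.down l.down i
  let t₀ : PF I g := (∑ i ∈ T, Finsupp.single i (a i) : I →₀ ((OEtRing X).obj.obj (op V) : Type (u + 1)))
  have hc₀ : ∀ i, coef t₀ i = if i ∈ T then a i else 0 := by
    intro i
    show (∑ j ∈ T, Finsupp.single j (a j) : I →₀ ((OEtRing X).obj.obj (op V) : Type (u + 1))) i = _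
    rw [Finsupp.finsetSum_apply]
    simp only [Finsupp.single_apply]
    exact Finset.sum_ite_eq' T i a
  have hres : ∀ m, (FreeLoc.pfree (ROn E) I).map (sMap (h m) (g := g) rfl) t₀ = t m := fun m => coef_ext fun i => by
    rw [coef_map, hc₀]
    split_ifs with hi
    · exact ha i ⟨m⟩
    · rw [hT m i hi]
      exact map_zero _
  refine ⟨t₀, slice_ext_of_cover _ g W h hc fun m => ?_⟩
  rw [← hnat, hres]
  exact ht m

end Groth.Agent.EtQC
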