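import Groth.Agent.EtQC.Submod
import Groth.Agent.AlgSpPts.Misc
import Groth.Agent.AlgSpPts.Univ

/-!
# Sections supported on the complement of a quasi-compact open
-/

set_option autoImplicit false
set_option backward.isDefEq.respectTransparency false
set_option backward.isDefEq.respectTransparency.types false

universe u

set_option maxHeartbeats 1600000

open CategoryTheory CategoryTheory.Limits AlgebraicGeometry Opposite AlgSp
open scoped TensorProduct

namespace Groth.Agent.EtQC

theorem mem_zeroLocus_iff_le {U : Scheme.{u}} (J : Ideal Γ(U, ⊤)) (w : U) :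
    w ∈ U.zeroLocus (U := ⊤) (J : Set Γ(U, ⊤)) ↔ J ≤ primeAtPt U w := by
  rw [Scheme.mem_zeroLocus_iff]
  exact ⟨fun h a ha => (WeakAssEtLib.mem_primeAtPt_iff w a).2 (h a ha), fun h a ha => (WeakAssEtLib.mem_primeAtPt_iff w a).1 (h ha)⟩

/-- The complement of a compact open subset of an affine scheme is the zero locus of a finitely generated ideal. -/
theorem exists_ideal_of_compact {U : Scheme.{u}} [IsAffine U] {O : Set U} (hO : IsOpen O) (hc : IsCompact O) :
    ∃ I : Ideal Γ(U, ⊤), I.FG ∧ U.zeroLocus (U := ⊤) (I : Set Γ(U, ⊤)) = Oᶜ := by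
  classical
  choose a ha hxa using fun x : O => (isAffineOpen_top U).exists_basicOpen_le (V := ⟨O, hO⟩) x trivial
  obtain ⟨T, hT⟩ := hc.elim_finite_subcover (fun x : O => (U.basicOpen (a x) : Set U))
    (fun x => (U.basicOpen (a x)).isOpen) fun x hx => Set.mem_iUnion.2 ⟨⟨x, hx⟩, hxa ⟨x, hx⟩⟩
  refine ⟨Ideal.span ((T.image a : Finset Γ(U, ⊤)) : Set Γ(U, ⊤)), ⟨T.image a, rfl⟩, ?_⟩
  ext w
  rw [mem_zeroLocus_iff_le, Ideal.span_le, Set.mem_compl_iff]
  constructor
  · intro h hw
    obtain ⟨x, hx, hwx⟩ := Set.mem_iUnion₂.1 (hT hw)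
    exact (WeakAssEtLib.mem_primeAtPt_iff w _).1 (h (Finset.mem_coe.2 (Finset.mem_image_of_mem a hx))) hwx
  · intro hw b hb
    obtain ⟨x, -, rfl⟩ := Finset.mem_image.1 (Finset.mem_coe.1 hb)
    exact (WeakAssEtLib.mem_primeAtPt_iff w _).2 fun h => hw (ha x h)

variable {S : Scheme.{u}} {X : Sp S}

/-- On an affine object the complement of a quasi-compact open subspace is cut out by a finitely generated ideal. -/
theorem exists_ideal_compl {U : Sp S} {j : U ⟶ X} (hj : RepWith @IsOpenImmersion j) (hqc : IsQuasiCompactMor j)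
    (W : EtOver X) [IsAffine W.obj.left.left] : ∃ I : Ideal (Fn W), I.FG ∧
      W.obj.left.left.zeroLocus (U := ⊤) (I : Set (Fn W)) =
        {w | Points.ofPt W.obj.hom w ∈ (Set.range (Points.map j))ᶜ} := by
  let s := hj.rep.snd W.obj.hom
  haveI : IsOpenImmersion s.left := hj.property_snd W.obj.hom
  have hP : IsQuasiCompactSp ((yon S).obj (hj.rep.pullback W.obj.hom)) :=
    hqc (IsAlgSpace.yon_obj W.obj.left) (AlgSpLib.isQuasiCompactSp_yon W.obj.left) W.obj.hom
      (hj.rep.fst W.obj.hom) ((yon S).map s) (hj.rep.isPullback W.obj.hom)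
  haveI := (AlgSpPts.isQuasiCompactSp_yon_iff _).1 hP
  have hO : {w | Points.ofPt W.obj.hom w ∈ Set.range (Points.map j)} = Set.range s.left := by
    ext w
    refine ⟨fun ⟨x, hx⟩ => ?_, ?_⟩
    · obtain ⟨v, -, hv⟩ := AlgSpPts.exists_lift (hj.rep.isPullback W.obj.hom) hx
      exact ⟨v, hv⟩
    · rintro ⟨v, rfl⟩
      refine ⟨Points.ofPt (hj.rep.fst W.obj.hom) v, ?_⟩
      rw [Points.map_ofPt, (hj.rep.isPullback W.obj.hom).w]
      exact AlgSpLib.ofPt_comp _ _ _
  obtain ⟨I, hI, hZ⟩ := exists_ideal_of_compact s.left.isOpenEmbedding.isOpen_range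
    (isCompact_range s.left.continuous)
  exact ⟨I, hI, hZ.trans (congrArg compl hO.symm)⟩

variable (T : Set (Points X))

/-- The support condition. -/
def Supported {F : ModEt X} {W : EtOver X} (x : sectModEt F W) : Prop :=
  ∀ w : W.obj.left.left, (annSect x : Ideal (Fn W)) ≤ primeAtPt W.obj.left.left w → Points.ofPt W.obj.hom w ∈ T

theorem supported_iff {F : ModEt X} {W : EtOver X} (x : sectModEt F W) :
    Supported T x ↔ W.obj.left.left.zeroLocus (U := ⊤) ((annSect x : Ideal (Fn W)) : Set (Fn W)) ⊆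
      {w | Points.ofPt W.obj.hom w ∈ T} :=
  ⟨fun h w hw => h w ((mem_zeroLocus_iff_le _ w).1 hw), fun h w hw => h ((mem_zeroLocus_iff_le _ w).2 hw)⟩

theorem mem_ann {F : ModEt X} {W : EtOver X} (x : sectModEt F W) (a : Fn W) : a ∈ annSect x ↔ a • x = 0 :=
  mem_annSect_iff x a

/-- Supported sections are the sections killed by a power of a defining ideal. -/
theorem supported_iff_pow {F : ModEt X} {W : EtOver X} [IsAffine W.obj.left.left] {I : Ideal (Fn W)} (hI : I.FG)
    (hZ : W.obj.left.left.zeroLocus (U := ⊤) (I : Set (Fn W)) = {w | Points.ofPt W.obj.hom w ∈ T})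
    (x : sectModEt F W) : Supported T x ↔ ∃ n : ℕ, ∀ a ∈ I ^ n, a • x = 0 := by
  constructor
  · intro h
    have hle : I ≤ (annSect x : Ideal (Fn W)).radical := by
      rw [Ideal.radical_eq_sInf]
      refine le_sInf fun P hP => ?_
      haveI := hP.2
      obtain ⟨w, hw⟩ := AlgSpLib.Cartier.exists_primeAtPt_eq (U := W.obj.left.left) P
      have h1 : w ∈ W.obj.left.left.zeroLocus (U := ⊤) (I : Set (Fn W)) := hZ ▸ h w (hw.symm ▸ hP.1)
      exact hw ▸ (mem_zeroLocus_iff_le I w).1 h1
    obtain ⟨n, hn⟩ := Ideal.exists_pow_le_of_le_radical_of_fg hle hI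
    exact ⟨n, fun a ha => (mem_ann x a).1 (hn ha)⟩
  · rintro ⟨n, hn⟩ w hw
    have h1 : I ^ n ≤ primeAtPt W.obj.left.left w := fun a ha => hw ((mem_ann x a).2 (hn a ha))
    show w ∈ {w | Points.ofPt W.obj.hom w ∈ T}
    rw [← hZ, mem_zeroLocus_iff_le]
    exact fun a ha => Ideal.IsPrime.mem_of_pow_mem inferInstance n (h1 (Ideal.pow_mem_pow ha n))

/-- The annihilator of a restricted section is extended from the annihilator. -/
theorem annSect_res_le {F : ModEt X} {W V : EtOver X} (g : V ⟶ W) [IsAffine W.obj.left.left]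
    [IsAffine V.obj.left.left] (hF : BC F W) (x : sectModEt F W) :
    (annSect (res F g x) : Ideal (Fn V)) ≤ (annSect x : Ideal (Fn W)).map (fmap g) := by
  letI := (fmap g).toAlgebra
  haveI : Module.Flat (Fn W) (Fn V) := flat_fmap g
  intro b hb
  have h0 : (LinearMap.toSpanSingleton (Fn W) _ x).lTensor (Fn V) (b ⊗ₜ[Fn W] (1 : Fn W)) = 0 := by
    rw [LinearMap.lTensor_tmul, LinearMap.toSpanSingleton_apply, one_smul]
    refine (hF V g ‹_›).1 ?_
    rw [map_zero, gam_tmul]
    exact (mem_ann _ b).1 hb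
  obtain ⟨w, hw⟩ := (Module.Flat.lTensor_exact (Fn V)
    (LinearMap.exact_subtype_ker_map (LinearMap.toSpanSingleton (Fn W) _ x)) _).1 h0
  have key : ∀ w : Fn V ⊗[Fn W] LinearMap.ker (LinearMap.toSpanSingleton (Fn W) _ x),
      TensorProduct.rid (Fn W) (Fn V) ((LinearMap.ker (LinearMap.toSpanSingleton (Fn W) _ x)).subtype.lTensor
        (Fn V) w) ∈ (annSect x : Ideal (Fn W)).map (fmap g) := by
    intro w
    induction w using TensorProduct.induction_on with
    | zero => simp
    | add a c ha hc => rw [map_add, map_add]; exact add_mem ha hc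
    | tmul c a =>
      rw [LinearMap.lTensor_tmul, TensorProduct.rid_tmul, Algebra.smul_def]
      refine Ideal.mul_mem_right _ _ (Ideal.mem_map_of_mem (fmap g) ((mem_ann x _).2 ?_))
      exact LinearMap.mem_ker.1 a.2
  have h1 := key w
  rwa [hw, TensorProduct.rid_tmul, one_smul] at h1

/-- The sections supported on a set of points. -/
noncomputable def suppSub (F : ModEt X) (hF : BCAll F) : AffSub F where
  P W _ :=
    { carrier := {x | Supported T x}
      zero_mem' := fun w hw => absurd (hw ((mem_ann _ 1).2 (smul_zero _)))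
        (fun h => (inferInstance : (primeAtPt W.obj.left.left w).IsPrime).ne_top ((Ideal.eq_top_iff_one _).2 h))
      add_mem' := fun {x y} hx hy w hw => by
        have : (annSect x : Ideal (Fn W)) * annSect y ≤ primeAtPt W.obj.left.left w :=
          le_trans (Ideal.mul_le_inf.trans fun a ha => (mem_ann _ a).2 (by
            rw [smul_add, (mem_ann x a).1 ha.1, (mem_ann y a).1 ha.2, add_zero])) hw
        rcases (inferInstance : (primeAtPt W.obj.left.left w).IsPrime).mul_le.1 this with h | h
        · exact hx w h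
        · exact hy w h
      smul_mem' := fun c x hx w hw => hx w (le_trans (fun a ha => (mem_ann _ a).2 (by
        rw [smul_comm, (mem_ann x a).1 ha, smul_zero])) hw) }
  map {W W'} g hW hW' x hx := by
    intro v hv
    haveI := hW'
    have h1 : (annSect x : Ideal (Fn W)) ≤ primeAtPt W.obj.left.left (g.hom.left.left v) := by
      rw [WeakAssEtLib.primeAtPt_apply]
      intro a ha
      refine hv ((mem_ann _ (fmap g a)).2 ?_)
      rw [← res_smul, (mem_ann x a).1 ha, map_zero]
    have h2 := hx _ h1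
    rw [← EtOver.w g, AlgSpLib.ofPt_comp]
    exact h2
  loc W hW n V g hV hc x hx := by
    intro w hw
    haveI := hW
    obtain ⟨i, v, hv⟩ := hc w
    haveI := hV i
    have h1 : (annSect (res F (g i) x) : Ideal (Fn (V i))) ≤ primeAtPt (V i).obj.left.left v := by
      refine (annSect_res_le (g i) (hF W hW) x).trans (Ideal.map_le_iff_le_comap.2 ?_)
      rwa [← hv, WeakAssEtLib.primeAtPt_apply] at hw
    have h2 := hx i v h1
    rw [← hv]
    rw [← EtOver.w (g i), AlgSpLib.ofPt_comp] at h2
    exact h2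

theorem suppSub_bcAll {U : Sp S} {j : U ⟶ X} (hj : RepWith @IsOpenImmersion j) (hqc : IsQuasiCompactMor j)
    (F : ModEt X) (hF : BCAll F) : BCAll (suppSub ((Set.range (Points.map j))ᶜ) F hF).mod :=
  (suppSub ((Set.range (Points.map j))ᶜ) F hF).bcAll hF fun {W W'} g hW hW' y hy => by
    haveI := hW
    haveI := hW'
    obtain ⟨I, hI, hZ⟩ := exists_ideal_compl hj hqc W
    have hZ' : W'.obj.left.left.zeroLocus (U := ⊤) ((I.map (fmap g) : Ideal (Fn W')) : Set (Fn W')) =
        {w | Points.ofPt W'.obj.hom w ∈ (Set.range (Points.map j))ᶜ} := by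
      ext v
      rw [mem_zeroLocus_iff_le, Ideal.map_le_iff_le_comap]
      have := Set.ext_iff.1 hZ (g.hom.left.left v)
      rw [mem_zeroLocus_iff_le, WeakAssEtLib.primeAtPt_apply] at this
      refine this.trans ?_
      rw [← EtOver.w g]
      exact Iff.of_eq (congrArg (· ∈ (Set.range (Points.map j))ᶜ) (AlgSpLib.ofPt_comp _ _ _).symm)
    obtain ⟨n, hn⟩ := (supported_iff_pow _ (hI.map _) hZ' y).1 hy
    obtain ⟨T', hT'⟩ := hI.pow (n := n)
    refine Submodule.span_mono (Set.image_mono ?_) (mem_span_of_killed g (hF W hW) T' y fun a ha => hn _ ?_)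
    · intro s hs
      refine (supported_iff_pow _ hI hZ s).2 ⟨n, fun a ha => ?_⟩
      rw [← hT'] at ha
      exact Submodule.span_induction (p := fun a _ => a • s = 0) hs (zero_smul _ _)
        (fun x y _ _ hx hy => by rw [add_smul, hx, hy, add_zero])
        (fun c x _ hx => by rw [smul_eq_mul, mul_smul, hx, smul_zero]) ha
    · rw [← Ideal.map_pow]
      exact Ideal.mem_map_of_mem _ (hT' ▸ Submodule.subset_span ha)

end Groth.Agent.EtQC
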