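import Groth.Agent.EtQC.Finite
import Groth.Agent.EtQC.Coh
import Groth.Agent.EtQC.Push
import Groth.Agent.EtQC.Supp
import Groth.Agent.EtQC.Subobj
import Groth.Agent.AlgSpDec.EtStalkAb
import Groth.Agent.AlgSpPts.OpenSub

/-!
# Stalks of quasi-coherent modules and open neighbourhoods
-/

set_option autoImplicit false
set_option backward.isDefEq.respectTransparency false
set_option backward.isDefEq.respectTransparency.types false

universe u

set_option maxHeartbeats 1600000

open CategoryTheory CategoryTheory.Limits AlgebraicGeometry Opposite AlgSp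
open Groth.Agent.AlgSpDec.EtStalkElts Groth.Agent.AlgSpDec.EtStalkAb
open scoped TensorProduct

namespace Groth.Agent.EtQC

variable {S : Scheme.{u}} {X : Sp S} {p : FieldPt X}

/-- The germ of a section of a module. -/
noncomputable def germM (M : ModEt X) (N : EtNbhd p) : sectModEt M N.1 →+ ↥(stalkEt p ((toAbEt X).obj M)) :=
  (stalkEtι p ((toAbEt X).obj M) N).hom

theorem germM_res (M : ModEt X) {N N' : EtNbhd p} (g : N' ⟶ N) (s : sectModEt M N.1) :
    germM M N' (res M g.val s) = germM M N s :=
  ConcreteCategory.congr_hom (colimit.w (stalkEtDiagram p ((toAbEt X).obj M)) g.op) s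

/-- The stalk map. -/
noncomputable def stalkM {M M' : ModEt X} (φ : M ⟶ M') :
    ↥(stalkEt p ((toAbEt X).obj M)) →+ ↥(stalkEt p ((toAbEt X).obj M')) :=
  ((stalkEtFunctor AddCommGrpCat.{u + 1} p).map ((toAbEt X).map φ)).hom

theorem stalkM_germ {M M' : ModEt X} (φ : M ⟶ M') (N : EtNbhd p) (s : sectModEt M N.1) :
    stalkM φ (germM M N s) = germM M' N (app φ N.1 s) :=
  ConcreteCategory.congr_hom (ι_colimMap (Functor.whiskerLeft (EtNbhd.toEtOver p).op ((toAbEt X).map φ).hom) (op N)) s

section zero

variable (hX : IsAlgSpace X) (hp : p.IsGeometric)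

include hX hp

theorem exists_germM (M : ModEt X) (z : ↥(stalkEt p ((toAbEt X).obj M))) :
    ∃ (N : EtNbhd p) (s : sectModEt M N.1), germM M N s = z :=
  exists_rep ((toAbEt X).obj M) hX hp z

theorem germM_eq_zero_iff (M : ModEt X) (N : EtNbhd p) (s : sectModEt M N.1) :
    germM M N s = 0 ↔ ∃ (N' : EtNbhd p) (g : N' ⟶ N), res M g.val s = 0 :=
  stalkι_eq_zero_iff ((toAbEt X).obj M) hX hp N s

theorem stalkM_injective {M M' : ModEt X} (φ : M ⟶ M') [Mono φ] : Function.Injective (stalkM (p := p) φ) := by
  intro z z' h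
  obtain ⟨N, s, hs⟩ := exists_germM hX hp M (z - z')
  refine sub_eq_zero.1 (hs.symm.trans ((germM_eq_zero_iff hX hp M N s).2 ?_))
  have h0 : germM M' N (app φ N.1 s) = 0 := by rw [← stalkM_germ, hs, map_sub, h, sub_self]
  obtain ⟨N', g, hg⟩ := (germM_eq_zero_iff hX hp M' N _).1 h0
  refine ⟨N', g, app_injective φ N'.1 ?_⟩
  rw [app_res, hg, map_zero]

theorem stalkM_surjective {M M' : ModEt X} (φ : M ⟶ M') [Epi φ] : Function.Surjective (stalkM (p := p) φ) := by
  haveI : HasColimitsOfSize.{u, u} AddCommGrpCat.{u + 1} := hasColimitsOfSizeShrink.{u, u, u + 1, u + 1} _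
  haveI := AlgSpDec.EtPoint.preservesFiniteColimits_stalkEtFunctor AddCommGrpCat.{u + 1} hX hp
  exact (AddCommGrpCat.epi_iff_surjective _).1
    (inferInstanceAs (Epi ((stalkEtFunctor AddCommGrpCat.{u + 1} p).map ((toAbEt X).map φ))))

/-- An affine neighbourhood inside an open one. -/
theorem exists_affine_nbhd (N : EtNbhd p) : ∃ (N' : EtNbhd p) (_ : N' ⟶ N), IsAffine N'.1.obj.left.left := by
  obtain ⟨O, hO, hm, -⟩ := exists_isAffineOpen_mem_and_subset (x := base p N)
    (U := (⊤ : N.1.obj.left.left.Opens)) trivial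
  obtain ⟨N', g, e, -⟩ := exists_open p N O hm
  haveI : IsAffine O.toScheme := hO
  exact ⟨N', g, IsAffine.of_isIso e.hom⟩

/-- A finitely generated module with zero stalk vanishes on a neighbourhood. -/
theorem exists_nbhd_zero {C : ModEt X} (hC : BCAll C) (hC' : FT C)
    (h : ∀ z : ↥(stalkEt p ((toAbEt X).obj C)), z = 0) :
    ∃ N : EtNbhd p, IsAffine N.1.obj.left.left ∧ ∀ s : sectModEt C N.1, s = 0 := by
  classical
  obtain ⟨N₀⟩ := AlgSpDec.exists_etNbhd p hX hp
  obtain ⟨A, -, hA⟩ := exists_affine_nbhd hX hp N₀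
  haveI := hA
  obtain ⟨T, hT⟩ := (hC'.finite hC A.1).fg_top
  obtain ⟨B, g, hg⟩ : ∃ (B : EtNbhd p) (g : B ⟶ A), ∀ s ∈ T, res C g.val s = 0 := by
    clear hT
    induction T using Finset.induction with
    | empty => exact ⟨A, 𝟙 A, fun s hs => absurd hs (Finset.notMem_empty s)⟩
    | insert a T' _ ih =>
      obtain ⟨B, g, hg⟩ := ih
      obtain ⟨B', g', hg'⟩ := (germM_eq_zero_iff hX hp C B (res C g.val a)).1 (h _)
      refine ⟨B', g' ≫ g, fun s hs => ?_⟩
      show res C (g'.val ≫ g.val) s = 0
      rw [res_comp]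
      rcases Finset.mem_insert.1 hs with rfl | hs
      · exact hg'
      · rw [hg s hs, map_zero]
  obtain ⟨N, k, hN⟩ := exists_affine_nbhd hX hp B
  refine ⟨N, hN, fun s => ?_⟩
  haveI := hN
  let q : N.1 ⟶ A.1 := k.val ≫ g.val
  have hz : ∀ t : sectModEt C A.1, res C q t = 0 := fun t => by
    have ht : t ∈ Submodule.span (Fn A.1) (T : Set (sectModEt C A.1)) := hT ▸ trivial
    induction ht using Submodule.span_induction with
    | mem x hx => show res C (k.val ≫ g.val) x = 0; rw [res_comp, hg x hx, map_zero]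
    | zero => rw [map_zero]
    | add x y _ _ hx hy => rw [map_add, hx, hy, add_zero]
    | smul a x _ hx => rw [res_smul, hx, smul_zero]
  letI := (fmap q).toAlgebra
  obtain ⟨z, rfl⟩ := (hC A.1 hA N.1 q hN).2 s
  induction z using TensorProduct.induction_on with
  | zero => rw [map_zero]
  | tmul b t => rw [gam_tmul, hz, smul_zero]
  | add x y hx hy => rw [map_add, hx, hy, add_zero]

end zero

/-- Affine objects covering an object over the image of a chart, mapping to the chart. -/
theorem exists_cover_over {W E : EtOver X}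
    (h : Set.range (Points.ofPt E.obj.hom) ⊆ Set.range (Points.ofPt W.obj.hom)) :
    ∃ (ι : Type u) (A : ι → EtOver X) (g : ∀ a, A a ⟶ E) (_ : ∀ a, A a ⟶ W),
      (∀ a, IsAffine (A a).obj.left.left) ∧ ∀ x : ↥E.obj.left.left, ∃ a, x ∈ Set.range (g a).hom.left.left := by
  let P := EtOver.prodObj E W
  choose O hO hxO _ using fun x : ↥P.obj.left.left =>
    exists_isAffineOpen_mem_and_subset (x := x) (U := (⊤ : P.obj.left.left.Opens)) trivial
  refine ⟨↥P.obj.left.left, fun x => AlgSpDec.etOpen P (O x), fun x => AlgSpDec.etOpenι P (O x) ≫ EtOver.prodFst E W,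
    fun x => AlgSpDec.etOpenι P (O x) ≫ EtOver.prodSnd E W, hO, fun z => ?_⟩
  obtain ⟨w, hw⟩ := h ⟨z, rfl⟩
  obtain ⟨v, -, hv⟩ := AlgSpPts.exists_lift (W.property.1.isPullback E.obj.hom)
    (x := Points.ofScheme W.obj.left w) (t := z) ((Points.ofPt_eq_map_ofScheme _ w).symm.trans hw)
  obtain ⟨y, hy⟩ : v ∈ Set.range (AlgSpDec.etOpenι P (O v)).hom.left.left := by
    rw [AlgSpDec.range_etOpenι]; exact hxO v
  refine ⟨v, y, ?_⟩
  show (EtOver.prodFst E W).hom.left.left ((AlgSpDec.etOpenι P (O v)).hom.left.left y) = z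
  rw [hy]
  exact hv

/-- A module vanishing on a chart vanishes on affine objects over it. -/
theorem zero_of_hom {C : ModEt X} (hC : BCAll C) {W A : EtOver X} (q : A ⟶ W) (hW : IsAffine W.obj.left.left)
    (hA : IsAffine A.obj.left.left) (h : ∀ s : sectModEt C W, s = 0) (s : sectModEt C A) : s = 0 := by
  letI := (fmap q).toAlgebra
  obtain ⟨z, rfl⟩ := (hC W hW A q hA).2 s
  induction z using TensorProduct.induction_on with
  | zero => rw [map_zero]
  | tmul b t => rw [gam_tmul, h t, map_zero, smul_zero]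
  | add x y hx hy => rw [map_add, hx, hy, add_zero]

/-- A module vanishing on a chart vanishes on objects over its image. -/
theorem zero_of_range {C : ModEt X} (hC : BCAll C) {W : EtOver X} (hW : IsAffine W.obj.left.left)
    (h : ∀ s : sectModEt C W, s = 0) {E : EtOver X}
    (hE : Set.range (Points.ofPt E.obj.hom) ⊆ Set.range (Points.ofPt W.obj.hom)) (s : sectModEt C E) : s = 0 := by
  obtain ⟨ι, A, g, k, hA, hc⟩ := exists_cover_over hE
  refine ext_of_cover C A g hc fun a => ?_
  rw [map_zero]
  exact zero_of_hom hC (k a) hW (hA a) h _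

variable {G F : ModEt X} (φ : G ⟶ F)

/-- A morphism is injective over an open where its kernel vanishes. -/
theorem app_injective_of_kernel {E : EtOver X} (h : ∀ s : sectModEt (kernel φ) E, s = 0) :
    Function.Injective (app φ E) := by
  intro a b hab
  let T := ShortComplex.mk (kernel.ι φ) φ (kernel.condition φ)
  haveI : Mono T.f := inferInstanceAs (Mono (kernel.ι φ))
  obtain ⟨t, ht⟩ := (app_exact (T := T) (ShortComplex.exact_of_f_is_kernel _ (kernelIsKernel φ)) E (a - b)).1
    (by show app φ E (a - b) = 0; rw [map_sub, hab, sub_self])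
  rw [h t, map_zero] at ht
  exact sub_eq_zero.1 ht.symm

/-- A morphism is surjective on affine objects where its cokernel vanishes. -/
theorem app_surjective_of_cokernel (hG : BCAll G) (hF : BCAll F) {A : EtOver X} [IsAffine A.obj.left.left]
    (h : ∀ s : sectModEt (cokernel φ) A, s = 0) : Function.Surjective (app φ A) := by
  intro s
  let T₁ := ShortComplex.mk (kernel.ι (cokernel.π φ)) (cokernel.π φ) (kernel.condition _)
  haveI : Mono T₁.f := inferInstanceAs (Mono (kernel.ι (cokernel.π φ)))
  obtain ⟨t, ht⟩ := (app_exact (T := T₁) (ShortComplex.exact_of_f_is_kernel _ (kernelIsKernel _)) A s).1 (h _)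
  haveI : Epi (Abelian.factorThruImage φ) := inferInstance
  let T₂ := ShortComplex.mk (kernel.ι (Abelian.factorThruImage φ)) (Abelian.factorThruImage φ) (kernel.condition _)
  haveI : Mono T₂.f := inferInstanceAs (Mono (kernel.ι (Abelian.factorThruImage φ)))
  haveI : Epi T₂.g := inferInstanceAs (Epi (Abelian.factorThruImage φ))
  obtain ⟨r, hr⟩ := app_surjective (T := T₂) (ShortComplex.exact_of_f_is_kernel _ (kernelIsKernel _))
    (bcAll_kernel _ hG (bcAll_kernel _ hF (bcAll_cokernel φ hG hF))) t
  refine ⟨r, ?_⟩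
  rw [← ht, ← hr]
  exact congrArg (fun θ : G ⟶ F => app θ A r) (Abelian.image.fac φ).symm

/-- The cokernel of a morphism into a finitely generated module is finitely generated. -/
theorem ft_cokernel (hG : BCAll G) (hF : BCAll F) (h : FT F) : FT (cokernel φ) :=
  ft_right (T := ShortComplex.mk (kernel.ι (cokernel.π φ)) (cokernel.π φ) (kernel.condition _))
    (shortExact_kernel (cokernel.π φ)) (bcAll_kernel _ hF (bcAll_cokernel φ hG hF)) h

/-- The kernel of a morphism out of a finitely generated module on a Noetherian space is finitely generated. -/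
theorem ft_kernel (hX : IsLocNoethSp X) (h : FT G) : FT (kernel φ) := by
  let T := ShortComplex.mk (kernel.ι φ) φ (kernel.condition φ)
  haveI : Mono T.f := inferInstanceAs (Mono (kernel.ι φ))
  exact ft_left (T := T) hX (ShortComplex.exact_of_f_is_kernel _ (kernelIsKernel φ)) h

section points

variable (hX : IsAlgSpace X) (hN : IsLocNoethSp X) [G.IsFinitePresentation] [F.IsFinitePresentation]
  (hp : p.IsGeometric)

include hX hp

include hN in
/-- Injectivity at a point gives injectivity over a chart through it. -/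
theorem exists_chart_injective (h : Mono ((stalkEtFunctor AddCommGrpCat.{u + 1} p).map ((toAbEt X).map φ))) :
    ∃ W : EtOver X, Points.mk p ∈ Set.range (Points.ofPt W.obj.hom) ∧
      ∀ E : EtOver X, Set.range (Points.ofPt E.obj.hom) ⊆ Set.range (Points.ofPt W.obj.hom) →
        Function.Injective (app φ E) := by
  have hG := bcAll_of_isQuasicoherent G
  have hF := bcAll_of_isQuasicoherent F
  have hi : Function.Injective (stalkM (p := p) φ) := (AddCommGrpCat.mono_iff_injective _).1 h
  obtain ⟨N, hN', hz⟩ := exists_nbhd_zero hX hp (bcAll_kernel φ hG hF)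
    (ft_kernel φ hN (ft_of_isFiniteType G)) fun z => by
      obtain ⟨N, s, rfl⟩ := exists_germM hX hp _ z
      refine stalkM_injective hX hp (kernel.ι φ) (hi ?_)
      simp only [map_zero, stalkM_germ]
      refine (congrArg (germM F N) ?_).trans (map_zero _)
      exact congrArg (fun θ : kernel φ ⟶ F => app θ N.1 s) (kernel.condition φ)
  exact ⟨N.1, ⟨base p N, ofPt_base p N⟩, fun E hE =>
    app_injective_of_kernel φ (zero_of_range (bcAll_kernel φ hG hF) hN' hz hE)⟩

/-- Surjectivity at a point gives surjectivity on affine objects over a chart through it. -/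
theorem exists_chart_surjective (h : Epi ((stalkEtFunctor AddCommGrpCat.{u + 1} p).map ((toAbEt X).map φ))) :
    ∃ W : EtOver X, Points.mk p ∈ Set.range (Points.ofPt W.obj.hom) ∧
      ∀ A : EtOver X, IsAffine A.obj.left.left → Set.range (Points.ofPt A.obj.hom) ⊆ Set.range (Points.ofPt W.obj.hom) →
        Function.Surjective (app φ A) := by
  have hG := bcAll_of_isQuasicoherent G
  have hF := bcAll_of_isQuasicoherent F
  have hs : Function.Surjective (stalkM (p := p) φ) := (AddCommGrpCat.epi_iff_surjective _).1 h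
  obtain ⟨N, hN', hz⟩ := exists_nbhd_zero hX hp (bcAll_cokernel φ hG hF)
    (ft_cokernel φ hG hF (ft_of_isFiniteType F)) fun z => by
      obtain ⟨y, rfl⟩ := stalkM_surjective hX hp (cokernel.π φ) z
      obtain ⟨x, rfl⟩ := hs y
      obtain ⟨N, s, rfl⟩ := exists_germM hX hp _ x
      simp only [stalkM_germ]
      refine (congrArg (germM _ N) ?_).trans (map_zero _)
      exact congrArg (fun θ : G ⟶ cokernel φ => app θ N.1 s) (cokernel.condition φ)
  exact ⟨N.1, ⟨base p N, ofPt_base p N⟩, fun A hA hE =>
    haveI := hA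
    app_surjective_of_cokernel φ hG hF (zero_of_range (bcAll_cokernel φ hG hF) hN' hz hE)⟩

end points

end Groth.Agent.EtQC
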