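import Groth.Agent.EtQC.StalkOpen

/-!
# Open subspaces where morphisms of coherent modules are injective or surjective
-/

set_option autoImplicit false
set_option backward.isDefEq.respectTransparency false
set_option backward.isDefEq.respectTransparency.types false

universe u

set_option maxHeartbeats 1600000

open CategoryTheory CategoryTheory.Limits AlgebraicGeometry Opposite AlgSp
open Groth.Agent.AlgSpDec.EtStalkElts

namespace Groth.Agent.EtQC

variable {S : Scheme.{u}}

/-- An open set of points is an open subspace. -/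
theorem exists_space_of_open (X : Space S) {V : Set (Points X.obj)} (hV : IsOpen V) :
    ∃ (X' : Space S) (j : X' ⟶ X), RepWith @IsOpenImmersion j.hom ∧ Set.range (Points.map j.hom) = V := by
  obtain ⟨X', j, hX', hj, hr⟩ := AlgSpPts.exists_open_subspace X.property hV
  exact ⟨⟨X', hX'⟩, ObjectProperty.homMk j, hj, hr⟩

variable {X : Sp S}

theorem range_subset_of_hom {E E' : EtOver X} (g : E' ⟶ E) :
    Set.range (Points.ofPt E'.obj.hom) ⊆ Set.range (Points.ofPt E.obj.hom) := by
  rintro _ ⟨y, rfl⟩
  exact ⟨g.hom.left.left y, by rw [← EtOver.w g, AlgSpLib.ofPt_comp]⟩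

variable {G F : ModEt X} (φ : G ⟶ F) {V : Set (Points X)}

/-- Injective on all objects over a set and surjective on affine ones gives bijective. -/
theorem app_bijective_of_affine
    (hi : ∀ E : EtOver X, Set.range (Points.ofPt E.obj.hom) ⊆ V → Function.Injective (app φ E))
    (hs : ∀ A : EtOver X, IsAffine A.obj.left.left → Set.range (Points.ofPt A.obj.hom) ⊆ V →
      Function.Surjective (app φ A)) (E : EtOver X) (hE : Set.range (Points.ofPt E.obj.hom) ⊆ V) :
    Function.Bijective (app φ E) := by
  refine ⟨hi E hE, fun s => ?_⟩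
  choose O hO hxO _ using fun x : ↥E.obj.left.left =>
    exists_isAffineOpen_mem_and_subset (x := x) (U := (⊤ : E.obj.left.left.Opens)) trivial
  let A : ULift.{u + 1} ↥E.obj.left.left → EtOver X := fun x => AlgSpDec.etOpen E (O x.down)
  let g : ∀ a, A a ⟶ E := fun x => AlgSpDec.etOpenι E (O x.down)
  have hc : ∀ x : ↥E.obj.left.left, ∃ a, x ∈ Set.range (g a).hom.left.left :=
    fun x => ⟨⟨x⟩, by show x ∈ Set.range (AlgSpDec.etOpenι E (O x)).hom.left.left
                      rw [AlgSpDec.range_etOpenι]; exact hxO x⟩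
  choose t ht using fun a => hs (A a) (hO a.down) ((range_subset_of_hom (g a)).trans hE) (res F (g a) s)
  obtain ⟨r, hr⟩ := exists_glue G A g hc t fun a b => by
    refine hi _ (((range_subset_of_hom (EtOver.pullbackFst (g a) (g b))).trans (range_subset_of_hom (g a))).trans hE) ?_
    rw [app_res, app_res, ht, ht, ← res_comp, ← res_comp, EtOver.pullback_condition]
  refine ⟨r, ext_of_cover F A g hc fun a => ?_⟩
  rw [← app_res, hr, ht]

theorem stalk_epi_of_affine {p : FieldPt X} (hX : IsAlgSpace X) (hp : p.IsGeometric) (hV : IsOpen V)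
    (hpV : Points.mk p ∈ V)
    (hs : ∀ A : EtOver X, IsAffine A.obj.left.left → Set.range (Points.ofPt A.obj.hom) ⊆ V →
      Function.Surjective (app φ A)) :
    Epi ((stalkEtFunctor AddCommGrpCat.{u + 1} p).map ((toAbEt X).map φ)) := by
  refine (AddCommGrpCat.epi_iff_surjective _).2 fun z => ?_
  obtain ⟨N, s, rfl⟩ := exists_germM hX hp F z
  let O : N.1.obj.left.left.Opens := ⟨Points.ofPt N.1.obj.hom ⁻¹' V, hV.preimage
    (Points.continuous_ofPt N.1.obj.hom)⟩
  obtain ⟨N₁, g₁, e, he⟩ := exists_open p N O (by show Points.ofPt N.1.obj.hom (base p N) ∈ V; rw [ofPt_base]; exact hpV)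
  obtain ⟨A, g₂, hA⟩ := exists_affine_nbhd hX hp N₁
  have hr : Set.range (Points.ofPt A.1.obj.hom) ⊆ V := by
    refine (range_subset_of_hom g₂.val).trans ?_
    rintro _ ⟨y, rfl⟩
    rw [← EtOver.w g₁.val, AlgSpLib.ofPt_comp]
    show g₁.val.hom.left.left y ∈ O
    rw [← he]
    exact (e.hom y).2
  obtain ⟨t, ht⟩ := hs A.1 hA hr (res F (g₂ ≫ g₁).val s)
  refine ⟨germM G A t, ?_⟩
  show stalkM φ (germM G A t) = germM F N s
  rw [stalkM_germ, ht, germM_res]

end Groth.Agent.EtQC
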