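import Groth.Agent.EtQC.Coh
import Mathlib.Algebra.Category.ModuleCat.Presheaf.Submodule

/-!
# Submodules given on affine objects
-/

set_option autoImplicit false
set_option backward.isDefEq.respectTransparency false
set_option backward.isDefEq.respectTransparency.types false

universe u

set_option maxHeartbeats 1600000

open CategoryTheory CategoryTheory.Limits AlgebraicGeometry Opposite AlgSp
open scoped TensorProduct

namespace Groth.Agent.EtQC

variable {S : Scheme.{u}} {X : Sp S}

/-- Submodules of sections on affine objects, stable under restriction and local. -/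
structure AffSub (F : ModEt X) where
  /-- the submodule on an affine object -/
  P : ∀ W : EtOver X, IsAffine W.obj.left.left → Submodule (Fn W) (sectModEt F W)
  map : ∀ {W W' : EtOver X} (g : W' ⟶ W) (hW : IsAffine W.obj.left.left) (hW' : IsAffine W'.obj.left.left)
    (s : sectModEt F W), s ∈ P W hW → res F g s ∈ P W' hW'
  loc : ∀ (W : EtOver X) (hW : IsAffine W.obj.left.left) (n : ℕ) (V : Fin n → EtOver X) (g : ∀ i, V i ⟶ W)
    (hV : ∀ i, IsAffine (V i).obj.left.left), (∀ x : ↥W.obj.left.left, ∃ i, x ∈ Set.range (g i).hom.left.left) →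
    ∀ s : sectModEt F W, (∀ i, res F (g i) s ∈ P (V i) (hV i)) → s ∈ P W hW

namespace AffSub

variable {F : ModEt X} (Q : AffSub F)

/-- Sections lying in the submodules on all affine objects over an object. -/
noncomputable def sect (E : EtOver X) : Submodule ((OEtRing X).obj.obj (op E)) (sectModEt F E) where
  carrier := {s | ∀ (W : EtOver X) (g : W ⟶ E) (hW : IsAffine W.obj.left.left), res F g s ∈ Q.P W hW}
  zero_mem' W g hW := by rw [map_zero]; exact zero_mem _
  add_mem' {a b} ha hb W g hW := by rw [map_add]; exact add_mem (ha W g hW) (hb W g hW)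
  smul_mem' c s hs W g hW := by
    obtain ⟨d, rfl⟩ : ∃ d : Fn E, upΓ E d = c := ⟨c.down, rfl⟩
    rw [← smul_def, res_smul]
    exact Submodule.smul_mem _ _ (hs W g hW)

theorem sect_mem_iff {E : EtOver X} (s : sectModEt F E) : s ∈ Q.sect E ↔
    ∀ (W : EtOver X) (g : W ⟶ E) (hW : IsAffine W.obj.left.left), res F g s ∈ Q.P W hW := Iff.rfl

/-- The presheaf submodule. -/
noncomputable def sub : F.val.Submodule where
  obj E := Q.sect E.unop
  map {A B} f s hs := by
    intro W g hW
    have h := hs W (g ≫ f.unop) hW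
    rw [res_comp] at h
    exact h

theorem isSheaf_sub : Presheaf.IsSheaf (etTop X) Q.sub.toPresheafOfModules.presheaf := by
  rw [Presheaf.isSheaf_iff_isSheaf_forget (etTop X) _ (CategoryTheory.forget AddCommGrpCat.{u + 1}),
    isSheaf_iff_isSheaf_of_type]
  intro E R hR x hx
  have hsh := (isSheaf_iff_isSheaf_of_type _ _).1
    ((Presheaf.isSheaf_iff_isSheaf_forget (etTop X) F.val.presheaf (forget AddCommGrpCat.{u + 1})).1 F.isSheaf)
  let y : Presieve.FamilyOfElements (F.val.presheaf ⋙ CategoryTheory.forget AddCommGrpCat.{u + 1}) R.arrows :=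
    fun W g hg => (x g hg).1
  have hy : y.Compatible := fun A B Z g₁ g₂ f₁ f₂ h₁ h₂ w =>
    congrArg Subtype.val (hx g₁ g₂ h₁ h₂ w)
  obtain ⟨t, ht, huniq⟩ := hsh R hR y hy
  have htv : ∀ ⦃W : EtOver X⦄ (g : W ⟶ E) (hg : R g), res F g t = (x g hg).1 := fun W g hg => ht g hg
  have hmem : t ∈ Q.sect E := fun W g hW => by
    haveI := hW
    obtain ⟨n, V, h, hV, hh, hc⟩ := exists_affine_refinement ((etTop X).pullback_stable g hR)
    refine Q.loc W hW n V h hV hc _ fun i => ?_
    rw [← res_comp, htv (h i ≫ g) (hh i)]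
    have h1 : (x (h i ≫ g) (hh i)).1 ∈ Q.sect (V i) := (x (h i ≫ g) (hh i)).2
    have h2 := h1 (V i) (𝟙 _) (hV i)
    rwa [res_id] at h2
  exact ⟨⟨t, hmem⟩, fun W g hg => Subtype.ext (ht g hg), fun z hz =>
    Subtype.ext (huniq z.1 fun W g hg => congrArg Subtype.val (hz g hg))⟩

/-- The module of the submodules. -/
noncomputable def mod : ModEt X := ⟨Q.sub.toPresheafOfModules, Q.isSheaf_sub⟩

/-- Its inclusion. -/
noncomputable def ι : Q.mod ⟶ F := ⟨Q.sub.ι⟩

instance mono_ι : Mono Q.ι :=
  (SheafOfModules.forget (OEtRing X)).mono_of_mono_map (show Mono Q.sub.ι from inferInstance)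

theorem range_ι (E : EtOver X) (hE : IsAffine E.obj.left.left) :
    Set.range (app Q.ι E) = (Q.P E hE : Set (sectModEt F E)) := by
  ext s
  refine ⟨?_, fun hs => ⟨⟨s, fun W g hW => Q.map g hE hW s hs⟩, rfl⟩⟩
  rintro ⟨⟨t, ht⟩, rfl⟩
  have h := ht E (𝟙 E) hE
  rw [res_id] at h
  exact h

/-- A submodule whose values generate one another has base change. -/
theorem bcAll (hF : BCAll F) (h : ∀ {W W' : EtOver X} (g : W' ⟶ W) (hW : IsAffine W.obj.left.left)
      (hW' : IsAffine W'.obj.left.left) (y : sectModEt F W'), y ∈ Q.P W' hW' →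
        y ∈ Submodule.span (Fn W') (res F g '' (Q.P W hW : Set (sectModEt F W)))) : BCAll Q.mod := by
  intro W hW W' g hW'
  haveI := hW
  haveI := hW'
  letI := (fmap g).toAlgebra
  haveI : Module.Flat (Fn W) (Fn W') := flat_fmap g
  refine ⟨fun z z' hz => ?_, fun y => ?_⟩
  · refine Module.Flat.lTensor_preserves_injective_linearMap (M := Fn W') (app Q.ι W) (app_injective Q.ι W)
      ((hF W hW W' g hW').1 ?_)
    rw [gam_app, gam_app, hz]
  · have hy : app Q.ι W' y ∈ Q.P W' hW' := (Set.ext_iff.1 (Q.range_ι W' hW') _).1 ⟨y, rfl⟩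
    suffices ∀ w ∈ Submodule.span (Fn W') (res F g '' (Q.P W hW : Set (sectModEt F W))),
        ∃ z, app Q.ι W' (gam (RingHom.id (Fn W')) (res Q.mod g) (res_smul' Q.mod g) z) = w by
      obtain ⟨z, hz⟩ := this _ (h g hW hW' _ hy)
      exact ⟨z, app_injective Q.ι W' hz⟩
    intro w hw
    induction hw using Submodule.span_induction with
    | mem w hw =>
      obtain ⟨s, hs, rfl⟩ := hw
      obtain ⟨s', rfl⟩ := (Set.ext_iff.1 (Q.range_ι W hW) s).2 hs
      exact ⟨(1 : Fn W') ⊗ₜ s', by rw [gam_tmul, RingHom.id_apply, one_smul, app_res]⟩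
    | zero => exact ⟨0, by rw [map_zero, map_zero]⟩
    | add a b _ _ ha hb =>
      obtain ⟨za, rfl⟩ := ha
      obtain ⟨zb, rfl⟩ := hb
      exact ⟨za + zb, by rw [map_add, map_add]⟩
    | smul c a _ ha =>
      obtain ⟨za, rfl⟩ := ha
      refine ⟨c • za, ?_⟩
      clear * - za c
      rw [← map_smul]
      congr 1
      induction za using TensorProduct.induction_on with
      | zero => simp
      | add x y hx hy => rw [smul_add, map_add, map_add, hx, hy, smul_add]
      | tmul b s =>
        rw [TensorProduct.smul_tmul', gam_tmul, gam_tmul]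
        exact mul_smul c b _

end AffSub

/-- Sections killed by finitely many functions are spanned by such sections downstairs. -/
theorem mem_span_of_killed {F : ModEt X} {W W' : EtOver X} (g : W' ⟶ W) [IsAffine W.obj.left.left]
    [IsAffine W'.obj.left.left] (hF : BC F W) (T : Finset (Fn W)) (y : sectModEt F W')
    (hy : ∀ a ∈ T, fmap g a • y = 0) :
    y ∈ Submodule.span (Fn W') (res F g '' {s : sectModEt F W | ∀ a ∈ T, a • s = 0}) := by
  classical
  letI := (fmap g).toAlgebra
  haveI : Module.Flat (Fn W) (Fn W') := flat_fmap g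
  obtain ⟨z, rfl⟩ := (hF W' g ‹_›).2 y
  let K : Submodule (Fn W) (sectModEt F W) :=
    LinearMap.ker (LinearMap.pi fun a : T => a.1 • (LinearMap.id : sectModEt F W →ₗ[Fn W] sectModEt F W))
  let μ : sectModEt F W →ₗ[Fn W] (↥T → sectModEt F W) :=
    LinearMap.pi fun a : T => a.1 • (LinearMap.id : sectModEt F W →ₗ[Fn W] sectModEt F W)
  have hz : μ.lTensor (Fn W') z = 0 := by
    refine (TensorProduct.piRight (Fn W) (Fn W) (Fn W') fun _ : T => sectModEt F W).injective (funext fun a => ?_)
    rw [map_zero, Pi.zero_apply]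
    refine (hF W' g ‹_›).1 ?_
    rw [map_zero, ← hy a.1 a.2]
    clear hy
    induction z using TensorProduct.induction_on with
    | zero => simp
    | add x y hx hy => simp only [map_add, Pi.add_apply, hx, hy, smul_add]
    | tmul b s =>
      rw [LinearMap.lTensor_tmul, TensorProduct.piRight_apply, TensorProduct.piRightHom_tmul, gam_tmul, gam_tmul]
      show b • res F g (a.1 • s) = fmap g a.1 • (b • res F g s)
      rw [res_smul, smul_comm]
  obtain ⟨w, rfl⟩ := (Module.Flat.lTensor_exact (Fn W') (LinearMap.exact_subtype_ker_map μ) z).1 hz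
  clear hz hy
  induction w using TensorProduct.induction_on with
  | zero => simp
  | add x y hx hy => rw [map_add, map_add]; exact add_mem hx hy
  | tmul b s =>
    rw [LinearMap.lTensor_tmul, gam_tmul]
    refine Submodule.smul_mem _ _ (Submodule.subset_span ⟨s.1, fun a ha => ?_, rfl⟩)
    exact congrFun (LinearMap.mem_ker.1 s.2) ⟨a, ha⟩

/-- The sections killed by an ideal sheaf. -/
noncomputable def annSub (I : IdealEt X) (hI : I.IsQCoh) (F : ModEt X) : AffSub F where
  P W hW :=
    { carrier := {s | ∀ a ∈ I.ideal W hW, a • s = 0}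
      zero_mem' := fun a _ => smul_zero a
      add_mem' := fun {x y} hx hy a ha => by rw [smul_add, hx a ha, hy a ha, add_zero]
      smul_mem' := fun c x hx a ha => by rw [smul_comm, hx a ha, smul_zero] }
  map g hW hW' s hs := by
    intro a ha
    have ha' := hI g hW hW' ha
    refine Submodule.span_induction (p := fun a _ => a • res F g s = 0) ?_ (zero_smul _ _)
      (fun x y _ _ hx hy => by rw [add_smul, hx, hy, add_zero])
      (fun c x _ hx => by rw [smul_eq_mul, mul_smul, hx, smul_zero]) ha'
    rintro _ ⟨b, hb, rfl⟩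
    show fmap g b • res F g s = 0
    rw [← res_smul, hs b hb, map_zero]
  loc W hW n V g hV hc s hs := fun a ha => ext_of_cover F V g hc fun i => by
    rw [map_zero, res_smul]
    exact hs i _ (I.map_le (g i) hW (hV i) (Ideal.mem_map_of_mem _ ha))

theorem annSub_bcAll (I : IdealEt X) (hI : I.IsQCoh) (hft : ∀ (E : EtOver X) (hE : IsAffine E.obj.left.left),
    (I.ideal E hE).FG) {F : ModEt X} (hF : BCAll F) : BCAll (annSub I hI F).mod :=
  (annSub I hI F).bcAll hF fun {W W'} g hW hW' y hy => by
    haveI := hW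
    haveI := hW'
    obtain ⟨T, hT⟩ := hft W hW
    refine Submodule.span_mono (Set.image_mono ?_) (mem_span_of_killed g (hF W hW) T y fun a ha =>
      hy _ (I.map_le g hW hW' (Ideal.mem_map_of_mem _ (hT ▸ Submodule.subset_span ha))))
    intro s hs a ha
    rw [← hT] at ha
    refine Submodule.span_induction (p := fun a _ => a • s = 0) hs (zero_smul _ _)
      (fun x y _ _ hx hy => by rw [add_smul, hx, hy, add_zero])
      (fun c x _ hx => by rw [smul_eq_mul, mul_smul, hx, smul_zero]) ha

end Groth.Agent.EtQC
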