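import Groth.Agent.EtQC.SuppPow
import Groth.Agent.EtQC.StalkOpenSpace

/-!
# Splitting coherent modules along their support
-/

set_option autoImplicit false
set_option backward.isDefEq.respectTransparency false
set_option backward.isDefEq.respectTransparency.types false

universe u

set_option maxHeartbeats 1600000

open CategoryTheory CategoryTheory.Limits AlgebraicGeometry Opposite AlgSp
open Groth.Agent.AlgSpDec.EtStalkElts
open scoped TensorProduct

namespace Groth.Agent.EtQC

variable {S : Scheme.{u}} {X : Sp S}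

/-- An affine neighbourhood inside an open set of points. -/
theorem exists_affine_nbhd_in (hX : IsAlgSpace X) {p : FieldPt X} (hp : p.IsGeometric) {V : Set (Points X)}
    (hV : IsOpen V) (hpV : Points.mk p ∈ V) (N : EtNbhd p) :
    ∃ (A : EtNbhd p) (_ : A ⟶ N), IsAffine A.1.obj.left.left ∧ Set.range (Points.ofPt A.1.obj.hom) ⊆ V := by
  let O : N.1.obj.left.left.Opens := ⟨Points.ofPt N.1.obj.hom ⁻¹' V, hV.preimage
    (Points.continuous_ofPt N.1.obj.hom)⟩
  obtain ⟨N₁, g₁, e, he⟩ := exists_open p N O (by show Points.ofPt N.1.obj.hom (base p N) ∈ V; rw [ofPt_base]; exact hpV)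
  obtain ⟨A, g₂, hA⟩ := exists_affine_nbhd hX hp N₁
  refine ⟨A, g₂ ≫ g₁, hA, (range_subset_of_hom g₂.val).trans ?_⟩
  rintro _ ⟨y, rfl⟩
  rw [← EtOver.w g₁.val, AlgSpLib.ofPt_comp]
  show g₁.val.hom.left.left y ∈ O
  rw [← he]
  exact (e.hom y).2

/-- Where the annihilator of a section vanishes some stalk is nonzero. -/
theorem exists_stalk_ne_zero (hX : IsAlgSpace X) {M : ModEt X} (hM : BCAll M) (W : EtOver X)
    [hW : IsAffine W.obj.left.left] (s : sectModEt M W) (w : ↥W.obj.left.left)
    (hann : (annSect s : Ideal (Fn W)) ≤ primeAtPt W.obj.left.left w) :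
    ∃ p : FieldPt X, p.IsGeometric ∧ Points.mk p = Points.ofPt W.obj.hom w ∧
      ¬ IsZero (stalkEt p ((toAbEt X).obj M)) := by
  obtain ⟨p, hp, hpw⟩ := AlgSpDec.EtStalkProps.exists_geometric (Points.ofPt W.obj.hom w)
  refine ⟨p, hp, hpw, fun hzero => ?_⟩
  obtain ⟨l, hl⟩ := AlgSpDec.EtStalkStrict.exists_nbhd hX hp W.property hpw.symm
  let N : EtNbhd p := ⟨W, l⟩
  have hz : germM M N s = 0 := @Subsingleton.elim _ (AddCommGrpCat.subsingleton_of_isZero hzero) _ _
  obtain ⟨N', g, hg⟩ := (germM_eq_zero_iff hX hp M N s).1 hz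
  obtain ⟨A, k, hA⟩ := exists_affine_nbhd hX hp N'
  haveI := hA
  have hb : (k ≫ g).val.hom.left.left (base p A) = w := by
    refine Eq.trans ?_ hl
    show (k ≫ g).val.hom.left.left (A.2.1.left _) = N.2.1.left _
    rw [← Scheme.Hom.comp_apply]
    exact congrArg (fun c : p.pt ⟶ N.1.obj.left => c.left (IsLocalRing.closedPoint p.K))
      (congrArg Subtype.val (k ≫ g).property)
  have h0 : res M (k ≫ g).val s = 0 := by
    show res M (k.val ≫ g.val) s = 0
    rw [res_comp, hg, map_zero]
  have h1 := annSect_res_le (k ≫ g).val (hM W hW) s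
  rw [h0] at h1
  have h2 : (annSect s : Ideal (Fn W)).map (fmap (k ≫ g).val) ≤ primeAtPt A.1.obj.left.left (base p A) := by
    rw [Ideal.map_le_iff_le_comap]
    rw [← hb, WeakAssEtLib.primeAtPt_apply] at hann
    exact hann
  exact (inferInstance : (primeAtPt A.1.obj.left.left (base p A)).IsPrime).ne_top
    ((Ideal.eq_top_iff_one _).2 ((h1.trans h2) ((mem_ann _ 1).2 (smul_zero _))))

/-- On a locally Noetherian space the supported sections of a closed set form a quasi-coherent module. -/
theorem suppSub_bcAll_closed (hN : IsLocNoethSp X) {T : Set (Points X)} (hT : IsClosed T) (F : ModEt X)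
    (hF : BCAll F) : BCAll (suppSub T F hF).mod :=
  (suppSub T F hF).bcAll hF fun {W W'} g hW hW' y hy => by
    haveI := hW
    haveI := hW'
    haveI := AlgSpDec.isLocallyNoetherian_chart W.property hN
    haveI : IsNoetherian W.obj.left.left := {}
    obtain ⟨I, hI, hZ⟩ := exists_ideal_of_compact (U := W.obj.left.left)
      (O := Points.ofPt W.obj.hom ⁻¹' Tᶜ) (hT.isOpen_compl.preimage (Points.continuous_ofPt W.obj.hom))
      (TopologicalSpace.NoetherianSpace.isCompact _)
    have hZ₀ : W.obj.left.left.zeroLocus (U := ⊤) (I : Set (Fn W)) = {w | Points.ofPt W.obj.hom w ∈ T} := by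
      rw [hZ]; ext w; simp
    have hZ' : W'.obj.left.left.zeroLocus (U := ⊤) ((I.map (fmap g) : Ideal (Fn W')) : Set (Fn W')) =
        {w | Points.ofPt W'.obj.hom w ∈ T} := by
      ext v
      rw [mem_zeroLocus_iff_le, Ideal.map_le_iff_le_comap]
      have := Set.ext_iff.1 hZ₀ (g.hom.left.left v)
      rw [mem_zeroLocus_iff_le, WeakAssEtLib.primeAtPt_apply] at this
      refine this.trans ?_
      rw [← EtOver.w g]
      exact Iff.of_eq (congrArg (· ∈ T) (AlgSpLib.ofPt_comp _ _ _).symm)
    obtain ⟨n, hn⟩ := (supported_iff_pow _ (hI.map _) hZ' y).1 hy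
    obtain ⟨T', hT'⟩ := hI.pow (n := n)
    refine Submodule.span_mono (Set.image_mono ?_) (mem_span_of_killed g (hF W hW) T' y fun a ha => hn _ ?_)
    · intro s hs
      refine (supported_iff_pow _ hI hZ₀ s).2 ⟨n, fun a ha => ?_⟩
      rw [← hT'] at ha
      exact Submodule.span_induction (p := fun a _ => a • s = 0) hs (zero_smul _ _)
        (fun x y _ _ hx hy => by rw [add_smul, hx, hy, add_zero])
        (fun c x _ hx => by rw [smul_eq_mul, mul_smul, hx, smul_zero]) ha
    · rw [← Ideal.map_pow]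
      exact Ideal.mem_map_of_mem _ (hT' ▸ Submodule.subset_span ha)

/-- A coherent module splits along a decomposition of its support. -/
theorem exists_split (hX : IsAlgSpace X) (hN : IsLocNoethSp X) (F : ModEt X) [F.IsFinitePresentation]
    {Z Z' : Set (Points X)} (hZ : IsClosed Z) (hZ' : IsClosed Z')
    (hsupp : ∀ x : FieldPt X, x.IsGeometric → ¬ IsZero (stalkEt x ((toAbEt X).obj F)) → Points.mk x ∈ Z ∪ Z') :
    ∃ (G' : ModEt X) (a : G' ⟶ F), Mono a ∧ G'.IsFinitePresentation ∧ (cokernel a).IsFinitePresentation ∧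
      (∀ x : FieldPt X, x.IsGeometric → Points.mk x ∉ Z' → IsZero (stalkEt x ((toAbEt X).obj G'))) ∧
      ∀ x : FieldPt X, x.IsGeometric → Points.mk x ∉ Z → IsZero (stalkEt x ((toAbEt X).obj (cokernel a))) := by
  have hF := bcAll_of_isQuasicoherent F
  have hF' := ft_of_isFiniteType F
  let A := suppSub Z' F hF
  have hA : BCAll A.mod := suppSub_bcAll_closed hN hZ' F hF
  have hA' : FT A.mod := by
    let T := ShortComplex.mk A.ι (cokernel.π A.ι) (cokernel.condition A.ι)
    haveI : Mono T.f := inferInstanceAs (Mono A.ι)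
    exact ft_left (T := T) hN (ShortComplex.exact_of_g_is_cokernel _ (cokernelIsCokernel _)) hF'
  refine ⟨A.mod, A.ι, inferInstance, isFinitePresentation_of_ft hN hA hA',
    isFinitePresentation_of_ft hN (bcAll_cokernel A.ι hA hF) (ft_cokernel A.ι hA hF hF'), fun x hx hxZ => ?_,
    fun x hx hxZ => ?_⟩
  · haveI : Subsingleton ↥(stalkEt x ((toAbEt X).obj A.mod)) := by
      refine subsingleton_of_forall_eq 0 fun z => ?_
      obtain ⟨N, s, rfl⟩ := exists_germM hX hx _ z
      obtain ⟨B, g, hB, hr⟩ := exists_affine_nbhd_in hX hx hZ'.isOpen_compl hxZ N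
      haveI := hB
      rw [← germM_res A.mod g s]
      refine (congrArg (germM A.mod B) ?_).trans (map_zero _)
      refine app_injective A.ι B.1 (Eq.trans ?_ (map_zero (app A.ι B.1)).symm)
      have hs : Supported Z' (app A.ι B.1 (res A.mod g.val s)) :=
        (Set.ext_iff.1 (A.range_ι B.1 hB) _).1 ⟨_, rfl⟩
      have h1 : (annSect (app A.ι B.1 (res A.mod g.val s)) : Ideal (Fn B.1)) = ⊤ := by
        by_contra hne
        obtain ⟨P, hP, hle⟩ := Ideal.exists_le_maximal _ hne
        obtain ⟨w, hw⟩ := AlgSpLib.Cartier.exists_primeAtPt_eq (U := B.1.obj.left.left) P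
        exact hr ⟨w, rfl⟩ (hs w (hw.symm ▸ hle))
      exact (one_smul (Fn B.1) _).symm.trans ((mem_ann _ 1).1 (h1 ▸ trivial))
    exact AddCommGrpCat.isZero_of_subsingleton _
  · haveI : Subsingleton ↥(stalkEt x ((toAbEt X).obj (cokernel A.ι))) := by
      refine subsingleton_of_forall_eq 0 fun z => ?_
      obtain ⟨y, rfl⟩ := stalkM_surjective hX hx (cokernel.π A.ι) z
      obtain ⟨N, s, rfl⟩ := exists_germM hX hx _ y
      obtain ⟨B, g, hB, hr⟩ := exists_affine_nbhd_in hX hx hZ.isOpen_compl hxZ N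
      haveI := hB
      rw [← germM_res F g s, stalkM_germ]
      refine (congrArg (germM _ B) ?_).trans (map_zero _)
      obtain ⟨t, ht⟩ := (Set.ext_iff.1 (A.range_ι B.1 hB) (res F g.val s)).2 fun w hw => by
        obtain ⟨p, hp, hpw, hne⟩ := exists_stalk_ne_zero hX hF B.1 _ w hw
        exact (hpw ▸ hsupp p hp hne).resolve_left (hr ⟨w, rfl⟩)
      rw [← ht]
      exact congrArg (fun θ : A.mod ⟶ cokernel A.ι => app θ B.1 t) (cokernel.condition A.ι)
    exact AddCommGrpCat.isZero_of_subsingleton _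

end Groth.Agent.EtQC
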