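import Groth.Agent.EtQC.FromPres
import Mathlib.LinearAlgebra.TensorProduct.RightExactness

/-!
# A presentation of the sections over an affine object presents the module
-/

set_option autoImplicit false
set_option backward.isDefEq.respectTransparency false
set_option backward.isDefEq.respectTransparency.types false

universe u

set_option maxHeartbeats 800000

open CategoryTheory CategoryTheory.Limits AlgebraicGeometry Opposite AlgSp
open scoped TensorProduct

namespace Groth.Agent.EtQC

/-- Kernels of base change of a presentation. -/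
theorem mem_span_of_gam_eq_zero {A : Type*} {B : Type*} {N : Type*} {N' : Type*} [CommRing A] [CommRing B]
    [Algebra A B] [AddCommGroup N] [Module A N] [AddCommGroup N'] [Module B N'] (r : N →+ N')
    (hr : ∀ (a : A) (n : N), r (a • n) = algebraMap A B a • r n)
    (hinj : ∀ z : B ⊗[A] N, (TensorProduct.liftAddHom
      (AddMonoidHom.mk' (fun b => (AddMonoidHom.mk' (fun n => b • r n) fun n n' => by
        simp [smul_add] : N →+ N')) fun b b' => by ext n; simp [add_smul])
      fun a b n => by simp [Algebra.smul_def, hr, smul_smul, mul_comm]) z = 0 → z = 0)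
    {I K : Type*} (e : I → N) (he : Submodule.span A (Set.range e) = ⊤) (c : K → I →₀ A)
    (hc : Submodule.span A (Set.range c) = LinearMap.ker (Finsupp.linearCombination A e))
    (t : I →₀ B) (ht : (t.sum fun i b => b • r (e i)) = 0) :
    t ∈ Submodule.span B (Set.range fun k => (c k).mapRange (algebraMap A B) (map_zero _)) := by
  classical
  let L := Finsupp.linearCombination A e
  have hL : Function.Surjective L := by
    rw [← LinearMap.range_eq_top, Finsupp.range_linearCombination]; exact he
  let z : B ⊗[A] (I →₀ A) := t.sum fun i b => b ⊗ₜ[A] Finsupp.single i 1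
  have hz : L.lTensor B z = 0 := by
    refine hinj _ ?_
    have : L.lTensor B z = t.sum fun i b => b ⊗ₜ[A] e i := by
      simp [z, L, map_finsuppSum]
    rw [this, map_finsuppSum]
    exact ht
  have hex : Function.Exact (LinearMap.ker L).subtype L := LinearMap.exact_subtype_ker_map L
  obtain ⟨w, hw⟩ := (lTensor_exact (M := ↥(LinearMap.ker L)) (N := I →₀ A) (P := N) (f := (LinearMap.ker L).subtype) (g := L) B hex hL z).1 hz
  let T : Submodule B (I →₀ B) := Submodule.span B (Set.range fun k => (c k).mapRange (algebraMap A B) (map_zero _))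
  let P : B ⊗[A] (I →₀ A) →+ (I →₀ B) := TensorProduct.liftAddHom
    (AddMonoidHom.mk' (fun b => (AddMonoidHom.mk' (fun a => b • a.mapRange (algebraMap A B) (map_zero _))
      fun a a' => by rw [Finsupp.mapRange_add (map_add _), smul_add] : (I →₀ A) →+ (I →₀ B)))
      fun b b' => by ext a i; exact add_mul b b' _)
    fun a b v => by
      ext i
      simp [Algebra.smul_def]
      ring
  have hPz : P z = t := by
    conv_rhs => rw [← t.sum_single]
    rw [map_finsuppSum]
    refine Finsupp.sum_congr fun i _ => ?_
    show t i • (Finsupp.single i (1 : A)).mapRange (algebraMap A B) (map_zero _) = _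
    simp
  have hT : ∀ n ∈ Submodule.span A (Set.range c), n.mapRange (algebraMap A B) (map_zero _) ∈ T := by
    intro n hn
    induction hn using Submodule.span_induction with
    | mem x hx => obtain ⟨k, rfl⟩ := hx; exact Submodule.subset_span ⟨k, rfl⟩
    | zero => rw [Finsupp.mapRange_zero]; exact zero_mem _
    | add x y _ _ hx hy => rw [Finsupp.mapRange_add (map_add _)]; exact add_mem hx hy
    | smul a x _ hx =>
      have : (a • x).mapRange (algebraMap A B) (map_zero _) = algebraMap A B a • x.mapRange (algebraMap A B) (map_zero _) := by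
        ext i; simp [Algebra.smul_def]
      rw [this]; exact T.smul_mem _ hx
  show t ∈ T
  rw [← hPz, ← hw]
  clear hw
  induction w using TensorProduct.induction_on with
  | zero => simp
  | add x y hx hy => rw [map_add, map_add]; exact add_mem hx hy
  | tmul b v => exact T.smul_mem _ (hT _ (hc.ge v.2))

variable {S : Scheme.{u}} {X : Sp S} {E : EtOver X}

/-- Surjectivity on affine objects gives local surjectivity. -/
theorem isLocallySurjective_of_affine {F G : PresheafOfModules.{u + 1} (ROn E).obj} (φ : F ⟶ G)
    (h : ∀ (V : EtOver X) (g : V ⟶ E), IsAffine V.obj.left.left → Function.Surjective (φ.app (sObj g))) :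
    Presheaf.IsLocallySurjective ((etTop X).over E) ((PresheafOfModules.toPresheaf _).map φ) := by
  refine ⟨fun {U} s => ?_⟩
  obtain ⟨V, g, rfl⟩ : ∃ (V : EtOver X) (g : V ⟶ E), U = Over.mk g := ⟨U.left, U.hom, rfl⟩
  choose O hO hxO _ using fun x : ↥V.obj.left.left =>
    exists_isAffineOpen_mem_and_subset (x := x) (U := (⊤ : V.obj.left.left.Opens)) trivial
  refine ((etTop X).over E).superset_covering ?_ (((etTop X).overEquiv_symm_mem_over (Over.mk g) _
    (AlgSpDec.ofArrows_mem_etTop (fun x => AlgSpDec.etOpen V (O x)) (fun x => AlgSpDec.etOpenι V (O x))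
      fun x => ⟨x, ⟨x, hxO x⟩, rfl⟩)))
  intro Z f hf
  obtain ⟨V', a, b, hb, hab⟩ := (Sieve.overEquiv_symm_iff _ f).1 hf
  obtain ⟨x⟩ := hb
  let q : Z ⟶ Over.mk (AlgSpDec.etOpenι V (O x) ≫ g) := Over.homMk a (by
    show a ≫ AlgSpDec.etOpenι V (O x) ≫ g = Z.hom
    rw [← Category.assoc]
    exact (congrArg (· ≫ g) hab).trans (Over.w f))
  have hf' : f = q ≫ (Over.homMk (U := Over.mk (AlgSpDec.etOpenι V (O x) ≫ g)) (V := Over.mk g)
      (AlgSpDec.etOpenι V (O x)) rfl) := Over.OverMorphism.ext hab.symm
  rw [hf']
  refine (Presheaf.imageSieve ((PresheafOfModules.toPresheaf _).map φ) s).downward_closed ?_ q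
  exact h (AlgSpDec.etOpen V (O x)) (AlgSpDec.etOpenι V (O x) ≫ g) (hO x) _

variable {M : ModEt X}

/-- A section of the slice from its value at the identity. -/
noncomputable def secTop (N : SheafOfModules.{u + 1} (ROn E)) (s : N.val.obj (sObj (𝟙 E))) : N.sections :=
  PresheafOfModules.sectionsMk (fun W => N.val.map (topMap W) s) fun W W' f => by
    have e : topMap W ≫ f = topMap W' := Quiver.Hom.unop_inj (Over.OverMorphism.ext (Over.w f.unop))
    rw [← e, PresheafOfModules.map_comp_apply]

/-- Sections of a subobject of a free module generate it as soon as their coefficient vectors span. -/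
theorem epi_relations {I K : Type (u + 1)} (N : SheafOfModules.{u + 1} (ROn E))
    (ι : N ⟶ SheafOfModules.free (R := ROn E) I) [Mono ι] (c : K → I →₀ Fn E)
    (r : K → N.val.obj (sObj (𝟙 E)))
    (hr : ∀ k, ι.val.app (sObj (𝟙 E)) (r k) = (FreeLoc.η₀ (ROn E) I).app (sObj (𝟙 E)) (toPF (𝟙 E) (c k)))
    (hspan : ∀ {V : EtOver X} (g : V ⟶ E), IsAffine V.obj.left.left → ∀ (z : N.val.obj (sObj g)) (t : I →₀ Fn V),
      (FreeLoc.η₀ (ROn E) I).app (sObj g) (toPF g t) = ι.val.app (sObj g) z →
        t ∈ Submodule.span (Fn V) (Set.range fun k => (c k).mapRange (fmap g) (map_zero _))) :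
    Epi (N.freeHomEquiv.symm fun k => secTop N (r k)) := by
  let rsec : K → N.sections := fun k => secTop N (r k)
  let κ : SheafOfModules.free (R := ROn E) K ⟶ N := N.freeHomEquiv.symm rsec
  let ρ : FreeLoc.pfree (ROn E) K ⟶ N.val := FreeLoc.η₀ (ROn E) K ≫ κ.val
  have hσ : FreeLoc.pdesc (fun k => secOfTop (c k)) ≫ FreeLoc.η₀ (ROn E) I = ρ ≫ ι.val := by
    refine pdesc_comp_η₀ N ι rsec c fun k => ?_
    refine (hr k).symm.trans (congrArg _ ?_)
    show r k = N.val.map (topMap (sObj (𝟙 E))) (r k)
    rw [show topMap (sObj (𝟙 E)) = 𝟙 _ from Quiver.Hom.unop_inj (Over.OverMorphism.ext rfl)]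
    exact ((PresheafOfModules.congr_map_apply (M := N.val) rfl (r k)).trans (by simp)).symm
  have hsurj' : ∀ (V : EtOver X) (g : V ⟶ E), IsAffine V.obj.left.left →
      Function.Surjective (ρ.app (sObj g)) := by
    intro V g hV z
    haveI := hV
    have hinj : Function.Injective (ι.val.app (sObj g)) := by
      let F := SheafOfModules.evaluation (ROn E) (sObj g)
      haveI : PreservesFiniteLimits F := inferInstance
      exact (ModuleCat.mono_iff_injective _).1 (inferInstanceAs (Mono (F.map ι)))
    obtain ⟨t', ht'⟩ := (bijective_η₀ (I := I) g).2 (ι.val.app (sObj g) z)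
    obtain ⟨t, rfl⟩ := toPF_surjective g t'
    obtain ⟨v, hv⟩ := Finsupp.mem_span_range_iff_exists_finsupp.1 (hspan g hV z t ht')
    refine ⟨toPF g v, hinj ?_⟩
    refine (congrArg (fun φ => PresheafOfModules.Hom.app φ (sObj g) (toPF g v)) hσ).symm.trans ?_
    rw [← ht']
    refine congrArg ((FreeLoc.η₀ (ROn E) I).app (sObj g)) ?_
    exact (pdesc_toPF g c v).trans (congrArg (toPF g) hv)
  haveI := isLocallySurjective_of_affine ρ hsurj'
  haveI : Sheaf.IsLocallySurjective ((SheafOfModules.toSheaf _).map κ) :=
    Presheaf.isLocallySurjective_of_isLocallySurjective_fac ((etTop X).over E)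
      (f₁ := (PresheafOfModules.toPresheaf _).map (FreeLoc.η₀ (ROn E) K))
      (f₂ := ((SheafOfModules.toSheaf _).map κ).hom) (f₃ := (PresheafOfModules.toPresheaf _).map ρ)
      ((Functor.map_comp _ _ _).symm)
  haveI := (Sheaf.isLocallySurjective_iff_epi' _ ((SheafOfModules.toSheaf _).map κ)).1 inferInstance
  exact (SheafOfModules.toSheaf _).epi_of_epi_map inferInstance

variable [IsAffine E.obj.left.left]

/-- A presentation of the sections over an affine object presents the module over it. -/
theorem exists_presentation (hM : BC M E) {I K : Type (u + 1)} (e : I → sectModEt M E)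
    (he : Submodule.span (Fn E) (Set.range e) = ⊤) (c : K → I →₀ Fn E)
    (hc : Submodule.span (Fn E) (Set.range c) = LinearMap.ker (Finsupp.linearCombination (Fn E) e)) :
    ∃ p : (M.over E).Presentation, p.generators.I = I ∧ p.relations.I = K := by
  classical
  let secs : I → (M.over E).sections := fun i => secTop (M.over E) (e i)
  let π : SheafOfModules.free (R := ROn E) I ⟶ M.over E := (M.over E).freeHomEquiv.symm secs
  let ψ : FreeLoc.pfree (ROn E) I ⟶ (M.over E).val := FreeLoc.η₀ (ROn E) I ≫ π.val
  have hψ : ∀ {V : EtOver X} (g : V ⟶ E) (t : I →₀ Fn V),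
      ψ.app (sObj g) (toPF g t) = t.sum fun i a => a • res M g (e i) := by
    intro V g t
    rw [app_toPF]
    refine Finsupp.sum_congr fun i _ => congrArg ((upΓ V (t i) : (ROn E).obj.obj (sObj g)) • ·) ?_
    show π.val.app (sObj g) ((FreeLoc.η₀ (ROn E) I).app (sObj g) (ModuleCat.freeMk i)) = _
    rw [FreeLoc.η₀, FreeLoc.pdesc_mk]
    refine (congrArg (fun s => s.1 (sObj g))
      (SheafOfModules.sectionsMap_freeHomEquiv_symm_freeSection (M := M.over E) secs i)).trans ?_
    rfl
  have hsurj : ∀ (V : EtOver X) (g : V ⟶ E), IsAffine V.obj.left.left →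
      Function.Surjective (ψ.app (sObj g)) := by
    intro V g hV
    haveI := hV
    letI := (fmap g).toAlgebra
    suffices key : ∀ s : sectModEt M V, ∃ t : I →₀ Fn V, (t.sum fun i a => a • res M g (e i)) = s by
      intro s
      obtain ⟨t, ht⟩ := key s
      exact ⟨toPF g t, (hψ g t).trans ht⟩
    intro s
    let Φ := Finsupp.linearCombination (Fn V) fun i => res M g (e i)
    have hres : ∀ n : sectModEt M E, res M g n ∈ LinearMap.range Φ := by
      intro n
      have hn : n ∈ Submodule.span (Fn E) (Set.range e) := he ▸ Submodule.mem_top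
      induction hn using Submodule.span_induction with
      | mem x hx => obtain ⟨i, rfl⟩ := hx; exact ⟨Finsupp.single i 1, by simp [Φ]⟩
      | zero => simp
      | add x y _ _ hx hy => rw [map_add]; exact add_mem hx hy
      | smul a x _ hx => rw [res_smul]; exact Submodule.smul_mem _ _ hx
    obtain ⟨z, rfl⟩ := (hM V g hV).2 s
    suffices gam (RingHom.id (Fn V)) (res M g) (res_smul' M g) z ∈ LinearMap.range Φ by
      obtain ⟨t, ht⟩ := this
      exact ⟨t, (Finsupp.linearCombination_apply (Fn V) t).symm.trans ht⟩
    induction z using TensorProduct.induction_on with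
    | zero => simp
    | add x y hx hy => rw [map_add]; exact add_mem hx hy
    | tmul b n => rw [gam_tmul]; exact Submodule.smul_mem _ _ (hres n)
  haveI hπ : Epi π := by
    haveI := isLocallySurjective_of_affine ψ hsurj
    haveI : Sheaf.IsLocallySurjective ((SheafOfModules.toSheaf _).map π) :=
      Presheaf.isLocallySurjective_of_isLocallySurjective_fac ((etTop X).over E)
        (f₁ := (PresheafOfModules.toPresheaf _).map (FreeLoc.η₀ (ROn E) I))
        (f₂ := ((SheafOfModules.toSheaf _).map π).hom) (f₃ := (PresheafOfModules.toPresheaf _).map ψ)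
        ((Functor.map_comp _ _ _).symm)
    haveI := (Sheaf.isLocallySurjective_iff_epi' _ ((SheafOfModules.toSheaf _).map π)).1 inferInstance
    exact (SheafOfModules.toSheaf _).epi_of_epi_map inferInstance
  let G : (M.over E).GeneratingSections := { I := I, s := secs, epi := hπ }
  -- the relations
  let F := SheafOfModules.evaluation (ROn E)
  have hlift : ∀ {V : EtOver X} (g : V ⟶ E) (t : I →₀ Fn V), (t.sum fun i a => a • res M g (e i)) = 0 →
      ∃ z, (kernel.ι π).val.app (sObj g) z = (FreeLoc.η₀ (ROn E) I).app (sObj g) (toPF g t) := by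
    intro V g t ht
    haveI : PreservesFiniteLimits (F (sObj g)) := inferInstance
    have hex : (ShortComplex.mk (kernel.ι π) π (kernel.condition π)).Exact :=
      ShortComplex.exact_of_f_is_kernel _ (kernelIsKernel π)
    refine (ShortComplex.moduleCat_exact_iff _).1
      (hex.map_of_mono_of_preservesKernel (F (sObj g)) inferInstance inferInstance) _ ?_
    exact (hψ g t).trans ht
  choose r hr using fun k : K => hlift (𝟙 E) (c k) (by
    have h : Finsupp.linearCombination (Fn E) e (c k) = 0 :=
      LinearMap.mem_ker.1 (hc ▸ Submodule.subset_span ⟨k, rfl⟩)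
    simp only [res_id]
    exact (Finsupp.linearCombination_apply (Fn E) (c k)).symm.trans h)
  haveI hκ : Epi ((kernel π).freeHomEquiv.symm fun k => secTop (kernel π) (r k)) := by
    refine epi_relations (kernel π) (kernel.ι π) c r hr fun {V} g hV z t ht' => ?_
    haveI := hV
    letI := (fmap g).toAlgebra
    refine mem_span_of_gam_eq_zero (res M g) (res_smul M g)
      (fun w hw => (hM V g hV).1 (hw.trans (map_zero _).symm)) e he c hc t ?_
    rw [← hψ g t]
    show π.val.app (sObj g) ((FreeLoc.η₀ (ROn E) I).app (sObj g) (toPF g t)) = 0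
    rw [ht']
    exact congrArg (fun φ : kernel π ⟶ M.over E => φ.val.app (sObj g) z) (kernel.condition π)
  let Rel : (kernel G.π).GeneratingSections := { I := K, s := fun k => secTop (kernel π) (r k), epi := hκ }
  exact ⟨⟨G, Rel⟩, rfl, rfl⟩

end Groth.Agent.EtQC
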