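import Groth.Agent.EtQC.FromPres
import Groth.Agent.EtQC.WeakAssU
import Groth.Agent.AlgSpLib.Points
import Groth.Agent.WeakAssEtLib.Push

/-!
# Weakly associated points do not depend on the chart
-/

set_option autoImplicit false
set_option backward.isDefEq.respectTransparency false
set_option backward.isDefEq.respectTransparency.types false

universe u

open CategoryTheory CategoryTheory.Limits AlgebraicGeometry Opposite AlgSp
open scoped TensorProduct

namespace Groth.Agent.EtQC

variable {S : Scheme.{u}} {X : Sp S} (M : ModEt X)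

theorem isWeakAssOn_iff (E : EtOver X) [IsAffine E.obj.left.left] (w : E.obj.left.left) :
    IsWeakAssOn M E w ↔ primeAtPt E.obj.left.left w ∈ FlatCA.weakAss (Fn E) (sectModEt M E) := by
  refine exists_congr fun s => ?_
  have : annSect s = (Submodule.span (Fn E) {s}).annihilator := by
    ext a
    rw [Submodule.mem_annihilator_span_singleton, mem_annSect_iff]
    exact Iff.rfl
  rw [this]

theorem etale_fmap {E E' : EtOver X} (g : E' ⟶ E) [IsAffine E.obj.left.left] [IsAffine E'.obj.left.left] :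
    letI := (fmap g).toAlgebra; Algebra.Etale (Fn E) (Fn E') := by
  haveI := EtOver.etale_left g
  letI := (fmap g).toAlgebra
  exact RingHom.etale_algebraMap.1
    ((HasRingHomProperty.iff_of_isAffine (P := @Etale)).1 (inferInstanceAs (Etale g.hom.left.left)))

variable [M.IsQuasicoherent]

/-- The sections over an affine object over an affine object. -/
noncomputable def bcEquiv {E E' : EtOver X} (g : E' ⟶ E) [IsAffine E.obj.left.left] [IsAffine E'.obj.left.left] :
    letI := (fmap g).toAlgebra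
    Fn E' ⊗[Fn E] sectModEt M E ≃ₗ[Fn E'] sectModEt M E' :=
  letI := (fmap g).toAlgebra
  LinearEquiv.ofBijective
    ({ toFun := gam (RingHom.id (Fn E')) (res M g) (res_smul' M g)
       map_add' := map_add _
       map_smul' := fun a z => by
        induction z using TensorProduct.induction_on with
        | zero => simp
        | add x y hx hy => simp only [smul_add, map_add, hx, hy]
        | tmul b n =>
          rw [TensorProduct.smul_tmul', gam_tmul, gam_tmul, RingHom.id_apply, RingHom.id_apply, RingHom.id_apply,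
            smul_eq_mul, mul_smul] } : Fn E' ⊗[Fn E] sectModEt M E →ₗ[Fn E'] sectModEt M E')
    (bc_of_isQuasicoherent M E E' g ‹_›)

theorem isWeakAssOn_iff_of_hom {E E' : EtOver X} (g : E' ⟶ E) [IsAffine E.obj.left.left]
    [IsAffine E'.obj.left.left] (w : E'.obj.left.left) :
    IsWeakAssOn M E' w ↔ IsWeakAssOn M E (g.hom.left.left w) := by
  letI := (fmap g).toAlgebra
  haveI := etale_fmap g
  rw [isWeakAssOn_iff, isWeakAssOn_iff]
  haveI : (primeAtPt E'.obj.left.left w).LiesOver (primeAtPt E.obj.left.left (g.hom.left.left w)) :=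
    ⟨WeakAssEtLib.primeAtPt_apply g.hom.left.left w⟩
  let e := bcEquiv M g
  have h : FlatCA.weakAss (Fn E') (sectModEt M E') = FlatCA.weakAss (Fn E') (Fn E' ⊗[Fn E] sectModEt M E) :=
    le_antisymm (WeakAss.weakAss_subset_of_injective e.symm.toLinearMap e.symm.injective)
      (WeakAss.weakAss_subset_of_injective e.toLinearMap e.injective)
  rw [h]
  exact ⟨fun h => WeakAssU.mem_weakAss_of_etale _ _ h, fun h => WeakAssU.mem_weakAss_of_flat _ _ h⟩

/-- Weak associatedness depends only on the point. -/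
theorem isWeakAssOn_iff_of_eq {E E' : EtOver X} [IsAffine E.obj.left.left] [IsAffine E'.obj.left.left]
    (w : E.obj.left.left) (w' : E'.obj.left.left) (h : Points.ofPt E.obj.hom w = Points.ofPt E'.obj.hom w') :
    IsWeakAssOn M E w ↔ IsWeakAssOn M E' w' := by
  obtain ⟨z, hz₁, hz₂⟩ := AlgSpLib.exists_ofPt_of_eq (E.property.rep.isPullback' E'.obj.hom) h
  let P : EtOver X := EtOver.mk ((yon S).map (E.property.rep.fst' E'.obj.hom) ≫ E.obj.hom)
    (AlgSpLib.repWith_comp ((repWith_yon_map_iff _ _).2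
      (E'.property.property _ _ _ (E.property.rep.isPullback' E'.obj.hom).flip)) E.property)
  let q₁ : P ⟶ E := EtOver.homMk (E.property.rep.fst' E'.obj.hom) rfl
  let q₂ : P ⟶ E' := EtOver.homMk (E.property.rep.snd E'.obj.hom) (E.property.rep.isPullback' E'.obj.hom).w.symm
  obtain ⟨O, hO, hzO, -⟩ := exists_isAffineOpen_mem_and_subset (x := z) (U := (⊤ : P.obj.left.left.Opens)) trivial
  haveI : IsAffine (AlgSpDec.etOpen P O).obj.left.left := hO
  have h₁ := isWeakAssOn_iff_of_hom M (AlgSpDec.etOpenι P O ≫ q₁) ⟨z, hzO⟩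
  have h₂ := isWeakAssOn_iff_of_hom M (AlgSpDec.etOpenι P O ≫ q₂) ⟨z, hzO⟩
  have e₁ : (AlgSpDec.etOpenι P O ≫ q₁).hom.left.left ⟨z, hzO⟩ = w := hz₁
  have e₂ : (AlgSpDec.etOpenι P O ≫ q₂).hom.left.left ⟨z, hzO⟩ = w' := hz₂
  rw [e₁] at h₁
  rw [e₂] at h₂
  exact h₁.symm.trans h₂

theorem mem_weakAssEt_iff (E : EtOver X) [IsAffine E.obj.left.left] (w : E.obj.left.left) :
    Points.ofPt E.obj.hom w ∈ WeakAssEt M ↔ IsWeakAssOn M E w := by
  refine ⟨?_, fun h => ⟨E, inferInstance, w, rfl, h⟩⟩
  rintro ⟨E', hE', w', hw', h⟩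
  exact (isWeakAssOn_iff_of_eq M w' w hw').1 h

omit [M.IsQuasicoherent] in
/-- Every point lies on an affine chart. -/
theorem exists_affine_chart (hX : IsAlgSpace X) (x : Points X) :
    ∃ (E : EtOver X) (_ : IsAffine E.obj.left.left) (w : E.obj.left.left), Points.ofPt E.obj.hom w = x := by
  obtain ⟨U, a, ha, hs⟩ := hX.atlas
  obtain ⟨v, hv⟩ := AlgSpLib.surjective_ofPt hs x
  obtain ⟨O, hO, hvO, -⟩ := exists_isAffineOpen_mem_and_subset (x := v) (U := (⊤ : U.left.Opens)) trivial
  refine ⟨AlgSpDec.etOpen (EtOver.mk a ha) O, hO, ⟨v, hvO⟩, ?_⟩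
  refine (AlgSpLib.ofPt_comp _ a _).trans ?_
  exact hv

end Groth.Agent.EtQC
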